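import Groth.Agent.ArSurf.K481.MinUniqH0
import Groth.Agent.Models.H54.Bridge
import Groth.Agent.Fga.DVRGeom
import Groth.Agent.Ega43.GeomFibre
import Groth.Agent.Ega4dB.SmoothReg
import Groth.Agent.S2821

/-!
# Smooth proper models have geometrically integral fibres
-/

set_option autoImplicit false
universe u
open CategoryTheory CategoryTheory.Limits AlgebraicGeometry

namespace Groth.Agent.Models.K378.GeomInt

/-- A smooth morphism with geometrically connected fibres has geometrically integral fibres. -/
theorem geometricallyIntegral_of_connected {X S : Scheme.{u}} (p : X ⟶ S) [Smooth p] [GeometricallyConnected p] :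
    GeometricallyIntegral p := by
  refine ⟨?_⟩
  intro K _ y Z fst snd h
  have h1 : Smooth snd := MorphismProperty.of_isPullback (P := @Smooth) h inferInstance
  have h2 : ConnectedSpace Z := GeometricallyConnected.geometrically_connectedSpace (f := p) y fst snd h
  have h3 : IsLocallyNoetherian Z := LocallyOfFiniteType.isLocallyNoetherian snd
  refine (Groth.Agent.Ega1.GenPts.isIntegral_iff _).mpr ⟨h2, fun z => ?_⟩
  have h4 : IsRegularLocalRing (Z.presheaf.stalk z) :=
    Groth.Agent.VarietyA.RegSmoothSch.isRegularLocalRing_stalk_of_mem_smoothLocus (k := K) snd z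
      (by rw [Scheme.Hom.smoothLocus_eq_top]; trivial)
  exact (Groth.Agent.S2821.result _).1

section model

variable {R : Type u} [CommRing R] [IsDomain R] [IsDiscreteValuationRing R]
  {X XR : Scheme.{u}} {f : X ⟶ Spec (CommRingCat.of (FractionRing R))}
  {p : XR ⟶ Spec (CommRingCat.of R)} [IsProper p] [Smooth p] (i : X ⟶ XR)
  (hi : IsPullback i f p (Spec.map (CommRingCat.ofHom (algebraMap R (FractionRing R)))))

include hi

/-- A smooth proper scheme over a discrete valuation ring is a regular proper model of its generic fibre. -/
theorem isRegularProperModel : Models.IsRegularProperModel R XR p X f :=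
  ⟨⟨inferInstance, inferInstance, inferInstance, i, hi⟩, inferInstance,
    fun x => Groth.Agent.Fga.DVRGeom.isRegularLocalRing_stalk p x⟩

theorem isIntegral_model (hX : Curve.IsSmoothProperCurve (FractionRing R) X f) : IsIntegral XR := by
  have := hX.2.2.1
  exact Groth.Agent.Models.H54.Bridge.isIntegral (isRegularProperModel i hi)

/-- A smooth proper scheme over a discrete valuation ring, integral, with `H⁰` of the generic fibre equal to the
fraction field, has geometrically integral fibres. -/
theorem geometricallyIntegral_of_model (hX : Curve.IsSmoothProperCurve (FractionRing R) X f) (hf : IsIso f.appTop) :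
    GeometricallyIntegral p := by
  have h1 : IsIntegral (Over.mk p).left := isIntegral_model i hi hX
  have h2 : Flat (Over.mk p).hom := inferInstanceAs (Flat p)
  have h3 : IsProper (Over.mk p).hom := inferInstanceAs (IsProper p)
  have h4 : IsIso ((Neron.genericFibre R).obj (Over.mk p)).hom.appTop := by
    have h5 := Groth.Agent.Models.H54.Bridge.genIso_hom_hom hi
    have h6 : ((Neron.genericFibre R).obj (Over.mk p)).hom =
        (Groth.Agent.Models.H54.Bridge.genIso hi).inv ≫ f :=
      ((Iso.inv_comp_eq _).2 h5.symm).symm
    have h7 : ((Neron.genericFibre R).obj (Over.mk p)).hom.appTop =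
        f.appTop ≫ (Groth.Agent.Models.H54.Bridge.genIso hi).inv.appTop := by
      rw [← Scheme.Hom.comp_appTop, ← h6]
    have h9 : IsIso (Groth.Agent.Models.H54.Bridge.genIso hi).inv := inferInstance
    have h8 : IsIso (Groth.Agent.Models.H54.Bridge.genIso hi).inv.appTop :=
      inferInstanceAs (IsIso ((Groth.Agent.Models.H54.Bridge.genIso hi).inv.app ⊤))
    rw [h7]
    exact IsIso.comp_isIso' hf h8
  have h5 : GeometricallyConnected p :=
    _root_.K481.MinUniqH0.geometricallyConnected_hom
      Groth.Agent.Dix.RegSurfConn979.isNormalScheme_spec (Over.mk p) h4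
  exact geometricallyIntegral_of_connected p

end model

end Groth.Agent.Models.K378.GeomInt
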