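import Groth.Agent.Models.K378.NormAlg
import Groth.Agent.Models.DVRGeneric2
import Groth.Agent.CurvesC.NormNagata
import Groth.Agent.Ega4C.NormalRing
import Groth.Prelude.Def_Pi1
import Groth.Prelude.Def_Models

/-!
# Normalization of models with geometrically normal generic fibre

Geometric part of S7331.
-/

set_option autoImplicit false
set_option linter.style.haveILetI false
universe u

open CategoryTheory CategoryTheory.Limits AlgebraicGeometry IsLocalRing
open scoped TensorProduct

namespace K378.NormGeom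

open Groth.Agent Groth.Agent.Models

theorem isNormalScheme_of_isOpenImmersion {X Y : Scheme.{u}} (f : X ⟶ Y) [IsOpenImmersion f]
    (hY : Pi1.IsNormalScheme Y) : Pi1.IsNormalScheme X := by
  intro x
  obtain ⟨h1, h2⟩ := hY (f x)
  let e : Y.presheaf.stalk (f x) ≃+* X.presheaf.stalk x :=
    (asIso (f.stalkMap x)).commRingCatIsoToRingEquiv
  exact ⟨e.symm.toMulEquiv.isDomain _, IsIntegrallyClosed.of_equiv e⟩

theorem isNormalRing_of_spec {B : Type u} [CommRing B]
    (h : Pi1.IsNormalScheme (Spec (CommRingCat.of B))) : EGA4.IsNormalRing B := by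
  intro p hp
  obtain ⟨h1, h2⟩ := h ⟨p, hp⟩
  let e : (Spec (CommRingCat.of B)).presheaf.stalk ⟨p, hp⟩ ≃+* Localization.AtPrime p :=
    (Spec.stalkIso (CommRingCat.of B) ⟨p, hp⟩).commRingCatIsoToRingEquiv
  have hd : IsDomain (Localization.AtPrime p) := e.symm.toMulEquiv.isDomain _
  exact ⟨hd, IsIntegrallyClosed.of_equiv e⟩

/-- Normality of the base change of an affine open. -/
theorem isNormalRing_tensor {k : Type u} [Field k] {V : Scheme.{u}}
    (f : V ⟶ Spec (CommRingCat.of k)) (K' : Type u) [Field K'] [Algebra k K']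
    (hgn : Pi1.IsNormalScheme (pullback f (Spec.map (CommRingCat.ofHom (algebraMap k K')))))
    {B : Type u} [CommRing B] [Algebra k B] (i : Spec (CommRingCat.of B) ⟶ V) [IsOpenImmersion i]
    (hi : i ≫ f = Spec.map (CommRingCat.ofHom (algebraMap k B))) :
    EGA4.IsNormalRing (B ⊗[k] K') := by
  let g := Spec.map (CommRingCat.ofHom (algebraMap k K'))
  let j : pullback (i ≫ f) g ⟶ pullback f g :=
    (pullbackRightPullbackFstIso f g i).inv ≫ pullback.snd i (pullback.fst f g)
  have hj : IsOpenImmersion j := inferInstance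
  have h1 : Pi1.IsNormalScheme (pullback (i ≫ f) g) := isNormalScheme_of_isOpenImmersion j hgn
  rw [hi] at h1
  have h2 : Pi1.IsNormalScheme (Spec (CommRingCat.of (B ⊗[k] K'))) :=
    isNormalScheme_of_isOpenImmersion (pullbackSpecIso k B K').inv h1
  exact isNormalRing_of_spec h2

theorem isIntegrallyClosed_of_isNormalRing {B : Type u} [CommRing B] [IsDomain B]
    (h : EGA4.IsNormalRing B) : IsIntegrallyClosed B :=
  IsIntegrallyClosed.of_localization_maximal fun P _ _ => (h P).2

section dvr

variable {R : Type u} [CommRing R] [IsDomain R] [IsDiscreteValuationRing R]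

/-- The completed fraction field. -/
theorem isField_tensor : IsField (FractionRing R ⊗[R] AdicCompletion (maximalIdeal R) R) := by
  set Rh := AdicCompletion (maximalIdeal R) R with hRh
  haveI hRN : IsNoetherianRing Rh := S0543.result R _
  obtain ⟨_, _⟩ := (S0549.result R).mp ⟨inferInstance, inferInstance⟩
  obtain ⟨ϖ, hϖ⟩ := IsDiscreteValuationRing.exists_irreducible R
  have hmax : maximalIdeal Rh = Ideal.span {algebraMap R Rh ϖ} :=
    AdicCompletion.maximalIdeal_eq_map.trans
      ((congrArg (Ideal.map (algebraMap R Rh)) hϖ.maximalIdeal_eq).trans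
        (by rw [Ideal.map_span, Set.image_singleton]))
  have hϖ' : Irreducible (algebraMap R Rh ϖ) :=
    (IsDiscreteValuationRing.irreducible_iff_uniformizer _).2 hmax
  haveI := DVRGeneric.isLocalization_away R ϖ hϖ (FractionRing R)
  haveI := DVRGeneric.isLocalization_away Rh (algebraMap R Rh ϖ) hϖ' (FractionRing Rh)
  have hloc : IsLocalization (Algebra.algebraMapSubmonoid Rh (Submonoid.powers ϖ))
    (Rh ⊗[R] FractionRing R) := inferInstance
  rw [Algebra.algebraMapSubmonoid_powers] at hloc
  let e1 : Rh ⊗[R] FractionRing R ≃+* FractionRing Rh :=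
    (IsLocalization.algEquiv (Submonoid.powers (algebraMap R Rh ϖ)) (Rh ⊗[R] FractionRing R)
      (FractionRing Rh)).toRingEquiv
  let e2 : FractionRing R ⊗[R] Rh ≃+* Rh ⊗[R] FractionRing R :=
    (Algebra.TensorProduct.comm R (FractionRing R) Rh).toRingEquiv
  exact MulEquiv.isField (Field.toIsField (FractionRing Rh)) (e2.trans e1).toMulEquiv

variable {V X : Scheme.{u}} (f : V ⟶ Spec (CommRingCat.of (FractionRing R)))
  (p : X ⟶ Spec (CommRingCat.of R))

theorem normal_completed
    (hgn : ∀ (K' : Type u) [Field K'] [Algebra (FractionRing R) K'],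
      Pi1.IsNormalScheme (pullback f (Spec.map (CommRingCat.ofHom (algebraMap (FractionRing R) K')))))
    {B : Type u} [CommRing B] [Algebra R B] (i : Spec (CommRingCat.of B) ⟶ V) [IsOpenImmersion i]
    (hi : i ≫ f ≫ Spec.map (CommRingCat.ofHom (algebraMap R (FractionRing R))) =
      Spec.map (CommRingCat.ofHom (algebraMap R B))) :
    EGA4.IsNormalRing (B ⊗[R] AdicCompletion (maximalIdeal R) R) ∧ EGA4.IsNormalRing B := by
  let φ : CommRingCat.of (FractionRing R) ⟶ CommRingCat.of B := Spec.preimage (i ≫ f)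
  have hφ : Spec.map φ = i ≫ f := Spec.map_preimage _
  letI : Algebra (FractionRing R) B := φ.hom.toAlgebra
  have hi' : i ≫ f = Spec.map (CommRingCat.ofHom (algebraMap (FractionRing R) B)) := hφ.symm
  haveI : IsScalarTower R (FractionRing R) B := by
    refine IsScalarTower.of_algebraMap_eq' ?_
    have h1 : Spec.map (CommRingCat.ofHom ((algebraMap (FractionRing R) B).comp
        (algebraMap R (FractionRing R)))) = Spec.map (CommRingCat.ofHom (algebraMap R B)) := by
      rw [CommRingCat.ofHom_comp, Spec.map_comp, ← hi', Category.assoc, hi]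
    have h2 := Spec.map_injective h1
    have h3 := congrArg CommRingCat.Hom.hom h2
    exact h3.symm
  constructor
  · letI : Field (FractionRing R ⊗[R] AdicCompletion (maximalIdeal R) R) := isField_tensor.toField
    have h1 := isNormalRing_tensor f (FractionRing R ⊗[R] AdicCompletion (maximalIdeal R) R)
      (hgn _) i hi'
    let e : B ⊗[FractionRing R] (FractionRing R ⊗[R] AdicCompletion (maximalIdeal R) R) ≃ₐ[B]
        B ⊗[R] AdicCompletion (maximalIdeal R) R :=
      Algebra.TensorProduct.cancelBaseChange R (FractionRing R) B B _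
    exact Ega4C.NormUnion.isNormalRing_of_ringEquiv e.symm.toRingEquiv h1
  · have h1 := isNormalRing_tensor f (FractionRing R) (hgn _) i hi'
    exact Ega4C.NormUnion.isNormalRing_of_ringEquiv
      (Algebra.TensorProduct.rid (FractionRing R) (FractionRing R) B).symm.toRingEquiv h1


/-- Data on an affine open of a model. -/
theorem affine_data {ϖ : R} (hϖ : Irreducible ϖ)
    (hgn : ∀ (K' : Type u) [Field K'] [Algebra (FractionRing R) K'],
      Pi1.IsNormalScheme (pullback f (Spec.map (CommRingCat.ofHom (algebraMap (FractionRing R) K')))))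
    (hX : Models.IsModel R X p V f) [IsIntegral X] (U : X.Opens) (hU : IsAffineOpen U) [Nonempty U] :
    ∃ (_ : Algebra R Γ(X, U)) (_ : Module.Flat R Γ(X, U)) (_ : Algebra.FiniteType R Γ(X, U))
      (B : Type u) (_ : CommRing B) (_ : Algebra R B) (_ : Algebra Γ(X, U) B)
      (_ : IsScalarTower R Γ(X, U) B) (_ : IsLocalization.Away (algebraMap R Γ(X, U) ϖ) B),
      IsIntegrallyClosed B ∧ EGA4.IsNormalRing (B ⊗[R] AdicCompletion (maximalIdeal R) R) := by
  obtain ⟨hflat, hft, hqc, g, hg⟩ := hX
  have hgo : IsOpenImmersion g := DVRGeneric.isOpenImmersion_of_isPullback hg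
  have hi' := DVRGeneric.isOpenImmersion_generic R (FractionRing R)
  have hr := DVRGeneric.opensRange_eq_of_isPullback hg
  let φ : CommRingCat.of R ⟶ Γ(X, U) := Spec.preimage (hU.fromSpec ≫ p)
  have hφ : Spec.map φ = hU.fromSpec ≫ p := Spec.map_preimage _
  letI algA : Algebra R Γ(X, U) := φ.hom.toAlgebra
  have hfl : Module.Flat R Γ(X, U) := by
    have h1 : Flat (Spec.map φ) := by rw [hφ]; infer_instance
    exact (HasRingHomProperty.Spec_iff (P := @Flat)).1 h1
  have hfin : Algebra.FiniteType R Γ(X, U) := by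
    have h1 : LocallyOfFiniteType (Spec.map φ) := by rw [hφ]; infer_instance
    exact (HasRingHomProperty.Spec_iff (P := @LocallyOfFiniteType)).1 h1
  set D : X.Opens := X.basicOpen (algebraMap R Γ(X, U) ϖ) with hDdef
  have hD : IsAffineOpen D := hU.basicOpen _
  have hle : D ≤ U := X.basicOpen_le _
  let ρ : Γ(X, U) ⟶ Γ(X, D) := X.presheaf.map (homOfLE hle).op
  letI algAB : Algebra Γ(X, U) Γ(X, D) := ρ.hom.toAlgebra
  letI algB : Algebra R Γ(X, D) := (ρ.hom.comp (algebraMap R Γ(X, U))).toAlgebra
  have htower : IsScalarTower R Γ(X, U) Γ(X, D) := IsScalarTower.of_algebraMap_eq' rfl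
  have hloc : IsLocalization.Away (algebraMap R Γ(X, U) ϖ) Γ(X, D) := hU.isLocalization_basicOpen _
  have hρ : Spec.map ρ ≫ hU.fromSpec = hD.fromSpec := hU.map_fromSpec hD _
  -- `D` is contained in the generic fibre
  have hDr : Set.range hD.fromSpec ⊆ Set.range g := by
    rintro _ ⟨z, rfl⟩
    have hz : hD.fromSpec z ∈ D := by
      have : hD.fromSpec z ∈ hD.fromSpec.opensRange := ⟨z, rfl⟩
      rwa [hD.opensRange_fromSpec] at this
    have h1 : hD.fromSpec z ∈ g.opensRange := by
      rw [hr]
      change p (hD.fromSpec z) ∈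
        (Spec.map (CommRingCat.ofHom (algebraMap R (FractionRing R)))).opensRange
      have h2 : p (hD.fromSpec z) = (Spec.map φ) (Spec.map ρ z) := by
        rw [hφ, Scheme.Hom.comp_apply, ← Scheme.Hom.comp_apply (Spec.map ρ), hρ]
      have h3 : p (hD.fromSpec z) ≠ closedPoint R := by
        rw [h2]
        intro h4
        have h5 : ϖ ∈ ((Spec.map φ) (Spec.map ρ z)).asIdeal := by
          rw [h4]
          exact (IsLocalRing.mem_maximalIdeal ϖ).mpr hϖ.not_isUnit
        have h6 : ρ.hom (φ.hom ϖ) ∈ z.asIdeal := h5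
        have h7 : IsUnit (ρ.hom (φ.hom ϖ)) := IsLocalization.Away.algebraMap_isUnit (algebraMap R Γ(X, U) ϖ)
        exact z.isPrime.ne_top (Ideal.eq_top_of_isUnit_mem _ h6 h7)
      exact DVRGeneric.range_generic R (FractionRing R) _ h3
    exact h1
  let i : Spec Γ(X, D) ⟶ V := IsOpenImmersion.lift g hD.fromSpec hDr
  have hig : i ≫ g = hD.fromSpec := IsOpenImmersion.lift_fac _ _ _
  have hio : IsOpenImmersion i := by
    have : IsOpenImmersion (i ≫ g) := by rw [hig]; infer_instance
    exact IsOpenImmersion.of_comp i g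
  have hi : i ≫ f ≫ Spec.map (CommRingCat.ofHom (algebraMap R (FractionRing R))) =
      Spec.map (CommRingCat.ofHom (algebraMap R Γ(X, D))) := by
    rw [← hg.w, ← Category.assoc, hig, ← hρ, Category.assoc, ← hφ, ← Spec.map_comp]
    rfl
  obtain ⟨hB1, hB2⟩ := normal_completed f hgn (B := Γ(X, D)) i hi
  have hϖA : algebraMap R Γ(X, U) ϖ ≠ 0 := by
    have hinj : Function.Injective (algebraMap R Γ(X, U)) := FaithfulSMul.algebraMap_injective R _
    exact fun h => hϖ.ne_zero ((injective_iff_map_eq_zero _).1 hinj _ h)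
  have hdom : IsDomain Γ(X, D) := IsLocalization.isDomain_of_le_nonZeroDivisors
    (M := Submonoid.powers (algebraMap R Γ(X, U) ϖ)) Γ(X, D)
    (powers_le_nonZeroDivisors_of_noZeroDivisors hϖA)
  exact ⟨algA, hfl, hfin, Γ(X, D), inferInstance, algB, algAB, htower, hloc,
    isIntegrallyClosed_of_isNormalRing hB2, hB1⟩

/-- The normalization of a model is finite. -/
theorem isFinite_normalizationι
    (hgn : ∀ (K' : Type u) [Field K'] [Algebra (FractionRing R) K'],
      Pi1.IsNormalScheme (pullback f (Spec.map (CommRingCat.ofHom (algebraMap (FractionRing R) K')))))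
    (hX : Models.IsModel R X p V f) [IsIntegral X]
    [QuasiCompact (X.fromSpecStalk (genericPoint X))] [QuasiSeparated (X.fromSpecStalk (genericPoint X))] :
    IsFinite (Curv2.normalizationι X) := by
  obtain ⟨ϖ, hϖ⟩ := IsDiscreteValuationRing.exists_irreducible R
  refine (isFinite_iff _).mpr ⟨?_, ?_⟩
  · change IsAffineHom (X.fromSpecStalk (genericPoint X)).fromNormalization
    infer_instance
  · intro W hW
    change ((X.fromSpecStalk (genericPoint X)).fromNormalization.app W).hom.Finite
    rw [Scheme.Hom.fromNormalization_app _ hW, CommRingCat.hom_comp]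
    refine RingHom.Finite.comp (RingHom.Finite.of_surjective _
      (ConcreteCategory.bijective_of_isIso ((X.fromSpecStalk (genericPoint X)).normalizationObjIso hW).inv).2) ?_
    by_cases hη : genericPoint X ∈ W
    · have hneV : Nonempty W := ⟨⟨_, hη⟩⟩
      let algK : Algebra Γ(X, W) Γ(Spec (X.presheaf.stalk (genericPoint X)),
        (X.fromSpecStalk (genericPoint X)) ⁻¹ᵁ W) := ((X.fromSpecStalk (genericPoint X)).app W).hom.toAlgebra
      have h1 := CurvesC.NormNagata.isFractionRing X W hW hη
      obtain ⟨_, _, _, B, _, _, _, _, _, hB, hBn⟩ := affine_data f p hϖ hgn hX W hW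
      have hϖA : algebraMap R Γ(X, W) ϖ ≠ 0 := by
        have hinj : Function.Injective (algebraMap R Γ(X, W)) := FaithfulSMul.algebraMap_injective R _
        exact fun h => hϖ.ne_zero ((injective_iff_map_eq_zero _).1 hinj _ h)
      have hAB : Function.Injective (algebraMap Γ(X, W) B) := IsLocalization.injective B
        (powers_le_nonZeroDivisors_of_noZeroDivisors hϖA)
      have hred : IsReduced (B ⊗[R] AdicCompletion (maximalIdeal R) R) :=
        Ega4C.NormalRing.isReduced_of_isNormalRing _ hBn
      exact RingHom.finite_algebraMap.mpr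
        (NormAlg.finite_integralClosure (R := R) B hAB hred _)
    · have hV0 : W = ⊥ := by
        rw [← TopologicalSpace.Opens.not_nonempty_iff_eq_bot]
        rintro ⟨x, hx⟩
        exact hη (((genericPoint_spec X).specializes (Set.mem_univ x)).mem_open W.2 hx)
      subst hV0
      have h1 : Subsingleton Γ(X, ⊥) := inferInstance
      exact CurvesC.NormNagata.finite_of_subsingleton _

/-- The completions of the local rings of the normalization of a model are normal domains. -/
theorem cpl_stalk
    (hgn : ∀ (K' : Type u) [Field K'] [Algebra (FractionRing R) K'],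
      Pi1.IsNormalScheme (pullback f (Spec.map (CommRingCat.ofHom (algebraMap (FractionRing R) K')))))
    (hX : Models.IsModel R X p V f) [IsIntegral X]
    [QuasiCompact (X.fromSpecStalk (genericPoint X))] [QuasiSeparated (X.fromSpecStalk (genericPoint X))]
    (x : ↥(Curv2.normalization X)) :
    IsDomain (Curv2.cpl ((Curv2.normalization X).presheaf.stalk x)) ∧
      IsIntegrallyClosed (Curv2.cpl ((Curv2.normalization X).presheaf.stalk x)) := by
  obtain ⟨ϖ, hϖ⟩ := IsDiscreteValuationRing.exists_irreducible R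
  have hfin := isFinite_normalizationι f p hgn hX
  obtain ⟨hint, -, -, -⟩ := S2351.result X
  obtain ⟨_, ⟨U, hU', rfl⟩, hxU, -⟩ :=
    X.isBasis_affineOpens.exists_subset_of_mem_open (Set.mem_univ (Curv2.normalizationι X x)) isOpen_univ
  have hU : IsAffineOpen U := hU'
  have hxV : x ∈ Curv2.normalizationι X ⁻¹ᵁ U := hxU
  have hη : genericPoint X ∈ U :=
    ((genericPoint_spec X).mem_open_set_iff U.isOpen).mpr (by simpa using ⟨_, hxU⟩)
  have hne : Nonempty U := ⟨⟨_, hη⟩⟩
  have hne' : Nonempty (Curv2.normalizationι X ⁻¹ᵁ U : (Curv2.normalization X).Opens) := ⟨⟨x, hxV⟩⟩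
  have hIC := S2351.isIntegrallyClosed_sections X U hU hη
  have hV : IsAffineOpen (Curv2.normalizationι X ⁻¹ᵁ U) := hU.preimage _
  have hloc := hV.isLocalization_stalk ⟨x, hxV⟩
  obtain ⟨_, _, _, B, _, _, _, _, _, hB, hBn⟩ := affine_data f p hϖ hgn hX U hU
  letI algAA' : Algebra Γ(X, U) Γ(Curv2.normalization X, Curv2.normalizationι X ⁻¹ᵁ U) :=
    ((Curv2.normalizationι X).app U).hom.toAlgebra
  have hfinA : Module.Finite Γ(X, U) Γ(Curv2.normalization X, Curv2.normalizationι X ⁻¹ᵁ U) :=
    (isFinite_iff _).mp hfin |>.2 U hU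
  have hdom : IsDomain Γ(Curv2.normalization X, Curv2.normalizationι X ⁻¹ᵁ U) := inferInstance
  -- the structure of the sections
  have hstr : Function.Injective (algebraMap Γ(X, U) Γ(Curv2.normalization X, Curv2.normalizationι X ⁻¹ᵁ U)) ∧
      ∀ y : Γ(Curv2.normalization X, Curv2.normalizationι X ⁻¹ᵁ U), ∃ s : Γ(X, U), s ≠ 0 ∧ ∃ a : Γ(X, U),
        algebraMap Γ(X, U) Γ(Curv2.normalization X, Curv2.normalizationι X ⁻¹ᵁ U) s * y =
          algebraMap Γ(X, U) Γ(Curv2.normalization X, Curv2.normalizationι X ⁻¹ᵁ U) a := by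
    let algK : Algebra Γ(X, U) Γ(Spec (X.presheaf.stalk (genericPoint X)),
        (X.fromSpecStalk (genericPoint X)) ⁻¹ᵁ U) := ((X.fromSpecStalk (genericPoint X)).app U).hom.toAlgebra
    have h1 := CurvesC.NormNagata.isFractionRing X U hU hη
    obtain ⟨e, he⟩ : ∃ e : Γ(Curv2.normalization X, Curv2.normalizationι X ⁻¹ᵁ U) ≃+*
        integralClosure Γ(X, U) Γ(Spec (X.presheaf.stalk (genericPoint X)),
        (X.fromSpecStalk (genericPoint X)) ⁻¹ᵁ U), ∀ a : Γ(X, U),
        algebraMap Γ(X, U) Γ(Curv2.normalization X, Curv2.normalizationι X ⁻¹ᵁ U) a =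
        e.symm (algebraMap Γ(X, U) (integralClosure Γ(X, U) Γ(Spec (X.presheaf.stalk (genericPoint X)),
        (X.fromSpecStalk (genericPoint X)) ⁻¹ᵁ U)) a) := by
      refine ⟨((X.fromSpecStalk (genericPoint X)).normalizationObjIso hU).commRingCatIsoToRingEquiv, ?_⟩
      intro a
      have h2 := Scheme.Hom.fromNormalization_app (X.fromSpecStalk (genericPoint X)) hU
      exact congrArg (fun g => g.hom a) h2
    have hinjK : Function.Injective (algebraMap Γ(X, U) Γ(Spec (X.presheaf.stalk (genericPoint X)),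
        (X.fromSpecStalk (genericPoint X)) ⁻¹ᵁ U)) := IsFractionRing.injective Γ(X, U) _
    constructor
    · intro a b hab
      rw [he, he] at hab
      have h3 := e.symm.injective hab
      exact hinjK (congrArg Subtype.val h3)
    · intro y
      obtain ⟨⟨a, s⟩, has⟩ := IsLocalization.surj (nonZeroDivisors Γ(X, U)) (e y).1
      refine ⟨s, nonZeroDivisors.ne_zero s.2, a, ?_⟩
      rw [he, he]
      apply e.injective
      rw [map_mul, e.apply_symm_apply, e.apply_symm_apply]
      apply Subtype.ext
      have : (algebraMap Γ(X, U) (integralClosure Γ(X, U) Γ(Spec (X.presheaf.stalk (genericPoint X)),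
        (X.fromSpecStalk (genericPoint X)) ⁻¹ᵁ U)) s * e y).1 = (e y).1 * algebraMap Γ(X, U) _ s.1 := by
        rw [mul_comm]; rfl
      rw [this, has]
      rfl
  let _ := (Curv2.normalization X).presheaf.algebra_section_stalk (U := Curv2.normalizationι X ⁻¹ᵁ U) ⟨x, hxV⟩
  exact NormAlg.cpl_main hϖ B hBn hstr.1 hstr.2 (hV.primeIdealOf ⟨x, hxV⟩).asIdeal
    ((Curv2.normalization X).presheaf.stalk x)

end dvr

end K378.NormGeom
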