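import Groth.Agent.Models.K378.Dynkin

set_option autoImplicit false

open Finset

/-! Excluded configurations in a Dynkin system: cycles, chains with two double edges, forks. -/

namespace K378.Dynkin

/-- No cycles (on all of `Fin t`). -/
theorem cycle_fin {t : ℕ} (ht : 3 ≤ t) (c : Fin t → Fin t → ℝ) (h : Sys c)
    (hc : ∀ i j : Fin t, j.val = i.val + 1 → c i j ≠ 0)
    (hl : ∀ i j : Fin t, i.val = 0 → j.val + 1 = t → c i j ≠ 0) : False := by
  have hx0 : ∀ i : Fin t, (0 : ℝ) ≤ (fun _ : Fin t => (1 : ℝ)) i := fun _ => zero_le_one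
  refine h.no_null (fun _ => 1) hx0 (fun h0 => ?_) fun i _ => ?_
  · have := congrFun h0 ⟨0, by omega⟩
    simp at this
  -- two distinct neighbours
  obtain ⟨j, k, hij, hik, hjk, h1, h2⟩ : ∃ j k : Fin t, i ≠ j ∧ i ≠ k ∧ j ≠ k ∧ c i j ≠ 0 ∧
      c i k ≠ 0 := by
    obtain ⟨i, hi⟩ := i
    by_cases hi0 : i = 0
    · refine ⟨⟨1, by omega⟩, ⟨t - 1, by omega⟩, ?_, ?_, ?_, ?_, ?_⟩
      · simp only [ne_eq, Fin.mk.injEq]; omega
      · simp only [ne_eq, Fin.mk.injEq]; omega
      · simp only [ne_eq, Fin.mk.injEq]; omega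
      · exact hc _ _ (by simp only; omega)
      · exact hl _ _ (by simp only; omega) (by simp only; omega)
    · by_cases hi1 : i + 1 = t
      · refine ⟨⟨i - 1, by omega⟩, ⟨0, by omega⟩, ?_, ?_, ?_, ?_, ?_⟩
        · simp only [ne_eq, Fin.mk.injEq]; omega
        · simp only [ne_eq, Fin.mk.injEq]; omega
        · simp only [ne_eq, Fin.mk.injEq]; omega
        · rw [h.symm]; exact hc _ _ (by simp only; omega)
        · rw [h.symm]; exact hl _ _ (by simp only) (by simp only; omega)
      · refine ⟨⟨i - 1, by omega⟩, ⟨i + 1, by omega⟩, ?_, ?_, ?_, ?_, ?_⟩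
        · simp only [ne_eq, Fin.mk.injEq]; omega
        · simp only [ne_eq, Fin.mk.injEq]; omega
        · simp only [ne_eq, Fin.mk.injEq]; omega
        · rw [h.symm]; exact hc _ _ (by simp only; omega)
        · exact hc _ _ (by simp only)
  have h3 := h.row_ge3 (fun _ => 1) hx0 i j k hij hik hjk
  have h4 := h.one_le i j hij h1
  have h5 := h.one_le i k hik h2
  simp only [mul_one] at h3
  simp only [mul_one]
  linarith

/-- No chain with a double edge at both ends. -/
theorem two_double_fin {t : ℕ} (ht : 3 ≤ t) (c : Fin t → Fin t → ℝ) (h : Sys c)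
    (hc : ∀ i j : Fin t, j.val = i.val + 1 → c i j ≠ 0)
    (h0 : ∀ i j : Fin t, i.val = 0 → j.val = 1 → c i j = √2)
    (hl : ∀ i j : Fin t, i.val + 2 = t → j.val + 1 = t → c i j = √2) : False := by
  have p2 := sqrt_two_pos
  have e2 := sqrt_two_sq
  set x : Fin t → ℝ := fun i => if i.val = 0 ∨ i.val + 1 = t then √2 else 2 with hx
  have hx0 : ∀ i : Fin t, 0 ≤ x i := by
    intro i
    rw [hx]
    simp only
    split_ifs <;> positivity
  have hxend : ∀ i : Fin t, (i.val = 0 ∨ i.val + 1 = t) → x i = √2 := fun i hi => if_pos hi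
  have hxmid : ∀ i : Fin t, ¬ (i.val = 0 ∨ i.val + 1 = t) → x i = 2 := fun i hi => if_neg hi
  -- a lower bound for the contribution of a neighbour to an inner vertex
  have key : ∀ i j : Fin t, ¬ (i.val = 0 ∨ i.val + 1 = t) → (j.val = i.val + 1 ∨ i.val = j.val + 1) →
      2 ≤ c i j * x j := by
    intro i j hi hj
    have hij : i ≠ j := by
      intro h; rw [h] at hj; omega
    by_cases hje : j.val = 0 ∨ j.val + 1 = t
    · rw [hxend j hje]
      have : c i j = √2 := by
        rcases hje with hje | hje
        · rw [h.symm]; exact h0 _ _ hje (by omega)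
        · exact hl _ _ (by omega) hje
      rw [this, e2]
    · rw [hxmid j hje]
      have : c i j ≠ 0 := by
        rcases hj with hj | hj
        · exact hc _ _ hj
        · rw [h.symm]; exact hc _ _ hj
      have := h.one_le i j hij this
      linarith
  refine h.no_null x hx0 (fun h1 => ?_) fun i _ => ?_
  · have h2 := congrFun h1 ⟨0, by omega⟩
    rw [hxend _ (Or.inl rfl)] at h2
    exact p2.ne' h2
  by_cases hie : i.val = 0 ∨ i.val + 1 = t
  · rcases hie with hi0 | hi1
    · have hij : i ≠ ⟨1, by omega⟩ := by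
        intro h; rw [h] at hi0; simp at hi0
      have h3 := h.row_ge2 x hx0 i ⟨1, by omega⟩ hij
      rw [hxend i (Or.inl hi0), hxmid ⟨1, by omega⟩ (by simp only; omega), h0 _ _ hi0 rfl] at h3
      linarith
    · have hij : i ≠ ⟨t - 2, by omega⟩ := by
        intro h; rw [h] at hi1; simp only at hi1; omega
      have h3 := h.row_ge2 x hx0 i ⟨t - 2, by omega⟩ hij
      rw [hxend i (Or.inr hi1), hxmid ⟨t - 2, by omega⟩ (by simp only; omega), h.symm,
        hl _ _ (by simp only; omega) hi1] at h3
      linarith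
  · have hlt := i.isLt
    have h3 := h.row_ge3 x hx0 i ⟨i.val - 1, by omega⟩ ⟨i.val + 1, by omega⟩
      (by intro h; have := congrArg Fin.val h; simp only at this; omega)
      (by intro h; have := congrArg Fin.val h; simp only at this; omega)
      (by simp only [ne_eq, Fin.mk.injEq]; omega)
    rw [hxmid i hie] at h3
    have h4 := key i ⟨i.val - 1, by omega⟩ hie (Or.inr (by simp only; omega))
    have h5 := key i ⟨i.val + 1, by omega⟩ hie (Or.inl (by simp only))
    linarith

/-- No fork at one end of a chain with a double edge at the other end: vertices `0, …, t`,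
chain `1 - 2 - … - t`, `0` attached to `2`, last edge double. -/
theorem fork_double_fin {t : ℕ} (ht : 3 ≤ t) (c : Fin (t + 1) → Fin (t + 1) → ℝ) (h : Sys c)
    (hc : ∀ i j : Fin (t + 1), 1 ≤ i.val → j.val = i.val + 1 → c i j ≠ 0)
    (h0 : ∀ i j : Fin (t + 1), i.val = 0 → j.val = 2 → c i j ≠ 0)
    (hl : ∀ i j : Fin (t + 1), i.val + 1 = t → j.val = t → c i j = √2) : False := by
  have p2 := sqrt_two_pos
  have e2 := sqrt_two_sq
  set x : Fin (t + 1) → ℝ := fun i => if i.val ≤ 1 then 1 else if i.val = t then √2 else 2 with hx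
  have hx0 : ∀ i : Fin (t + 1), 0 ≤ x i := by
    intro i
    rw [hx]
    simp only
    split_ifs <;> positivity
  have hxa : ∀ i : Fin (t + 1), i.val ≤ 1 → x i = 1 := fun i hi => if_pos hi
  have hxt : ∀ i : Fin (t + 1), i.val = t → x i = √2 := fun i hi => by
    rw [hx]; simp only; rw [if_neg (by omega), if_pos hi]
  have hxm : ∀ i : Fin (t + 1), 2 ≤ i.val → i.val ≠ t → x i = 2 := fun i hi hi' => by
    rw [hx]; simp only; rw [if_neg (by omega), if_neg hi']
  refine h.no_null x hx0 (fun h1 => ?_) fun i _ => ?_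
  · have h2 := congrFun h1 ⟨0, by omega⟩
    rw [hxa _ (by simp)] at h2
    exact one_ne_zero h2
  have hlt := i.isLt
  by_cases hi1 : i.val ≤ 1
  · -- leaf of the fork
    have hij : i ≠ ⟨2, by omega⟩ := by
      intro h; have := congrArg Fin.val h; simp only at this; omega
    have h3 := h.row_ge2 x hx0 i ⟨2, by omega⟩ hij
    rw [hxa i hi1, hxm ⟨2, by omega⟩ (by simp) (by simp only; omega)] at h3
    have h4 : c i ⟨2, by omega⟩ ≠ 0 := by
      by_cases hi0 : i.val = 0
      · exact h0 _ _ hi0 rfl
      · exact hc _ _ (by omega) (by simp only; omega)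
    have h5 := h.one_le i _ hij h4
    linarith
  · by_cases hit : i.val = t
    · have hij : i ≠ ⟨t - 1, by omega⟩ := by
        intro h; have := congrArg Fin.val h; simp only at this; omega
      have h3 := h.row_ge2 x hx0 i ⟨t - 1, by omega⟩ hij
      rw [hxt i hit, hxm ⟨t - 1, by omega⟩ (by simp only; omega) (by simp only; omega), h.symm,
        hl _ _ (by simp only; omega) hit] at h3
      linarith
    · -- inner vertex: the next vertex contributes at least 2
      have hnext : 2 ≤ c i ⟨i.val + 1, by omega⟩ * x ⟨i.val + 1, by omega⟩ := by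
        by_cases hit' : i.val + 1 = t
        · rw [hxt _ hit', hl _ _ hit' hit', e2]
        · rw [hxm _ (by simp only; omega) hit']
          have := h.one_le i ⟨i.val + 1, by omega⟩ (by
            intro h; have := congrArg Fin.val h; simp only at this; omega)
            (hc _ _ (by omega) rfl)
          linarith
      by_cases hi2 : i.val = 2
      · have h3 := h.row_ge4 x hx0 i ⟨0, by omega⟩ ⟨1, by omega⟩ ⟨i.val + 1, by omega⟩
          (by intro h; have := congrArg Fin.val h; simp only at this; omega)
          (by intro h; have := congrArg Fin.val h; simp only at this; omega)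
          (by intro h; have := congrArg Fin.val h; simp only at this; omega)
          (by simp only [ne_eq, Fin.mk.injEq]; omega)
          (by simp only [ne_eq, Fin.mk.injEq]; omega)
          (by simp only [ne_eq, Fin.mk.injEq]; omega)
        rw [hxm i (by omega) hit, hxa ⟨0, by omega⟩ (by simp), hxa ⟨1, by omega⟩ (by simp)] at h3
        have h4 := h.one_le i ⟨0, by omega⟩
          (by intro h; have := congrArg Fin.val h; simp only at this; omega)
          (by rw [h.symm]; exact h0 _ _ rfl hi2)
        have h5 := h.one_le i ⟨1, by omega⟩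
          (by intro h; have := congrArg Fin.val h; simp only at this; omega)
          (by rw [h.symm]; exact hc _ _ (by simp) (by simp only; omega))
        linarith
      · have h3 := h.row_ge3 x hx0 i ⟨i.val - 1, by omega⟩ ⟨i.val + 1, by omega⟩
          (by intro h; have := congrArg Fin.val h; simp only at this; omega)
          (by intro h; have := congrArg Fin.val h; simp only at this; omega)
          (by simp only [ne_eq, Fin.mk.injEq]; omega)
        rw [hxm i (by omega) hit, hxm ⟨i.val - 1, by omega⟩ (by simp only; omega)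
          (by simp only; omega)] at h3
        have h4 := h.one_le i ⟨i.val - 1, by omega⟩
          (by intro h; have := congrArg Fin.val h; simp only at this; omega)
          (by rw [h.symm]; exact hc _ _ (by simp only; omega) (by simp only; omega))
        linarith

/-- No chain with a fork at both ends: vertices `0, …, t + 1`, chain `1 - 2 - … - t`,
`0` attached to `2` and `t + 1` attached to `t - 1`. -/
theorem fork_fork_fin {t : ℕ} (ht : 3 ≤ t) (c : Fin (t + 2) → Fin (t + 2) → ℝ) (h : Sys c)
    (hc : ∀ i j : Fin (t + 2), 1 ≤ i.val → i.val + 1 ≤ t → j.val = i.val + 1 → c i j ≠ 0)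
    (h0 : ∀ i j : Fin (t + 2), i.val = 0 → j.val = 2 → c i j ≠ 0)
    (hl : ∀ i j : Fin (t + 2), i.val + 1 = t → j.val = t + 1 → c i j ≠ 0) : False := by
  set x : Fin (t + 2) → ℝ := fun i => if i.val ≤ 1 ∨ t ≤ i.val then 1 else 2 with hx
  have hx0 : ∀ i : Fin (t + 2), 0 ≤ x i := by
    intro i
    rw [hx]
    simp only
    split_ifs <;> positivity
  have hxa : ∀ i : Fin (t + 2), (i.val ≤ 1 ∨ t ≤ i.val) → x i = 1 := fun i hi => if_pos hi
  have hxm : ∀ i : Fin (t + 2), ¬ (i.val ≤ 1 ∨ t ≤ i.val) → x i = 2 := fun i hi => if_neg hi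
  have hx1 : ∀ i : Fin (t + 2), 1 ≤ x i := by
    intro i
    by_cases hi : i.val ≤ 1 ∨ t ≤ i.val
    · rw [hxa i hi]
    · rw [hxm i hi]; norm_num
  refine h.no_null x hx0 (fun h1 => ?_) fun i _ => ?_
  · have h2 := congrFun h1 ⟨0, by omega⟩
    rw [hxa _ (by simp)] at h2
    exact one_ne_zero h2
  have hlt := i.isLt
  have one : ∀ i j : Fin (t + 2), i ≠ j → c i j ≠ 0 → 1 ≤ c i j := fun i j => h.one_le i j
  have pr : ∀ i j : Fin (t + 2), i ≠ j → c i j ≠ 0 → x j ≤ c i j * x j := fun i j hij hc => by
    have := one i j hij hc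
    have := hx0 j
    nlinarith
  by_cases hi1 : i.val ≤ 1
  · have hij : i ≠ ⟨2, by omega⟩ := by
      intro h; have := congrArg Fin.val h; simp only at this; omega
    have h3 := h.row_ge2 x hx0 i ⟨2, by omega⟩ hij
    have h4 : c i ⟨2, by omega⟩ ≠ 0 := by
      by_cases hi0 : i.val = 0
      · exact h0 _ _ hi0 rfl
      · exact hc _ _ (by omega) (by omega) (by simp only; omega)
    have h5 := pr _ _ hij h4
    rw [hxa i (Or.inl hi1)] at h3
    rw [hxm ⟨2, by omega⟩ (by simp only; omega)] at h3 h5
    linarith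
  by_cases hit : t ≤ i.val
  · have hij : i ≠ ⟨t - 1, by omega⟩ := by
      intro h; have := congrArg Fin.val h; simp only at this; omega
    have h3 := h.row_ge2 x hx0 i ⟨t - 1, by omega⟩ hij
    have h4 : c i ⟨t - 1, by omega⟩ ≠ 0 := by
      rw [h.symm]
      by_cases hi0 : i.val = t
      · exact hc _ _ (by simp only; omega) (by simp only; omega) (by simp only; omega)
      · exact hl _ _ (by simp only; omega) (by omega)
    have h5 := pr _ _ hij h4
    rw [hxa i (Or.inr hit)] at h3
    rw [hxm ⟨t - 1, by omega⟩ (by simp only; omega)] at h3 h5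
    linarith
  -- inner vertex
  have hprev : c i ⟨i.val - 1, by omega⟩ ≠ 0 := by
    rw [h.symm]; exact hc _ _ (by simp only; omega) (by simp only; omega) (by simp only; omega)
  have hnext : c i ⟨i.val + 1, by omega⟩ ≠ 0 := hc _ _ (by omega) (by omega) rfl
  have nprev : i ≠ ⟨i.val - 1, by omega⟩ := by
    intro h; have := congrArg Fin.val h; simp only at this; omega
  have nnext : i ≠ ⟨i.val + 1, by omega⟩ := by
    intro h; have := congrArg Fin.val h; simp only at this; omega
  have bprev := pr _ _ nprev hprev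
  have bnext := pr _ _ nnext hnext
  have xi := hxm i (by omega)
  by_cases hi2 : i.val = 2
  · have hz : c i ⟨0, by omega⟩ ≠ 0 := by rw [h.symm]; exact h0 _ _ rfl hi2
    have nz : i ≠ ⟨0, by omega⟩ := by
      intro h; have := congrArg Fin.val h; simp only at this; omega
    have bz := pr _ _ nz hz
    by_cases hi3 : i.val + 1 = t
    · -- fourfold vertex
      have hw : c i ⟨t + 1, by omega⟩ ≠ 0 := hl _ _ hi3 rfl
      have nw : i ≠ ⟨t + 1, by omega⟩ := by
        intro h; have := congrArg Fin.val h; simp only at this; omega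
      have bw := pr _ _ nw hw
      have h3 := h.row_ge5 x hx0 i ⟨i.val - 1, by omega⟩ ⟨i.val + 1, by omega⟩ ⟨0, by omega⟩
        ⟨t + 1, by omega⟩ nprev nnext nz nw
        (by simp only [ne_eq, Fin.mk.injEq]; omega) (by simp only [ne_eq, Fin.mk.injEq]; omega)
        (by simp only [ne_eq, Fin.mk.injEq]; omega) (by simp only [ne_eq, Fin.mk.injEq]; omega)
        (by simp only [ne_eq, Fin.mk.injEq]; omega) (by simp only [ne_eq, Fin.mk.injEq]; omega)
      have a1 := hx1 ⟨i.val - 1, by omega⟩
      have a2 := hx1 ⟨i.val + 1, by omega⟩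
      have a3 := hx1 ⟨0, by omega⟩
      have a4 := hx1 ⟨t + 1, by omega⟩
      linarith
    · have h3 := h.row_ge4 x hx0 i ⟨i.val - 1, by omega⟩ ⟨i.val + 1, by omega⟩ ⟨0, by omega⟩
        nprev nnext nz
        (by simp only [ne_eq, Fin.mk.injEq]; omega) (by simp only [ne_eq, Fin.mk.injEq]; omega)
        (by simp only [ne_eq, Fin.mk.injEq]; omega)
      have a1 := hx1 ⟨i.val - 1, by omega⟩
      have a2 := hxm ⟨i.val + 1, by omega⟩ (by simp only; omega)
      have a3 := hx1 ⟨0, by omega⟩
      linarith
  · have a1 := hxm ⟨i.val - 1, by omega⟩ (by simp only; omega)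
    by_cases hi3 : i.val + 1 = t
    · have hw : c i ⟨t + 1, by omega⟩ ≠ 0 := hl _ _ hi3 rfl
      have nw : i ≠ ⟨t + 1, by omega⟩ := by
        intro h; have := congrArg Fin.val h; simp only at this; omega
      have bw := pr _ _ nw hw
      have h3 := h.row_ge4 x hx0 i ⟨i.val - 1, by omega⟩ ⟨i.val + 1, by omega⟩ ⟨t + 1, by omega⟩
        nprev nnext nw
        (by simp only [ne_eq, Fin.mk.injEq]; omega) (by simp only [ne_eq, Fin.mk.injEq]; omega)
        (by simp only [ne_eq, Fin.mk.injEq]; omega)
      have a2 := hx1 ⟨i.val + 1, by omega⟩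
      have a4 := hx1 ⟨t + 1, by omega⟩
      linarith
    · have h3 := h.row_ge3 x hx0 i ⟨i.val - 1, by omega⟩ ⟨i.val + 1, by omega⟩
        nprev nnext (by simp only [ne_eq, Fin.mk.injEq]; omega)
      have a2 := hxm ⟨i.val + 1, by omega⟩ (by simp only; omega)
      linarith

end K378.Dynkin
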