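import Groth.Agent.CurvesB.DimOneTop
import Mathlib.AlgebraicGeometry.Morphisms.QuasiFinite

/-!
# Finite morphisms of integral curves
-/

set_option autoImplicit false
universe u
open CategoryTheory CategoryTheory.Limits AlgebraicGeometry

namespace Groth.Agent.Models.K378.CurveMor

theorem isClosed_of_ne {Y : Scheme.{u}} [IsIntegral Y] (hdim : topologicalKrullDim Y = 1) (y : Y)
    (hy : y ≠ genericPoint Y) : IsClosed ({y} : Set Y) := by
  obtain ⟨-, h2⟩ := CurvesB.DimOneTop.topologicalKrullDim_eq_one_iff.1 hdim
  have h3 : ∀ z, y ⤳ z → z = y := (h2 y).resolve_right fun h =>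
    hy (h _ (genericPoint_specializes y)).symm
  apply isClosed_of_closure_subset
  intro z hz
  exact h3 z (specializes_iff_mem_closure.mpr hz)

theorem not_isClosed_genericPoint {Y : Scheme.{u}} [IsIntegral Y] (hdim : topologicalKrullDim Y = 1) :
    ¬ IsClosed ({genericPoint Y} : Set Y) := by
  intro hc
  obtain ⟨⟨x, y, -, hne⟩, -⟩ := CurvesB.DimOneTop.topologicalKrullDim_eq_one_iff.1 hdim
  have h1 : ∀ z : Y, z = genericPoint Y := fun z => (genericPoint_specializes z).mem_closed hc rfl
  exact hne ((h1 y).trans (h1 x).symm)

theorem finite_residueFieldMap {X Y : Scheme.{u}} (f : X ⟶ Y) [LocallyQuasiFinite f] (x : X) :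
    (f.residueFieldMap x).hom.Finite := by
  have h1 : LocallyQuasiFinite (Spec.map (f.residueFieldMap x) ≫ Y.fromSpecResidueField (f x)) := by
    rw [f.SpecMap_residueFieldMap_fromSpecResidueField]
    infer_instance
  have h2 : LocallyQuasiFinite (Spec.map (f.residueFieldMap x)) :=
    LocallyQuasiFinite.of_comp _ (Y.fromSpecResidueField (f x))
  have h3 : IsLocallyArtinian (Spec (Y.residueField (f x))) := inferInstance
  have h4 : IsFinite (Spec.map (f.residueFieldMap x)) := IsFinite.of_locallyQuasiFinite _
  rwa [IsFinite.SpecMap_iff] at h4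

theorem residueDegree_pos {X Y : Scheme.{u}} (f : X ⟶ Y) [LocallyQuasiFinite f] (x : X) :
    0 < f.residueDegree x := by
  have h := finite_residueFieldMap f x
  unfold Scheme.Hom.residueDegree
  let _ := (f.residueFieldMap x).hom.toAlgebra
  have : Module.Finite (Y.residueField (f x)) (X.residueField x) := h
  exact Module.finrank_pos

variable {X Y : Scheme.{u}} [IsIntegral X] [IsIntegral Y] (hX : topologicalKrullDim X = 1)
  (hY : topologicalKrullDim Y = 1) (f : X ⟶ Y) [IsFinite f]

include hX hY

theorem map_genericPoint : f (genericPoint X) = genericPoint Y := by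
  by_contra hne
  have h1 := isClosed_of_ne hY _ hne
  have h2 : f ⁻¹' {f (genericPoint X)} = Set.univ := by
    apply Set.eq_univ_of_forall
    intro x
    exact ((genericPoint_specializes x).map f.continuous).mem_closed h1 rfl
  have h3 := f.isDiscrete_preimage_singleton (f (genericPoint X))
  rw [h2] at h3
  have h4 : DiscreteTopology X := by
    have h5 := h3.to_subtype
    exact (Homeomorph.Set.univ X).symm.isEmbedding.discreteTopology
  exact not_isClosed_genericPoint hX (isClosed_discrete _)

theorem surjective : Surjective f := by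
  refine ⟨fun y => ?_⟩
  have h1 : IsClosed (Set.range f) := f.isClosedMap.isClosed_range
  have h2 : genericPoint Y ∈ Set.range f := ⟨_, map_genericPoint hX hY f⟩
  exact (genericPoint_specializes y).mem_closed h1 h2

end Groth.Agent.Models.K378.CurveMor
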