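import Groth.Agent.Fga.JacSum
import Groth.Agent.Sga7.H591.DivDeg
import Groth.Agent.Etcore.DegZero
import Groth.Agent.Etcore.DimBaseChange
import Groth.Agent.S7640
import Groth.Agent.S1612
import Groth.Agent.Models.K378.CurveMor
import Groth.Agent.Divis.MapOpen

/-!
# Degrees on smooth proper curves: pullback along finite morphisms, rational points, the diagonal
-/

set_option autoImplicit false
universe u
open CategoryTheory CategoryTheory.Limits AlgebraicGeometry

namespace Groth.Agent.Models.K378.CurveDeg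

open Groth.Agent.Grpsch.PicGrp Groth.Agent.Fga.JacSum Groth.Agent.Etcore.DegZero Groth.Agent.Fdesc.LocGen

/-- The degree, the structure morphism being explicit. -/
noncomputable def dgO (k : Type u) [Field k] {X : Scheme.{u}} (π : X ⟶ Spec (CommRingCat.of k)) (c : Pic X) : ℤ :=
  @dg k _ X ⟨π⟩ c

section

variable (k : Type u) [Field k] {X : Scheme.{u}} (p : X ⟶ Spec (CommRingCat.of k)) [IsIntegral X] [IsProper p]
  (hX : topologicalKrullDim X = 1)

include hX

theorem dgO_mul (a b : Pic X) : dgO k p (a * b) = dgO k p a + dgO k p b := by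
  let : X.Over (Spec (CommRingCat.of k)) := ⟨p⟩
  have : IsProper (X ↘ Spec (CommRingCat.of k)) := ‹IsProper p›
  exact dg_mul k X hX a b

theorem dgO_mk {L : X.Modules} (hL : PicF.IsInvertible L) :
    dgO k p (mk L hL) = @Curv2.deg k _ X ⟨p⟩ L 1 := by
  let : X.Over (Spec (CommRingCat.of k)) := ⟨p⟩
  have : IsProper (X ↘ Spec (CommRingCat.of k)) := ‹IsProper p›
  change dg k X (mk L hL) = Curv2.deg k X L 1
  rw [dg_mk, eulerCharLE_eq k X hX, eulerCharLE_eq k X hX, Curv2.deg, Nat.cast_one, one_mul]

theorem dgO_eq (c : Pic X) : dgO k p c = @Sga7.H591.DivDeg.dg k _ X ⟨p⟩ c := by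
  obtain ⟨L, hL, rfl⟩ := exists_mk c
  rw [dgO_mk k p hX hL]
  exact (@Sga7.H591.DivDeg.dg_mk k _ X ⟨p⟩ L hL).symm

/-- The ideal of a nonempty effective Cartier divisor has negative degree. -/
theorem dgO_dcl_neg (D : X.IdealSheafData) (hD : BlowUp.IsEffCartierIdeal D) (h : (D.support : Set X).Nonempty) :
    dgO k p (Sga7.H591.Dcl.dcl D hD) < 0 := by
  let : X.Over (Spec (CommRingCat.of k)) := ⟨p⟩
  have : IsProper (X ↘ Spec (CommRingCat.of k)) := ‹IsProper p›
  have h1 := Sga7.H591.DivDeg.dg_mul_inv_dcl k X hX.le D hD 1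
  rw [one_mul, Sga7.H591.DivDeg.dg_one, zero_add] at h1
  have h2 := Sga7.H591.DivDeg.finrank_quotMod_pos k X D h
  have h3 := dgO_mul k p hX (Sga7.H591.Dcl.dcl D hD) (Sga7.H591.Dcl.dcl D hD)⁻¹
  have h4 : dgO k p (1 : Pic X) = 0 := dg_one k X
  rw [mul_inv_cancel, h4, dgO_eq k p hX (Sga7.H591.Dcl.dcl D hD)⁻¹, h1] at h3
  have h5 : (0 : ℤ) < Module.finrank k (Coh.HH X (ClSub.quotMod D) 0) := by exact_mod_cast h2
  linarith

end

theorem dgO_one (k : Type u) [Field k] {X : Scheme.{u}} (p : X ⟶ Spec (CommRingCat.of k)) :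
    dgO k p 1 = 0 := @dg_one k _ X ⟨p⟩

/-- The degree is multiplied by a positive integer under pullback along a finite morphism of curves. -/
theorem exists_dgO_pull (k : Type u) [Field k] {X Y : Scheme.{u}} (p : X ⟶ Spec (CommRingCat.of k))
    (q : Y ⟶ Spec (CommRingCat.of k)) [IsIntegral X] [IsIntegral Y] [IsProper p] [IsProper q]
    (hX : topologicalKrullDim X = 1) (hY : topologicalKrullDim Y = 1) (f : X ⟶ Y) [IsFinite f] (hf : f ≫ q = p) :
    ∃ d : ℤ, 0 < d ∧ ∀ c : Pic Y, dgO k p (pull f c) = d * dgO k q c := by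
  refine ⟨f.residueDegree (genericPoint X), by exact_mod_cast CurveMor.residueDegree_pos f _, fun c => ?_⟩
  obtain ⟨L, hL, rfl⟩ := exists_mk c
  rw [pull_mk, dgO_mk k p hX, dgO_mk k q hY]
  let : X.Over (Spec (CommRingCat.of k)) := ⟨p⟩
  let : Y.Over (Spec (CommRingCat.of k)) := ⟨q⟩
  have : IsProper (X ↘ Spec (CommRingCat.of k)) := ‹IsProper p›
  have : IsProper (Y ↘ Spec (CommRingCat.of k)) := ‹IsProper q›
  exact Groth.Agent.S7640.result k X Y hX hY f hf (CurveMor.map_genericPoint hX hY f) 1 L
    (Ega2.QCohLocal.isFinLocFreeOfRank_one_iff.2 hL)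

/-- Invariance under extension of the base field. -/
theorem dgO_bc {k k' : Type u} [Field k] [Field k'] {X X' : Scheme.{u}} (p : X ⟶ Spec (CommRingCat.of k))
    (p' : X' ⟶ Spec (CommRingCat.of k')) [QuasiCompact p] [QuasiSeparated p] (g : X' ⟶ X)
    (s : Spec (CommRingCat.of k') ⟶ Spec (CommRingCat.of k)) (h : IsPullback g p' p s) (c : Pic X) :
    dgO k' p' (pull g c) = dgO k p c := by
  have h1 : CompactSpace X := QuasiCompact.compactSpace_of_compactSpace p
  have h2 : QuasiSeparatedSpace X := (quasiSeparated_iff_quasiSeparatedSpace (f := p)).mp inferInstance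
  exact @dg_pull k _ X ⟨p⟩ _ _ k' _ X' ⟨p'⟩ g s h c

/-! ### The class of the diagonal -/

section diag

variable {K : Type u} [Field K] {Y : Scheme.{u}} (q : Y ⟶ Spec (CommRingCat.of K)) [SmoothOfRelativeDimension 1 q]
  [IsSeparated q]

/-- The tautological point. -/
def idPt : Pt q (Over.mk q) := ⟨𝟙 Y, Category.id_comp _⟩

/-- The class of the ideal of the diagonal. -/
noncomputable def dcls : Pic (pullback q q) := gcl q (idPt q)

theorem isEff_diag : BlowUp.IsEffCartierIdeal (pullback.diagonal q).ker := isEff_secGraph q (idPt q)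

theorem dcls_eq : dcls q = Sga7.H591.Dcl.dcl (pullback.diagonal q).ker (isEff_diag q) := rfl

theorem isInvertible_omega : PicF.IsInvertible (Omega.sheaf q) :=
  isInvertible_pullback _ (Dix.IdealModCartier.isInvertible_idealMod (isEff_diag q))

theorem pull_diagonal : pull (pullback.diagonal q) (dcls q) = mk (Omega.sheaf q) (isInvertible_omega q) := rfl

/-- The class of the diagonal is symmetric. -/
theorem pull_swap : pull (pullback.lift (pullback.snd q q) (pullback.fst q q) pullback.condition.symm) (dcls q) =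
    dcls q := by
  rw [dcls_eq]
  refine Sga7.H591.Dcl.pull_dcl _ _ _ _ _ ?_
  have e : pullback.lift (pullback.snd q q) (pullback.fst q q) pullback.condition.symm =
      (pullbackSymmetry q q).hom := by
    apply pullback.hom_ext
    · rw [pullback.lift_fst, pullbackSymmetry_hom_comp_fst]
    · rw [pullback.lift_snd, pullbackSymmetry_hom_comp_snd]
  have h1 : (pullback.diagonal q) ≫ (pullbackSymmetry q q).hom = pullback.diagonal q := by
    apply pullback.hom_ext <;> simp
  have h2 : (pullback.diagonal q).ker.map (pullbackSymmetry q q).hom = (pullback.diagonal q).ker := by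
    rw [Scheme.IdealSheafData.map_ker, h1]
  rw [e]
  conv_lhs => rw [← h2]
  exact Groth.Agent.Divis.MapOpen.comap_map _ _

/-- The degree of the restriction of the ideal of the diagonal to `Y × y` is negative. -/
theorem dgO_snd_neg {K' : Type u} [Field K'] (s : Spec (CommRingCat.of K') ⟶ Spec (CommRingCat.of K))
    (y : Spec (CommRingCat.of K') ⟶ Y) (hy : y ≫ q = s) [IsProper q] [IsIntegral (pullback q s)]
    (hdim : topologicalKrullDim ↑(pullback q s) = 1) :
    dgO K' (pullback.snd q s) (pull (pullback.lift (pullback.fst q s) (pullback.snd q s ≫ y)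
      (by rw [Category.assoc, hy, pullback.condition])) (dcls q)) < 0 := by
  let T' : Over (Spec (CommRingCat.of K)) := Over.mk s
  let g : T' ⟶ Over.mk q := Over.homMk y hy
  have e : ∀ h : pullback.fst q s ≫ q = (pullback.snd q s ≫ y) ≫ q,
      pullback.lift (pullback.fst q s) (pullback.snd q s ≫ y) h = PicF.XTmap q g := by
    intro h
    apply pullback.hom_ext
    · rw [pullback.lift_fst]
      exact ((pullback.lift_fst _ _ _).trans (Category.comp_id _)).symm
    · rw [pullback.lift_snd]
      exact (pullback.lift_snd _ _ _).symm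
  rw [e]
  have e2 : pull (PicF.XTmap q g) (dcls q) = gcl q ((idPt q).comp g) := pull_gcl q (idPt q) g
  rw [e2]
  refine dgO_dcl_neg K' (pullback.snd q s) hdim _ (isEff_secGraph q ((idPt q).comp g)) ?_
  have z : T'.left := IsLocalRing.closedPoint K'
  exact ⟨_, Scheme.Hom.range_subset_ker_support _ ⟨z, rfl⟩⟩

end diag

end Groth.Agent.Models.K378.CurveDeg
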