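import Groth.Agent.Models.K378.CurveDeg
import Groth.Agent.Models.H57.GeoInt
import Groth.Agent.Picfga.GoodTwist
import Groth.Prelude.Def_ModelsG

/-!
# The degree of the restriction of the ideal of the diagonal to the diagonal
-/

set_option autoImplicit false
universe u
open CategoryTheory CategoryTheory.Limits AlgebraicGeometry

namespace Groth.Agent.Models.K378.CurveOm

open Groth.Agent.Grpsch.PicGrp Groth.Agent.Fga.JacSum Groth.Agent.Etcore.DegZero Groth.Agent.Fdesc.LocGen CurveDeg

theorem dgO_diagonal_nonneg {K : Type u} [Field K] {Y : Scheme.{u}} (q : Y ⟶ Spec (CommRingCat.of K))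
    [SmoothOfRelativeDimension 1 q] [IsSeparated q] (hY : Curve.IsSmoothProperCurve K Y q) (h0 : IsIso q.appTop)
    (hg : 1 ≤ Models.curveGenus K Y q) : 0 ≤ dgO K q (pull (pullback.diagonal q) (dcls q)) := by
  obtain ⟨hp, hsm, hint, hdim⟩ := hY
  let : Y.Over (Spec (CommRingCat.of K)) := ⟨q⟩
  have h1 := (Groth.Agent.S1612.result K Y ⟨hp, hsm, hint, hdim⟩ (Models.H57.GeoInt.finrank_H0 K Y h0)).2
  rw [pull_diagonal, dgO_mk K q hdim]
  have h2 : Curv2.genus K Y = Models.curveGenus K Y q := rfl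
  rw [h2] at h1
  change 0 ≤ Curv2.deg K Y (Omega.sheaf (Y ↘ (Spec (CommRingCat.of K)))) 1
  rw [h1]
  have : (1 : ℤ) ≤ (Models.curveGenus K Y q : ℤ) := by exact_mod_cast hg
  linarith

end Groth.Agent.Models.K378.CurveOm
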