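import Groth.Agent.Etcore.DegZero
import Groth.Agent.Pic13.H952.FibrePt
import Groth.Agent.Pic13.H967.ChiGeom
import Groth.Agent.Fga.EulerLEAdd

/-!
# Constancy of the degree in a proper flat family of curves
-/

set_option autoImplicit false
universe u
open CategoryTheory CategoryTheory.Limits AlgebraicGeometry

namespace Groth.Agent.Models.K378.DegFam

open Groth.Agent.Grpsch.PicGrp Groth.Agent.Etcore.DegZero Groth.Agent.Fdesc.LocGen

variable {Y T : Scheme.{u}} (f : Y ⟶ T) [IsProper f]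

theorem dg_eq_eulerChar {k : Type u} [Field k] {X : Scheme.{u}} [X.Over (Spec (CommRingCat.of k))]
    (j : X ⟶ Y) (τ : Spec (CommRingCat.of k) ⟶ T)
    (H : IsPullback j (X ↘ Spec (CommRingCat.of k)) f τ) (hdim : topologicalKrullDim X ≤ 1)
    {L : Y.Modules} (hL : PicF.IsInvertible L) :
    dg k X (pull j (mk L hL)) = PerfAux.eulerChar f L (τ (IsLocalRing.closedPoint k)) -
      PerfAux.eulerChar f (Coh.structureModule Y) (τ (IsLocalRing.closedPoint k)) := by
  have h1 : IsProper (X ↘ Spec (CommRingCat.of k)) := MorphismProperty.of_isPullback (P := @IsProper) H inferInstance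
  have h2 : IsNoetherian X := by
    have h3 : IsLocallyNoetherian X := LocallyOfFiniteType.isLocallyNoetherian (X ↘ Spec (CommRingCat.of k))
    have h4 : CompactSpace X := QuasiCompact.compactSpace_of_compactSpace (X ↘ Spec (CommRingCat.of k))
    exact ⟨⟩
  have key : ∀ {M : Y.Modules} (_ : PicF.IsInvertible M), FGA.eulerCharLE k X ((Scheme.Modules.pullback j).obj M) 1 =
      PerfAux.eulerChar f M (τ (IsLocalRing.closedPoint k)) := fun {M} hM =>
    Pic13.H952.FibrePt.eulerCharLE_eq_eulerChar f τ j H _ ⟨_, rfl⟩ M (Ega2.QCohLocal.isQCoh_of_isInvertible hM) 1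
      (fun i hi => Groth.Agent.Fga.EulerLEAdd.subsingleton_HH X 1 hdim _ i hi)
  have e : Coh.structureModule X ≅ (Scheme.Modules.pullback j).obj (Coh.structureModule Y) := by
    have h5 : pull j (1 : Pic Y) = 1 := map_one _
    rw [one_def, one_def, pull_mk, mk_eq_iff] at h5
    exact h5.some.symm
  rw [pull_mk, dg_mk, key hL, eulerCharLE_congr k X e, key isInvertible_structureModule]

theorem dg_eq [Flat f] [IsLocallyNoetherian T] [PreconnectedSpace T] (c : Pic Y)
    {k₁ : Type u} [Field k₁] {X₁ : Scheme.{u}} [X₁.Over (Spec (CommRingCat.of k₁))]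
    (j₁ : X₁ ⟶ Y) (τ₁ : Spec (CommRingCat.of k₁) ⟶ T)
    (H₁ : IsPullback j₁ (X₁ ↘ Spec (CommRingCat.of k₁)) f τ₁) (hd₁ : topologicalKrullDim X₁ ≤ 1)
    {k₂ : Type u} [Field k₂] {X₂ : Scheme.{u}} [X₂.Over (Spec (CommRingCat.of k₂))]
    (j₂ : X₂ ⟶ Y) (τ₂ : Spec (CommRingCat.of k₂) ⟶ T)
    (H₂ : IsPullback j₂ (X₂ ↘ Spec (CommRingCat.of k₂)) f τ₂) (hd₂ : topologicalKrullDim X₂ ≤ 1) :
    dg k₁ X₁ (pull j₁ c) = dg k₂ X₂ (pull j₂ c) := by
  obtain ⟨L, hL, rfl⟩ := exists_mk c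
  rw [dg_eq_eulerChar f j₁ τ₁ H₁ hd₁ hL, dg_eq_eulerChar f j₂ τ₂ H₂ hd₂ hL]
  have h1 := (Pic13.H967.ChiGeom.isLocallyConstant_eulerChar f hL).apply_eq_of_preconnectedSpace
    (τ₁ (IsLocalRing.closedPoint k₁)) (τ₂ (IsLocalRing.closedPoint k₂))
  have h2 := (Pic13.H967.ChiGeom.isLocallyConstant_eulerChar f
    (isInvertible_structureModule (X := Y))).apply_eq_of_preconnectedSpace
    (τ₁ (IsLocalRing.closedPoint k₁)) (τ₂ (IsLocalRing.closedPoint k₂))
  rw [h1, h2]

end Groth.Agent.Models.K378.DegFam
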