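import Groth.Agent.S19476
import Groth.Agent.Grpsch.PicGrp
import Groth.Agent.Ega2.QCohLocal

/-!
# Seesaw along a schematic closure

`X ⟶ S` proper and flat with geometrically integral fibres, `ν` a class on `X ×_S X` and `E` a closed subscheme of
`X ×_S X`, the schematic image of `w : W ⟶ X ×_S X`.  If the two families of classes `(w₁, -)^* ν` and `(w₂, -)^* ν`
coincide, then for every point `(a, b)` of `E` the classes `(a, r)^* ν` and `(b, r)^* ν` differ by a class which is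
independent of `r`.
-/

set_option autoImplicit false
universe u
open CategoryTheory CategoryTheory.Limits AlgebraicGeometry

namespace Groth.Agent.Models.K378.Seesaw

open Groth.Agent.Grpsch.PicGrp Groth.Agent.Fdesc.LocGen

variable {X S : Scheme.{u}} {p : X ⟶ S}

/-- The class `(x, y)^* ν`. -/
noncomputable def cls (ν : Pic (pullback p p)) {Q : Scheme.{u}} (x y : Q ⟶ X) (h : x ≫ p = y ≫ p) : Pic Q :=
  pull (pullback.lift x y h) ν

theorem cls_congr (ν : Pic (pullback p p)) {Q : Scheme.{u}} {x y x' y' : Q ⟶ X} (h : x ≫ p = y ≫ p)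
    (h' : x' ≫ p = y' ≫ p) (hx : x = x') (hy : y = y') : cls ν x y h = cls ν x' y' h' := by
  subst hx; subst hy; rfl

theorem pull_cls (ν : Pic (pullback p p)) {Q Q' : Scheme.{u}} (g : Q' ⟶ Q) (x y : Q ⟶ X) (h : x ≫ p = y ≫ p)
    (h' : (g ≫ x) ≫ p = (g ≫ y) ≫ p) :
    pull g (cls ν x y h) = cls ν (g ≫ x) (g ≫ y) h' := by
  rw [cls, cls, ← pull_comp]
  have e : g ≫ pullback.lift x y h = pullback.lift (g ≫ x) (g ≫ y) h' := by
    apply pullback.hom_ext
    · rw [Category.assoc, pullback.lift_fst, pullback.lift_fst]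
    · rw [Category.assoc, pullback.lift_snd, pullback.lift_snd]
  rw [e]

theorem pull_cls' (ν : Pic (pullback p p)) {Q Q' : Scheme.{u}} (g : Q' ⟶ Q) (x y : Q ⟶ X) (h : x ≫ p = y ≫ p)
    {x' y' : Q' ⟶ X} (hx : g ≫ x = x') (hy : g ≫ y = y') (h' : x' ≫ p = y' ≫ p) :
    pull g (cls ν x y h) = cls ν x' y' h' := by
  subst hx; subst hy
  exact pull_cls ν g x y h _

theorem exists_class [IsProper p] [Flat p] [GeometricallyIntegral p] [IsLocallyNoetherian (pullback p p)]
    (ν : Pic (pullback p p)) (I : (pullback p p).IdealSheafData) {W : Scheme.{u}} [IsLocallyNoetherian W]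
    (w : W ⟶ pullback p p) (hw : w.ker = I)
    (hW : ∀ (Q : Scheme.{u}) (q : Q ⟶ W) (y : Q ⟶ X) (h1 : (q ≫ w ≫ pullback.fst p p) ≫ p = y ≫ p)
      (h2 : (q ≫ w ≫ pullback.snd p p) ≫ p = y ≫ p),
      cls ν (q ≫ w ≫ pullback.fst p p) y h1 = cls ν (q ≫ w ≫ pullback.snd p p) y h2)
    {T : Scheme.{u}} [IsLocallyNoetherian T] (a b : T ⟶ X) (hab : a ≫ p = b ≫ p) (u : T ⟶ I.subscheme)
    (hu : u ≫ I.subschemeι = pullback.lift a b hab) :
    ∃ M : Pic T, ∀ (r : T ⟶ X) (h1 : a ≫ p = r ≫ p) (h2 : b ≫ p = r ≫ p),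
      cls ν a r h1 = cls ν b r h2 * M := by
  let E := I.subscheme
  let ι : E ⟶ pullback p p := I.subschemeι
  let t : E ⟶ X := ι ≫ pullback.fst p p
  let s : E ⟶ X := ι ≫ pullback.snd p p
  have hts : t ≫ p = s ≫ p := by
    simp only [t, s, Category.assoc, pullback.condition]
  obtain ⟨XE, g, y, sq⟩ : ∃ (XE : Scheme.{u}) (g : XE ⟶ E) (y : XE ⟶ X), IsPullback g y (t ≫ p) p :=
    ⟨_, _, _, IsPullback.of_hasPullback _ _⟩
  have hgy : g ≫ t ≫ p = y ≫ p := sq.w
  have i1 : IsProper g := MorphismProperty.of_isPullback (P := @IsProper) sq.flip inferInstance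
  have i2 : Flat g := MorphismProperty.of_isPullback (P := @Flat) sq.flip inferInstance
  have hx : (g ≫ t) ≫ p = y ≫ p := by rw [Category.assoc, hgy]
  have hx' : (g ≫ s) ≫ p = y ≫ p := by rw [Category.assoc, ← hts, hgy]
  have : IsLocallyNoetherian E := LocallyOfFiniteType.isLocallyNoetherian ι
  obtain ⟨L, hL, hLc⟩ := exists_mk (cls ν (g ≫ t) y hx * (cls ν (g ≫ s) y hx')⁻¹)
  have hgi : GeometricallyIntegral g := MorphismProperty.of_isPullback (P := @GeometricallyIntegral) sq.flip inferInstance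
  obtain ⟨Z, ιZ, hZ, huniv⟩ := Groth.Agent.S19476.result g L
    (Ega2.QCohLocal.isFinLocFreeOfRank_one_iff.2 hL)
  -- `W` maps to `E`
  have hkι : ι.ker = I := Scheme.IdealSheafData.ker_subschemeι I
  let v : W ⟶ E := IsClosedImmersion.lift ι w (by rw [hkι, hw])
  have hv : v ≫ ι = w := IsClosedImmersion.lift_fac _ _ _
  -- factorisation of `W`
  have h1 : ∃ u' : W ⟶ Z, u' ≫ ιZ = v := by
    rw [huniv W v inferInstance]
    refine ⟨Coh.structureModule W, Ega2.QCohLocal.isFinLocFreeOfRank_one_iff.2 isInvertible_structureModule, ?_⟩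
    rw [← mk_eq_iff (isInvertible_pullback _ hL) (isInvertible_pullback _ isInvertible_structureModule),
      ← pull_mk _ hL, ← pull_mk _ isInvertible_structureModule, ← one_def, map_one, ← hLc, map_mul, map_inv,
      mul_inv_eq_one]
    have e0 : pullback.fst g v ≫ g = pullback.snd g v ≫ v := pullback.condition
    have e1 : pullback.fst g v ≫ g ≫ t = pullback.snd g v ≫ w ≫ pullback.fst p p := by
      rw [reassoc_of% e0, ← hv]
      simp only [t, Category.assoc]
    have e2 : pullback.fst g v ≫ g ≫ s = pullback.snd g v ≫ w ≫ pullback.snd p p := by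
      rw [reassoc_of% e0, ← hv]
      simp only [s, Category.assoc]
    have h3 : (pullback.snd g v ≫ w ≫ pullback.fst p p) ≫ p = (pullback.fst g v ≫ y) ≫ p := by
      rw [← e1, Category.assoc, hx, Category.assoc]
    have h4 : (pullback.snd g v ≫ w ≫ pullback.snd p p) ≫ p = (pullback.fst g v ≫ y) ≫ p := by
      rw [← e2, Category.assoc, hx', Category.assoc]
    rw [pull_cls' ν _ _ _ hx e1 rfl h3, pull_cls' ν _ _ _ hx' e2 rfl h4]
    exact hW _ _ _ _ _
  obtain ⟨u', hu'⟩ := h1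
  -- the section
  have h2 : (ιZ ≫ ι).ker ≤ ι.ker := by
    rw [hkι, ← hw, ← hv, ← hu', Category.assoc]
    exact Scheme.Hom.le_ker_comp _ _
  let σ : E ⟶ Z := IsClosedImmersion.lift (ιZ ≫ ι) ι h2
  have hσ : σ ≫ ιZ = 𝟙 E := by
    rw [← cancel_mono ι, Category.assoc, IsClosedImmersion.lift_fac, Category.id_comp]
  have h3 : ∃ u'' : T ⟶ Z, u'' ≫ ιZ = u := ⟨u ≫ σ, by rw [Category.assoc, hσ, Category.comp_id]⟩
  rw [huniv T u inferInstance] at h3
  obtain ⟨M, hM, hiso⟩ := h3
  have hM' : PicF.IsInvertible M := Ega2.QCohLocal.isFinLocFreeOfRank_one_iff.1 hM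
  rw [← mk_eq_iff (isInvertible_pullback _ hL) (isInvertible_pullback _ hM'), ← pull_mk _ hL, ← pull_mk _ hM',
    ← hLc] at hiso
  refine ⟨mk M hM', fun r hr1 hr2 => ?_⟩
  have hut : u ≫ t = a := by
    simp only [t]
    rw [reassoc_of% hu, pullback.lift_fst]
  have hus : u ≫ s = b := by
    simp only [s]
    rw [reassoc_of% hu, pullback.lift_snd]
  let σ1 : T ⟶ XE := sq.lift u r (by rw [← Category.assoc, hut, hr1])
  have hσ1 : σ1 ≫ g = u := sq.lift_fst _ _ _
  have hσ1' : σ1 ≫ y = r := sq.lift_snd _ _ _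
  let σ2 : T ⟶ pullback g u := pullback.lift σ1 (𝟙 T) (by rw [hσ1, Category.id_comp])
  have h5 := congrArg (pull σ2) hiso
  rw [← pull_comp, ← pull_comp, pullback.lift_fst, pullback.lift_snd, pull_id, map_mul, map_inv] at h5
  rw [pull_cls' ν σ1 _ _ hx (by rw [reassoc_of% hσ1, hut]) hσ1' hr1,
    pull_cls' ν σ1 _ _ hx' (by rw [reassoc_of% hσ1, hus]) hσ1' hr2, mul_inv_eq_iff_eq_mul] at h5
  rw [h5, mul_comm]

end Groth.Agent.Models.K378.Seesaw
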