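import Groth.Agent.Models.K378.CurveOm
import Groth.Agent.Models.K378.DegFam
import Groth.Agent.Models.K378.Seesaw

/-!
# The degree contradiction

`p : XR ⟶ S` proper and flat, `X` its base change to a field `K`, `f : X ⟶ Y` a finite morphism of smooth proper curves
over `K`, `Y` of genus `≥ 1`, `ν` a class on `XR ×_S XR` inducing `(f × f)^* I_Δ` on `X ×_K X`.  There is no fibre `C` of
`p` over a point `τ` of `XR` for which `(c, c)^* ν = (τ, c)^* ν ⊗ (c, τ)^* ν`.
-/

set_option autoImplicit false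
universe u
open CategoryTheory CategoryTheory.Limits AlgebraicGeometry

namespace Groth.Agent.Models.K378.DegContra

open Groth.Agent.Grpsch.PicGrp Groth.Agent.Fga.JacSum Groth.Agent.Etcore.DegZero CurveDeg Seesaw

section squares

variable {X S C T : Scheme.{u}} {p : X ⟶ S} {c : C ⟶ X} {π : C ⟶ T} {τ : T ⟶ X}

theorem w_fst (h : IsPullback c π p (τ ≫ p)) : (π ≫ τ) ≫ p = c ≫ p := by rw [Category.assoc, h.w]

theorem isPullback_fst (h : IsPullback c π p (τ ≫ p)) :
    IsPullback (pullback.lift (π ≫ τ) c (w_fst h)) π (pullback.fst p p) τ := by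
  refine IsPullback.of_right (h₁₂ := pullback.snd p p) (h₂₂ := p) (v₁₃ := p) ?_ (pullback.lift_fst _ _ _)
    (IsPullback.of_hasPullback p p).flip
  rw [pullback.lift_snd]
  exact h

theorem isPullback_snd (h : IsPullback c π p (τ ≫ p)) :
    IsPullback (pullback.lift c (π ≫ τ) (w_fst h).symm) π (pullback.snd p p) τ := by
  refine IsPullback.of_right (h₁₂ := pullback.fst p p) (h₂₂ := p) (v₁₃ := p) ?_ (pullback.lift_snd _ _ _)
    (IsPullback.of_hasPullback p p)
  rw [pullback.lift_fst]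
  exact h

end squares

theorem dgO_eq_of_family {Y T : Scheme.{u}} (f : Y ⟶ T) [IsProper f] [Flat f] [IsLocallyNoetherian T]
    [PreconnectedSpace T] (c : Pic Y)
    {k₁ : Type u} [Field k₁] {X₁ : Scheme.{u}} {π₁ : X₁ ⟶ Spec (CommRingCat.of k₁)}
    {j₁ : X₁ ⟶ Y} {τ₁ : Spec (CommRingCat.of k₁) ⟶ T}
    (H₁ : IsPullback j₁ π₁ f τ₁) (hd₁ : topologicalKrullDim X₁ = 1)
    {k₂ : Type u} [Field k₂] {X₂ : Scheme.{u}} {π₂ : X₂ ⟶ Spec (CommRingCat.of k₂)}
    {j₂ : X₂ ⟶ Y} {τ₂ : Spec (CommRingCat.of k₂) ⟶ T}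
    (H₂ : IsPullback j₂ π₂ f τ₂) (hd₂ : topologicalKrullDim X₂ = 1) :
    dgO k₁ π₁ (pull j₁ c) = dgO k₂ π₂ (pull j₂ c) := by
  let : X₁.Over (Spec (CommRingCat.of k₁)) := ⟨π₁⟩
  let : X₂.Over (Spec (CommRingCat.of k₂)) := ⟨π₂⟩
  exact DegFam.dg_eq f c j₁ τ₁ H₁ hd₁.le j₂ τ₂ H₂ hd₂.le

section main

variable {K : Type u} [Field K] {X Y : Scheme.{u}} {fX : X ⟶ Spec (CommRingCat.of K)}
  {fY : Y ⟶ Spec (CommRingCat.of K)} [IsProper fX]
  [SmoothOfRelativeDimension 1 fY] [IsSeparated fY] {f : X ⟶ Y} [IsFinite f] (hf : f ≫ fY = fX)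
  {S XR : Scheme.{u}} {p : XR ⟶ S} {i : X ⟶ XR}
  (ν : Pic (pullback p p))
  (hν : ∀ {Q : Scheme.{u}} (x y : Q ⟶ X) (_ : x ≫ fX = y ≫ fX) (h1 : (x ≫ i) ≫ p = (y ≫ i) ≫ p)
    (h2 : (x ≫ f) ≫ fY = (y ≫ f) ≫ fY),
    cls ν (x ≫ i) (y ≫ i) h1 = pull (pullback.lift (x ≫ f) (y ≫ f) h2) (dcls fY))

include hf hν

theorem diag_nonneg (hX' : Curve.IsSmoothProperCurve K X fX)
    (hY' : Curve.IsSmoothProperCurve K Y fY) (h0 : IsIso fY.appTop) (hg : 1 ≤ Models.curveGenus K Y fY) :
    0 ≤ dgO K fX (cls ν i i rfl) := by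
  have := hX'.2.2.1
  have := hY'.2.2.1
  have := hY'.1
  have h1 := hν (𝟙 X) (𝟙 X) rfl rfl rfl
  rw [cls_congr ν (x' := i) (y' := i) rfl rfl (Category.id_comp _) (Category.id_comp _)] at h1
  have h2 : pullback.lift (𝟙 X ≫ f) (𝟙 X ≫ f) rfl = f ≫ pullback.diagonal fY := by
    apply pullback.hom_ext
    · rw [pullback.lift_fst, Category.assoc, pullback.diagonal_fst, Category.id_comp, Category.comp_id]
    · rw [pullback.lift_snd, Category.assoc, pullback.diagonal_snd, Category.id_comp, Category.comp_id]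
  rw [h1, h2, pull_comp]
  obtain ⟨d, hd, h3⟩ := exists_dgO_pull K fX fY hX'.2.2.2 hY'.2.2.2 f hf
  rw [h3]
  exact mul_nonneg hd.le (CurveOm.dgO_diagonal_nonneg fY hY' h0 hg)

end main

/-! ### The base change to a field extension -/

section bc

variable {K K' : Type u} [Field K] [Field K'] {X Y : Scheme.{u}} {fX : X ⟶ Spec (CommRingCat.of K)}
  {fY : Y ⟶ Spec (CommRingCat.of K)} {f : X ⟶ Y} (hf : f ≫ fY = fX)
  (s : Spec (CommRingCat.of K') ⟶ Spec (CommRingCat.of K))

/-- The base change of a morphism. -/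
noncomputable def bcMap : pullback fX s ⟶ pullback fY s :=
  pullback.lift (pullback.fst fX s ≫ f) (pullback.snd fX s) (by rw [Category.assoc, hf, pullback.condition])

theorem bcMap_fst : bcMap hf s ≫ pullback.fst fY s = pullback.fst fX s ≫ f := pullback.lift_fst _ _ _

theorem bcMap_snd : bcMap hf s ≫ pullback.snd fY s = pullback.snd fX s := pullback.lift_snd _ _ _

theorem isPullback_bcMap : IsPullback (pullback.fst fX s) (bcMap hf s) f (pullback.fst fY s) := by
  refine IsPullback.of_bot (v₂₁ := pullback.snd fY s) (v₂₂ := fY) (h₃₁ := s) ?_ (bcMap_fst hf s).symm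
    (IsPullback.of_hasPullback fY s)
  rw [bcMap_snd, hf]
  exact IsPullback.of_hasPullback fX s

theorem isFinite_bcMap [IsFinite f] : IsFinite (bcMap hf s) :=
  MorphismProperty.of_isPullback (P := @IsFinite) (isPullback_bcMap hf s) inferInstance

theorem isIntegral_bc (fX : X ⟶ Spec (CommRingCat.of K)) [GeometricallyIntegral fX] : IsIntegral (pullback fX s) :=
  GeometricallyIntegral.geometrically_isIntegral (f := fX) s _ _ (IsPullback.of_hasPullback fX s)

theorem dim_bc (fX : X ⟶ Spec (CommRingCat.of K)) [LocallyOfFiniteType fX] (hX : topologicalKrullDim X = 1) :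
    topologicalKrullDim ↑(pullback fX s) = 1 := by
  rw [← hX]
  exact Etcore.DimBaseChange.topologicalKrullDim_eq (Field.toIsField K) (Field.toIsField K') fX _ _ _
    (IsPullback.of_hasPullback fX s)

variable [SmoothOfRelativeDimension 1 fY] [IsProper fX] [IsProper fY] [GeometricallyIntegral fX]
  [GeometricallyIntegral fY] [IsFinite f] (hX : topologicalKrullDim X = 1) (hY : topologicalKrullDim Y = 1)
  (x : Spec (CommRingCat.of K') ⟶ X)

include hf hX hY in
theorem neg_snd (hx : x ≫ fX = s)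
    (h : (pullback.fst fX s ≫ f) ≫ fY = ((pullback.snd fX s ≫ x) ≫ f) ≫ fY) :
    dgO K' (pullback.snd fX s) (pull (pullback.lift (pullback.fst fX s ≫ f)
      ((pullback.snd fX s ≫ x) ≫ f) h) (dcls fY)) < 0 := by
  have i1 := isIntegral_bc s fX
  have i2 := isIntegral_bc s fY
  have i3 := isFinite_bcMap hf s
  have hy : (x ≫ f) ≫ fY = s := by rw [Category.assoc, hf, hx]
  have h1 := dgO_snd_neg fY s (x ≫ f) hy (dim_bc s fY hY)
  obtain ⟨d, hd, h3⟩ := exists_dgO_pull K' (pullback.snd fX s) (pullback.snd fY s) (dim_bc s fX hX)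
    (dim_bc s fY hY) (bcMap hf s) (bcMap_snd hf s)
  have e : pullback.lift (pullback.fst fX s ≫ f) ((pullback.snd fX s ≫ x) ≫ f) h =
      bcMap hf s ≫ pullback.lift (pullback.fst fY s) (pullback.snd fY s ≫ x ≫ f)
        (by rw [Category.assoc, hy, pullback.condition]) := by
    apply pullback.hom_ext
    · rw [pullback.lift_fst, Category.assoc, pullback.lift_fst, bcMap_fst]
    · rw [pullback.lift_snd, Category.assoc, Category.assoc (bcMap hf s), pullback.lift_snd,
        ← Category.assoc (bcMap hf s), bcMap_snd]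
  rw [e, pull_comp, h3]
  exact mul_neg_of_pos_of_neg hd h1

include hf hX hY in
theorem neg_fst (hx : x ≫ fX = s)
    (h : ((pullback.snd fX s ≫ x) ≫ f) ≫ fY = (pullback.fst fX s ≫ f) ≫ fY) :
    dgO K' (pullback.snd fX s) (pull (pullback.lift ((pullback.snd fX s ≫ x) ≫ f)
      (pullback.fst fX s ≫ f) h) (dcls fY)) < 0 := by
  have h1 := neg_snd hf s hX hY x hx h.symm
  rw [← pull_swap, ← pull_comp] at h1
  have e : pullback.lift (pullback.fst fX s ≫ f) ((pullback.snd fX s ≫ x) ≫ f) h.symm ≫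
      pullback.lift (pullback.snd fY fY) (pullback.fst fY fY) pullback.condition.symm =
      pullback.lift ((pullback.snd fX s ≫ x) ≫ f) (pullback.fst fX s ≫ f) h := by
    apply pullback.hom_ext
    · rw [Category.assoc, pullback.lift_fst, pullback.lift_snd, pullback.lift_fst]
    · rw [Category.assoc, pullback.lift_snd, pullback.lift_fst, pullback.lift_snd]
  rw [e] at h1
  exact h1

end bc

section contra

variable {K : Type u} [Field K] {X Y : Scheme.{u}} {fX : X ⟶ Spec (CommRingCat.of K)}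
  {fY : Y ⟶ Spec (CommRingCat.of K)} [GeometricallyIntegral fX] [GeometricallyIntegral fY]
  [SmoothOfRelativeDimension 1 fY] [IsProper fY] {f : X ⟶ Y} [IsFinite f] (hf : f ≫ fY = fX)
  {S XR : Scheme.{u}} {p : XR ⟶ S} [IsProper p] [Flat p] [IsLocallyNoetherian XR] [IsLocallyNoetherian S]
  [PreconnectedSpace XR] [PreconnectedSpace S]
  {η : Spec (CommRingCat.of K) ⟶ S} {i : X ⟶ XR} (hi : IsPullback i fX p η)
  (ν : Pic (pullback p p))
  (hν : ∀ {Q : Scheme.{u}} (x y : Q ⟶ X) (_ : x ≫ fX = y ≫ fX) (h1 : (x ≫ i) ≫ p = (y ≫ i) ≫ p)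
    (h2 : (x ≫ f) ≫ fY = (y ≫ f) ≫ fY),
    cls ν (x ≫ i) (y ≫ i) h1 = pull (pullback.lift (x ≫ f) (y ≫ f) h2) (dcls fY))
  (hX : Curve.IsSmoothProperCurve K X fX) (hY : Curve.IsSmoothProperCurve K Y fY) (h0 : IsIso fY.appTop)
  (hg : 1 ≤ Models.curveGenus K Y fY)

include hf hi hν hX hY h0 hg

theorem contra {κ : Type u} [Field κ] {C : Scheme.{u}} {c : C ⟶ XR} {πC : C ⟶ Spec (CommRingCat.of κ)}
    {τ : Spec (CommRingCat.of κ) ⟶ XR} (hC : IsPullback c πC p (τ ≫ p)) [IsIntegral C]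
    (hCd : topologicalKrullDim C = 1)
    (hrel : cls ν c c rfl = cls ν (πC ≫ τ) c (w_fst hC) * cls ν c (πC ≫ τ) (w_fst hC).symm) : False := by
  have hpC : IsProper πC := MorphismProperty.of_isPullback (P := @IsProper) hC inferInstance
  have hpX : IsProper fX := hX.1
  have hiX : IsIntegral X := hX.2.2.1
  -- a field-valued point of `X`
  obtain ⟨x0⟩ : Nonempty X := inferInstance
  let K' := X.residueField x0
  let x : Spec (CommRingCat.of K') ⟶ X := X.fromSpecResidueField x0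
  let s := x ≫ fX
  have hX' := dim_bc s fX hX.2.2.2
  -- the square of the reference fibre
  have hsq : IsPullback (pullback.fst fX s ≫ i) (pullback.snd fX s) p ((x ≫ i) ≫ p) := by
    have h1 : (x ≫ i) ≫ p = s ≫ η := by rw [Category.assoc, hi.w, ← Category.assoc]
    rw [h1]
    exact (IsPullback.of_hasPullback fX s).paste_horiz hi
  -- the three degrees
  have e1 : dgO κ πC (cls ν c c rfl) = dgO K fX (cls ν i i rfl) := by
    have h1 := dgO_eq_of_family p (cls ν (𝟙 XR) (𝟙 XR) rfl) hC hCd hi hX.2.2.2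
    rw [pull_cls' ν c _ _ rfl (Category.comp_id _) (Category.comp_id _) rfl,
      pull_cls' ν i _ _ rfl (Category.comp_id _) (Category.comp_id _) rfl] at h1
    exact h1
  have h1 : 0 ≤ dgO κ πC (cls ν c c rfl) := by
    rw [e1]
    exact diag_nonneg (p := p) hf ν hν hX hY h0 hg
  have h2 : dgO κ πC (cls ν (πC ≫ τ) c (w_fst hC)) < 0 := by
    have h3 := dgO_eq_of_family (pullback.fst p p) ν (isPullback_fst hC) hCd (isPullback_fst hsq) hX'
    rw [cls, h3]
    have c1 : (pullback.snd fX s ≫ x) ≫ fX = pullback.fst fX s ≫ fX := by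
      rw [Category.assoc]; exact pullback.condition.symm
    have c2 : ((pullback.snd fX s ≫ x) ≫ i) ≫ p = (pullback.fst fX s ≫ i) ≫ p := by
      rw [hsq.w]; simp only [Category.assoc]
    have c3 : ((pullback.snd fX s ≫ x) ≫ f) ≫ fY = (pullback.fst fX s ≫ f) ≫ fY := by
      rw [Category.assoc, hf, Category.assoc _ f, hf, c1]
    have h4 := hν (pullback.snd fX s ≫ x) (pullback.fst fX s) c1 c2 c3
    have h5 : pull (pullback.lift (pullback.snd fX s ≫ x ≫ i) (pullback.fst fX s ≫ i) (w_fst hsq)) ν =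
        cls ν ((pullback.snd fX s ≫ x) ≫ i) (pullback.fst fX s ≫ i) c2 :=
      cls_congr ν _ _ (Category.assoc _ _ _).symm rfl
    rw [h5, h4]
    exact neg_fst hf s hX.2.2.2 hY.2.2.2 x rfl c3
  have h3 : dgO κ πC (cls ν c (πC ≫ τ) (w_fst hC).symm) < 0 := by
    have h3 := dgO_eq_of_family (pullback.snd p p) ν (isPullback_snd hC) hCd (isPullback_snd hsq) hX'
    rw [cls, h3]
    have c1 : pullback.fst fX s ≫ fX = (pullback.snd fX s ≫ x) ≫ fX := by
      rw [Category.assoc]; exact pullback.condition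
    have c2 : (pullback.fst fX s ≫ i) ≫ p = ((pullback.snd fX s ≫ x) ≫ i) ≫ p := by
      rw [hsq.w]; simp only [Category.assoc]
    have c3 : (pullback.fst fX s ≫ f) ≫ fY = ((pullback.snd fX s ≫ x) ≫ f) ≫ fY := by
      rw [Category.assoc, hf, Category.assoc _ f, hf, c1]
    have h4 := hν (pullback.fst fX s) (pullback.snd fX s ≫ x) c1 c2 c3
    have h5 : pull (pullback.lift (pullback.fst fX s ≫ i) (pullback.snd fX s ≫ x ≫ i) (w_fst hsq).symm) ν =
        cls ν (pullback.fst fX s ≫ i) ((pullback.snd fX s ≫ x) ≫ i) c2 :=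
      cls_congr ν _ _ rfl (Category.assoc _ _ _).symm
    rw [h5, h4]
    exact neg_snd hf s hX.2.2.2 hY.2.2.2 x rfl c3
  rw [hrel, dgO_mul κ πC hCd] at h1
  linarith

end contra

end Groth.Agent.Models.K378.DegContra
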