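import Mathlib.Analysis.Real.Sqrt
import Mathlib.Tactic.LinearCombination
import Mathlib.Tactic.Linarith
import Mathlib.Tactic.FinCases
import Mathlib.Algebra.BigOperators.Fin
import Mathlib.Algebra.Order.BigOperators.Group.Finset

set_option autoImplicit false

open Finset

/-! Abstract finite Dynkin systems: symmetric real matrices `c` with diagonal `-2`,
off-diagonal entries in `{0, 1, √2, √3}`, negative definite. Everything about which
configurations of `(-2)`-indices of a numerical type are possible is read off here. -/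

namespace K378.Dynkin

/-- A negative definite system of vectors with `c i i = -2` and off-diagonal entries
`0, 1, √2, √3`. -/
structure Sys {ι : Type*} [Fintype ι] (c : ι → ι → ℝ) : Prop where
  symm : ∀ i j, c i j = c j i
  diag : ∀ i, c i i = -2
  val : ∀ i j, i ≠ j → c i j = 0 ∨ c i j = 1 ∨ c i j = √2 ∨ c i j = √3
  neg : ∀ x : ι → ℝ, x ≠ 0 → ∑ i, ∑ j, x i * x j * c i j < 0

/-- A sum dominates a partial sum. -/
theorem sum_ge2 {ι : Type*} [Fintype ι] (f : ι → ℝ) (i j : ι) (hij : i ≠ j)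
    (h : ∀ k, k ≠ i → 0 ≤ f k) : f i + f j ≤ ∑ k, f k := by
  classical
  rw [← Finset.sum_pair hij]
  refine Finset.sum_le_sum_of_subset_of_nonneg (Finset.subset_univ _) fun k _ hk => h k ?_
  rintro rfl
  exact hk (by simp)

theorem sum_ge3 {ι : Type*} [Fintype ι] (f : ι → ℝ) (i j k : ι) (hij : i ≠ j) (hik : i ≠ k)
    (hjk : j ≠ k) (h : ∀ k, k ≠ i → 0 ≤ f k) : f i + f j + f k ≤ ∑ k, f k := by
  classical
  have h1 : f i + f j + f k = ∑ l ∈ ({i, j, k} : Finset ι), f l := by
    rw [Finset.sum_insert (by simp [hij, hik]), Finset.sum_pair hjk, add_assoc]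
  rw [h1]
  refine Finset.sum_le_sum_of_subset_of_nonneg (Finset.subset_univ _) fun k _ hk => h k ?_
  rintro rfl
  exact hk (by simp)

theorem sum_ge4 {ι : Type*} [Fintype ι] (f : ι → ℝ) (i j k l : ι) (hij : i ≠ j) (hik : i ≠ k)
    (hil : i ≠ l) (hjk : j ≠ k) (hjl : j ≠ l) (hkl : k ≠ l)
    (h : ∀ k, k ≠ i → 0 ≤ f k) : f i + f j + f k + f l ≤ ∑ k, f k := by
  classical
  have h1 : f i + f j + f k + f l = ∑ l ∈ ({i, j, k, l} : Finset ι), f l := by
    rw [Finset.sum_insert (by simp [hij, hik, hil]), Finset.sum_insert (by simp [hjk, hjl]),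
      Finset.sum_pair hkl]
    ring
  rw [h1]
  refine Finset.sum_le_sum_of_subset_of_nonneg (Finset.subset_univ _) fun k _ hk => h k ?_
  rintro rfl
  exact hk (by simp)

theorem sum_ge5 {ι : Type*} [Fintype ι] (f : ι → ℝ) (i j k l m : ι) (hij : i ≠ j) (hik : i ≠ k)
    (hil : i ≠ l) (him : i ≠ m) (hjk : j ≠ k) (hjl : j ≠ l) (hjm : j ≠ m) (hkl : k ≠ l)
    (hkm : k ≠ m) (hlm : l ≠ m)
    (h : ∀ k, k ≠ i → 0 ≤ f k) : f i + f j + f k + f l + f m ≤ ∑ k, f k := by
  classical
  have h1 : f i + f j + f k + f l + f m = ∑ l ∈ ({i, j, k, l, m} : Finset ι), f l := by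
    rw [Finset.sum_insert (by simp [hij, hik, hil, him]), Finset.sum_insert (by simp [hjk, hjl, hjm]),
      Finset.sum_insert (by simp [hkl, hkm]), Finset.sum_pair hlm]
    ring
  rw [h1]
  refine Finset.sum_le_sum_of_subset_of_nonneg (Finset.subset_univ _) fun k _ hk => h k ?_
  rintro rfl
  exact hk (by simp)

theorem sqrt_two_sq : √(2 : ℝ) * √2 = 2 := Real.mul_self_sqrt (by norm_num)
theorem sqrt_three_sq : √(3 : ℝ) * √3 = 3 := Real.mul_self_sqrt (by norm_num)
theorem sqrt_two_pos : (0 : ℝ) < √2 := Real.sqrt_pos.2 (by norm_num)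
theorem sqrt_three_pos : (0 : ℝ) < √3 := Real.sqrt_pos.2 (by norm_num)
theorem one_lt_sqrt_two : (1 : ℝ) < √2 := by
  nlinarith [sqrt_two_sq, sqrt_two_pos]
theorem one_lt_sqrt_three : (1 : ℝ) < √3 := by
  nlinarith [sqrt_three_sq, sqrt_three_pos]

namespace Sys

variable {ι : Type*} [Fintype ι] {c : ι → ι → ℝ}

theorem comp (h : Sys c) {κ : Type*} [Fintype κ] (f : κ → ι) (hf : Function.Injective f) :
    Sys (fun i j => c (f i) (f j)) := by
  classical
  refine ⟨fun i j => h.symm _ _, fun i => h.diag _, fun i j hij => h.val _ _ (hf.ne hij), ?_⟩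
  intro x hx
  set y : ι → ℝ := fun k => ∑ i, if f i = k then x i else 0 with hy
  have hyv : ∀ i, y (f i) = x i := by
    intro i
    rw [hy]
    simp only
    rw [Finset.sum_eq_single i]
    · simp
    · intro j _ hj
      rw [if_neg]
      intro h
      exact hj (hf h)
    · intro h
      exact absurd (Finset.mem_univ i) h
  have hy0 : ∀ k, (∀ i, f i ≠ k) → y k = 0 := by
    intro k hk
    rw [hy]
    simp only
    exact Finset.sum_eq_zero fun i _ => if_neg (hk i)
  have hyne : y ≠ 0 := by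
    intro h
    apply hx
    funext i
    rw [← hyv i, h]
    rfl
  have key : ∀ g : ι → ℝ, (∀ k, (∀ i, f i ≠ k) → g k = 0) → ∑ k, g k = ∑ i, g (f i) := by
    intro g hg
    rw [← Finset.sum_image (s := univ) (g := f) (fun a _ b _ h => hf h)]
    refine (Finset.sum_subset (Finset.subset_univ _) fun k _ hk => ?_).symm
    apply hg
    intro i hi
    exact hk (Finset.mem_image.2 ⟨i, Finset.mem_univ i, hi⟩)
  have hneg := h.neg y hyne
  have hsum : ∑ i, ∑ j, y i * y j * c i j = ∑ i, ∑ j, x i * x j * c (f i) (f j) := by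
    rw [key]
    · refine Finset.sum_congr rfl fun i _ => ?_
      rw [key]
      · refine Finset.sum_congr rfl fun j _ => ?_
        rw [hyv, hyv]
      · intro l hl
        rw [hy0 l hl]
        ring
    · intro l hl
      rw [hy0 l hl]
      simp
  rw [← hsum]
  exact hneg

theorem nonneg (h : Sys c) (i j : ι) (hij : i ≠ j) : 0 ≤ c i j := by
  rcases h.val i j hij with h1 | h1 | h1 | h1 <;> rw [h1] <;> positivity

theorem one_le (h : Sys c) (i j : ι) (hij : i ≠ j) (h0 : c i j ≠ 0) : 1 ≤ c i j := by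
  rcases h.val i j hij with h1 | h1 | h1 | h1
  · exact absurd h1 h0
  · rw [h1]
  · rw [h1]; exact one_lt_sqrt_two.le
  · rw [h1]; exact one_lt_sqrt_three.le

/-- No nonzero non-negative vector `x` has `(c x)_i ≥ 0` on its support. -/
theorem no_null (h : Sys c) (x : ι → ℝ) (h0 : ∀ i, 0 ≤ x i) (hx : x ≠ 0)
    (h1 : ∀ i, 0 < x i → 0 ≤ ∑ j, c i j * x j) : False := by
  have h2 := h.neg x hx
  have h3 : 0 ≤ ∑ i, ∑ j, x i * x j * c i j := by
    refine Finset.sum_nonneg fun i _ => ?_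
    have h4 : ∑ j, x i * x j * c i j = x i * ∑ j, c i j * x j := by
      rw [Finset.mul_sum]
      exact Finset.sum_congr rfl fun j _ => by ring
    rw [h4]
    rcases (h0 i).eq_or_lt with h5 | h5
    · rw [← h5, zero_mul]
    · exact mul_nonneg h5.le (h1 i h5)
  linarith

/-- Lower bound of a row by two neighbours. -/
theorem row_ge2 (h : Sys c) (x : ι → ℝ) (h0 : ∀ i, 0 ≤ x i) (i j : ι) (hij : i ≠ j) :
    -2 * x i + c i j * x j ≤ ∑ j, c i j * x j := by
  have := sum_ge2 (fun j => c i j * x j) i j hij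
    (fun k hk => mul_nonneg (h.nonneg i k hk.symm) (h0 k))
  simpa [h.diag] using this

theorem row_ge3 (h : Sys c) (x : ι → ℝ) (h0 : ∀ i, 0 ≤ x i) (i j k : ι) (hij : i ≠ j)
    (hik : i ≠ k) (hjk : j ≠ k) :
    -2 * x i + c i j * x j + c i k * x k ≤ ∑ j, c i j * x j := by
  have := sum_ge3 (fun j => c i j * x j) i j k hij hik hjk
    (fun k hk => mul_nonneg (h.nonneg i k hk.symm) (h0 k))
  simpa [h.diag] using this

theorem row_ge4 (h : Sys c) (x : ι → ℝ) (h0 : ∀ i, 0 ≤ x i) (i j k l : ι) (hij : i ≠ j)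
    (hik : i ≠ k) (hil : i ≠ l) (hjk : j ≠ k) (hjl : j ≠ l) (hkl : k ≠ l) :
    -2 * x i + c i j * x j + c i k * x k + c i l * x l ≤ ∑ j, c i j * x j := by
  have := sum_ge4 (fun j => c i j * x j) i j k l hij hik hil hjk hjl hkl
    (fun k hk => mul_nonneg (h.nonneg i k hk.symm) (h0 k))
  simpa [h.diag] using this

theorem row_ge5 (h : Sys c) (x : ι → ℝ) (h0 : ∀ i, 0 ≤ x i) (i j k l m : ι) (hij : i ≠ j)
    (hik : i ≠ k) (hil : i ≠ l) (him : i ≠ m) (hjk : j ≠ k) (hjl : j ≠ l) (hjm : j ≠ m)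
    (hkl : k ≠ l) (hkm : k ≠ m) (hlm : l ≠ m) :
    -2 * x i + c i j * x j + c i k * x k + c i l * x l + c i m * x m ≤ ∑ j, c i j * x j := by
  have := sum_ge5 (fun j => c i j * x j) i j k l m hij hik hil him hjk hjl hjm hkl hkm hlm
    (fun k hk => mul_nonneg (h.nonneg i k hk.symm) (h0 k))
  simpa [h.diag] using this

end Sys

/-! ### Small configurations -/

section Small

theorem inj3 {ι : Type*} {i j k : ι} (hij : i ≠ j) (hjk : j ≠ k) (hik : i ≠ k) :
    Function.Injective ![i, j, k] := by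
  intro a b hab
  fin_cases a <;> fin_cases b <;> simp_all

theorem tri_fin (c : Fin 3 → Fin 3 → ℝ) (h : Sys c) (h01 : c 0 1 ≠ 0) (h12 : c 1 2 ≠ 0)
    (h02 : c 0 2 ≠ 0) : False := by
  have h1 := h.one_le 0 1 (by decide) h01
  have h2 := h.one_le 1 2 (by decide) h12
  have h3 := h.one_le 0 2 (by decide) h02
  have h4 := h.neg ![1, 1, 1] (by
    intro h
    have := congrFun h 0
    simp at this)
  simp only [Fin.sum_univ_three, Matrix.cons_val_zero, Matrix.cons_val_one, Matrix.cons_val_two,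
    Matrix.tail_cons, Matrix.head_cons, h.diag, h.symm 1 0, h.symm 2 0, h.symm 2 1] at h4
  linarith

theorem chain_fin (c : Fin 3 → Fin 3 → ℝ) (h : Sys c) (h01 : c 0 1 ≠ 0) (h12 : c 1 2 ≠ 0) :
    (c 0 1 = 1 ∧ c 1 2 = 1) ∨ (c 0 1 = 1 ∧ c 1 2 = √2) ∨ (c 0 1 = √2 ∧ c 1 2 = 1) := by
  have h1 := h.one_le 0 1 (by decide) h01
  have h2 := h.one_le 1 2 (by decide) h12
  have h3 : 0 ≤ c 0 2 := h.nonneg 0 2 (by decide)
  have e := sqrt_two_sq
  have e3 := sqrt_three_sq
  have p2 := sqrt_two_pos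
  have p3 := sqrt_three_pos
  have key : ∀ x y z : ℝ, (x ≠ 0 ∨ y ≠ 0 ∨ z ≠ 0) →
      -(x * x) - y * y - z * z + x * y * c 0 1 + y * z * c 1 2 + x * z * c 0 2 < 0 := by
    intro x y z hxyz
    have h4 := h.neg ![x, y, z] (by
      intro h
      have e0 := congrFun h 0
      have e1 := congrFun h 1
      have e2 := congrFun h 2
      simp at e0 e1 e2
      rcases hxyz with h | h | h <;> contradiction)
    simp only [Fin.sum_univ_three, Matrix.cons_val_zero, Matrix.cons_val_one, Matrix.cons_val_two,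
      Matrix.tail_cons, Matrix.head_cons, h.diag, h.symm 1 0, h.symm 2 0, h.symm 2 1] at h4
    linarith
  rcases h.val 0 1 (by decide) with a | a | a | a
  · exact absurd a h01
  · rcases h.val 1 2 (by decide) with b | b | b | b
    · exact absurd b h12
    · exact Or.inl ⟨a, b⟩
    · exact Or.inr (Or.inl ⟨a, b⟩)
    · exfalso
      have := key 1 2 (√3) (Or.inl one_ne_zero)
      rw [a, b] at this
      nlinarith [mul_nonneg p3.le h3]
  · rcases h.val 1 2 (by decide) with b | b | b | b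
    · exact absurd b h12
    · exact Or.inr (Or.inr ⟨a, b⟩)
    · exfalso
      have := key (√2) 2 (√2) (Or.inr (Or.inl two_ne_zero))
      rw [a, b] at this
      nlinarith [mul_nonneg p3.le h3]
    · exfalso
      have := key 1 2 (√3) (Or.inl one_ne_zero)
      rw [b] at this
      nlinarith [mul_nonneg p3.le h3]
  · exfalso
    have := key (√3) 2 1 (Or.inr (Or.inl two_ne_zero))
    rw [a] at this
    nlinarith [mul_nonneg p3.le h3]

end Small

namespace Sys

variable {ι : Type*} [Fintype ι] {c : ι → ι → ℝ}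

theorem tri (h : Sys c) {i j k : ι} (hij : i ≠ j) (hjk : j ≠ k) (hik : i ≠ k)
    (h1 : c i j ≠ 0) (h2 : c j k ≠ 0) : c i k = 0 := by
  by_contra h3
  exact tri_fin _ (h.comp ![i, j, k] (inj3 hij hjk hik)) h1 h2 h3

theorem chain3 (h : Sys c) {i j k : ι} (hij : i ≠ j) (hjk : j ≠ k) (hik : i ≠ k)
    (h1 : c i j ≠ 0) (h2 : c j k ≠ 0) :
    (c i j = 1 ∧ c j k = 1) ∨ (c i j = 1 ∧ c j k = √2) ∨ (c i j = √2 ∧ c j k = 1) :=
  chain_fin _ (h.comp ![i, j, k] (inj3 hij hjk hik)) h1 h2

end Sys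

end K378.Dynkin
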