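import Groth.Agent.Models.H74.CohSide
import Groth.Agent.Models.H73.PicCount

/-!
# Euler characteristics and finite birational morphisms of curves over a field

`Z` reduced and proper of dimension `≤ 1` over a field `k`, `ν : Z' → Z` finite over `k`, an isomorphism over a dense open.
* `euler_le`: `χ(O_Z) ≤ χ(O_{Z'})`;
* `isIso_of_euler_le`: equality implies that `ν` is an isomorphism.
-/

set_option autoImplicit false
universe u
open CategoryTheory CategoryTheory.Limits AlgebraicGeometry Opposite TopologicalSpace Module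

namespace Groth.Agent.Models.K378.EulerBir

open Groth.Agent.CurvesB Groth.Agent.Models.H74 Groth.Agent.Models.H74.CohSeq Groth.Agent.Models.H74.CohSide

variable (k : Type u) [Field k] {Z Z' : Scheme.{u}} [Z.Over (Spec (CommRingCat.of k))]
  [Z'.Over (Spec (CommRingCat.of k))] [IsProper (Z ↘ Spec (CommRingCat.of k))] [IsReduced Z]
  (hdim : topologicalKrullDim Z ≤ 1) (ν : Z' ⟶ Z) [IsFinite ν]
  (hν : ν ≫ (Z ↘ Spec (CommRingCat.of k)) = Z' ↘ Spec (CommRingCat.of k))
  (U : Z.Opens) (hU : Dense (U : Set Z)) [IsIso (ν ∣_ U)]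

include hdim hν hU

omit hdim hν hU in
theorem isIso_of_app (ν : Z' ⟶ Z) [IsFinite ν] (h6 : ∀ V : Z.Opens, Function.Bijective (ν.app V)) : IsIso ν := by
  rw [← MorphismProperty.isomorphisms.iff, IsZariskiLocalAtTarget.iff_of_iSup_eq_top
    (P := MorphismProperty.isomorphisms Scheme.{u}) (fun U : Z.affineOpens => U.1) (iSup_affineOpens_eq_top Z)]
  intro V
  rw [MorphismProperty.isomorphisms.iff, isIso_morphismRestrict_iff_isIso_app ν V.2]
  exact (ConcreteCategory.isIso_iff_bijective _).2 (h6 V.1)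

omit hdim hν hU in
theorem subsingleton_of_flasque (F : Z.Modules) (h4 : Subsingleton Γ(F, ⊤))
    (hfl : TopCat.Sheaf.IsFlasque (X := Z.toTopCat) (Coh.toAb F)) (V : Z.Opens) : Subsingleton Γ(F, V) := by
  have h6 : Epi ((Coh.toAb F).obj.map (homOfLE (le_top (a := V))).op) := hfl.epi _
  have h7 : Function.Surjective ((Coh.toAb F).obj.map (homOfLE (le_top (a := V))).op) :=
    (AddCommGrpCat.epi_iff_surjective _).1 h6
  refine ⟨fun a b => ?_⟩
  obtain ⟨a', rfl⟩ := h7 a
  obtain ⟨b', rfl⟩ := h7 b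
  exact congrArg _ (h4.elim a' b')

theorem exists_data : ∃ (F : Z.Modules) (π : (Coh.push ν).obj (Coh.structureModule Z') ⟶ F)
    (w : ClSub.unitToPush ν ≫ π = 0), (ShortComplex.mk (ClSub.unitToPush ν) π w).ShortExact ∧
    Module.Finite k (Coh.HH Z F 0) ∧
    Curv2.euler k Z' (Coh.structureModule Z') = Curv2.euler k Z (Coh.structureModule Z) +
      finrank k (Coh.HH Z F 0) := by
  obtain ⟨F, π, w, hs⟩ := exists_seq ν U hU
  obtain ⟨hfin, heu⟩ := euler_relation k ν hν hs hdim U hU
  refine ⟨F, π, w, hs, hfin, ?_⟩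
  have hp : IsProper (Z' ↘ Spec (CommRingCat.of k)) := by rw [← hν]; infer_instance
  have hdim' := (H73.PicCount.topologicalKrullDim_le ν).trans hdim
  have e1 := CurvesC.EulerHV.euler_eq k Z hdim (Coh.structureModule Z)
  have e2 := CurvesC.EulerHV.euler_eq k Z' hdim' (Coh.structureModule Z')
  have g1 : finrank k (Coh.HH Z (Coh.structureModule Z) 1) = Curv2.genus k Z := rfl
  have g2 : finrank k (Coh.HH Z' (Coh.structureModule Z') 1) = Curv2.genus k Z' := rfl
  change Curv2.euler k Z (Coh.structureModule Z) = (finrank k (Coh.HH Z (Coh.structureModule Z) 0) : ℤ) -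
    finrank k (Coh.HH Z (Coh.structureModule Z) 1) at e1
  change Curv2.euler k Z' (Coh.structureModule Z') = (finrank k (Coh.HH Z' (Coh.structureModule Z') 0) : ℤ) -
    finrank k (Coh.HH Z' (Coh.structureModule Z') 1) at e2
  rw [e1, e2, g1, g2]
  omega

/-- `χ(O_Z) ≤ χ(O_{Z'})` -/
theorem euler_le : Curv2.euler k Z (Coh.structureModule Z) ≤ Curv2.euler k Z' (Coh.structureModule Z') := by
  obtain ⟨F, π, w, hs, hfin, h⟩ := exists_data k hdim ν hν U hU
  omega

/-- Equality of the Euler characteristics forces `ν` to be an isomorphism. -/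
theorem isIso_of_euler_le
    (h : Curv2.euler k Z' (Coh.structureModule Z') ≤ Curv2.euler k Z (Coh.structureModule Z)) : IsIso ν := by
  obtain ⟨F, π, w, hs, hfin, h1⟩ := exists_data k hdim ν hν U hU
  have hN : IsNoetherian Z := GenusLib.isNoetherian_of_proper (Z ↘ Spec (CommRingCat.of k))
  have h2 : finrank k (Coh.HH Z F 0) = 0 := by omega
  have h3 : Subsingleton (Coh.HH Z F 0) := finrank_zero_iff.mp h2
  have h4 : Subsingleton Γ(F, ⊤) := (HZero.equivLin k F).symm.toEquiv.subsingleton
  have hfl := isFlasque hs U hU hdim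
  have h5 : ∀ V : Z.Opens, Subsingleton Γ(F, V) := by
    intro V
    exact subsingleton_of_flasque F h4 hfl V
  have h6 : ∀ V : Z.Opens, Function.Bijective (ν.app V) := by
    intro V
    refine ⟨GenusLib.app_injective ν U hU V, fun b => ?_⟩
    exact (q_eq_zero_iff hs V b).mp ((h5 V).elim _ _)
  exact isIso_of_app ν h6

end Groth.Agent.Models.K378.EulerBir
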