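import Groth.Agent.Models.K378.Chain

set_option autoImplicit false

open Finset

/-! Excluded exceptional configurations in a Dynkin system: `D̃4`, `Ẽ6`, `Ẽ7`, `Ẽ8`, `F̃4`,
and short cycles. -/

namespace K378.Dynkin

/-- No vertex with four neighbours. -/
theorem D4t_fin (c : Fin 5 → Fin 5 → ℝ) (h : Sys c) (h01 : c 0 1 ≠ 0) (h02 : c 0 2 ≠ 0) (h03 : c 0 3 ≠ 0) (h04 : c 0 4 ≠ 0) : False := by
  have hx0 : ∀ i, 0 ≤ (![2, 1, 1, 1, 1] : Fin 5 → ℝ) i := by
    intro i; fin_cases i <;> simp
  have e01 := h.one_le 0 1 (by decide) h01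
  have e10 := e01
  rw [h.symm 0 1] at e10
  have e02 := h.one_le 0 2 (by decide) h02
  have e20 := e02
  rw [h.symm 0 2] at e20
  have e03 := h.one_le 0 3 (by decide) h03
  have e30 := e03
  rw [h.symm 0 3] at e30
  have e04 := h.one_le 0 4 (by decide) h04
  have e40 := e04
  rw [h.symm 0 4] at e40
  refine h.no_null ![2, 1, 1, 1, 1] hx0 (fun h0 => by
    have := congrFun h0 0; simp at this) fun i _ => ?_
  fin_cases i
  · refine le_trans ?_ (h.row_ge5 _ hx0 0 1 2 3 4 (by decide) (by decide) (by decide) (by decide) (by decide) (by decide) (by decide) (by decide) (by decide) (by decide))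
    simp
    linarith
  · refine le_trans ?_ (h.row_ge2 _ hx0 1 0 (by decide))
    simp
    linarith
  · refine le_trans ?_ (h.row_ge2 _ hx0 2 0 (by decide))
    simp
    linarith
  · refine le_trans ?_ (h.row_ge2 _ hx0 3 0 (by decide))
    simp
    linarith
  · refine le_trans ?_ (h.row_ge2 _ hx0 4 0 (by decide))
    simp
    linarith

/-- No completed `E6`: three chains of length two attached to `2`. -/
theorem E6t_fin (c : Fin 7 → Fin 7 → ℝ) (h : Sys c) (h01 : c 0 1 ≠ 0) (h12 : c 1 2 ≠ 0) (h34 : c 3 4 ≠ 0) (h42 : c 4 2 ≠ 0) (h56 : c 5 6 ≠ 0) (h62 : c 6 2 ≠ 0) : False := by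
  have hx0 : ∀ i, 0 ≤ (![1, 2, 3, 1, 2, 1, 2] : Fin 7 → ℝ) i := by
    intro i; fin_cases i <;> simp
  have e01 := h.one_le 0 1 (by decide) h01
  have e10 := e01
  rw [h.symm 0 1] at e10
  have e12 := h.one_le 1 2 (by decide) h12
  have e21 := e12
  rw [h.symm 1 2] at e21
  have e34 := h.one_le 3 4 (by decide) h34
  have e43 := e34
  rw [h.symm 3 4] at e43
  have e42 := h.one_le 4 2 (by decide) h42
  have e24 := e42
  rw [h.symm 4 2] at e24
  have e56 := h.one_le 5 6 (by decide) h56
  have e65 := e56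
  rw [h.symm 5 6] at e65
  have e62 := h.one_le 6 2 (by decide) h62
  have e26 := e62
  rw [h.symm 6 2] at e26
  refine h.no_null ![1, 2, 3, 1, 2, 1, 2] hx0 (fun h0 => by
    have := congrFun h0 0; simp at this) fun i _ => ?_
  fin_cases i
  · refine le_trans ?_ (h.row_ge2 _ hx0 0 1 (by decide))
    simp
    linarith
  · refine le_trans ?_ (h.row_ge3 _ hx0 1 0 2 (by decide) (by decide) (by decide))
    simp
    linarith
  · refine le_trans ?_ (h.row_ge4 _ hx0 2 1 4 6 (by decide) (by decide) (by decide) (by decide) (by decide) (by decide))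
    simp
    linarith
  · refine le_trans ?_ (h.row_ge2 _ hx0 3 4 (by decide))
    simp
    linarith
  · refine le_trans ?_ (h.row_ge3 _ hx0 4 3 2 (by decide) (by decide) (by decide))
    simp
    linarith
  · refine le_trans ?_ (h.row_ge2 _ hx0 5 6 (by decide))
    simp
    linarith
  · refine le_trans ?_ (h.row_ge3 _ hx0 6 5 2 (by decide) (by decide) (by decide))
    simp
    linarith

/-- No completed `E7`: chain `0 - … - 6` with `7` attached to `3`. -/
theorem E7t_fin (c : Fin 8 → Fin 8 → ℝ) (h : Sys c) (h01 : c 0 1 ≠ 0) (h12 : c 1 2 ≠ 0) (h23 : c 2 3 ≠ 0) (h34 : c 3 4 ≠ 0) (h45 : c 4 5 ≠ 0) (h56 : c 5 6 ≠ 0) (h73 : c 7 3 ≠ 0) : False := by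
  have hx0 : ∀ i, 0 ≤ (![1, 2, 3, 4, 3, 2, 1, 2] : Fin 8 → ℝ) i := by
    intro i; fin_cases i <;> simp
  have e01 := h.one_le 0 1 (by decide) h01
  have e10 := e01
  rw [h.symm 0 1] at e10
  have e12 := h.one_le 1 2 (by decide) h12
  have e21 := e12
  rw [h.symm 1 2] at e21
  have e23 := h.one_le 2 3 (by decide) h23
  have e32 := e23
  rw [h.symm 2 3] at e32
  have e34 := h.one_le 3 4 (by decide) h34
  have e43 := e34
  rw [h.symm 3 4] at e43
  have e45 := h.one_le 4 5 (by decide) h45
  have e54 := e45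
  rw [h.symm 4 5] at e54
  have e56 := h.one_le 5 6 (by decide) h56
  have e65 := e56
  rw [h.symm 5 6] at e65
  have e73 := h.one_le 7 3 (by decide) h73
  have e37 := e73
  rw [h.symm 7 3] at e37
  refine h.no_null ![1, 2, 3, 4, 3, 2, 1, 2] hx0 (fun h0 => by
    have := congrFun h0 0; simp at this) fun i _ => ?_
  fin_cases i
  · refine le_trans ?_ (h.row_ge2 _ hx0 0 1 (by decide))
    simp
    linarith
  · refine le_trans ?_ (h.row_ge3 _ hx0 1 0 2 (by decide) (by decide) (by decide))
    simp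
    linarith
  · refine le_trans ?_ (h.row_ge3 _ hx0 2 1 3 (by decide) (by decide) (by decide))
    simp
    linarith
  · refine le_trans ?_ (h.row_ge4 _ hx0 3 2 4 7 (by decide) (by decide) (by decide) (by decide) (by decide) (by decide))
    simp
    linarith
  · refine le_trans ?_ (h.row_ge3 _ hx0 4 3 5 (by decide) (by decide) (by decide))
    simp
    linarith
  · refine le_trans ?_ (h.row_ge3 _ hx0 5 4 6 (by decide) (by decide) (by decide))
    simp
    linarith
  · refine le_trans ?_ (h.row_ge2 _ hx0 6 5 (by decide))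
    simp
    linarith
  · refine le_trans ?_ (h.row_ge2 _ hx0 7 3 (by decide))
    simp
    linarith

/-- No completed `E8`: chain `0 - … - 7` with `8` attached to `5`. -/
theorem E8t_fin (c : Fin 9 → Fin 9 → ℝ) (h : Sys c) (h01 : c 0 1 ≠ 0) (h12 : c 1 2 ≠ 0) (h23 : c 2 3 ≠ 0) (h34 : c 3 4 ≠ 0) (h45 : c 4 5 ≠ 0) (h56 : c 5 6 ≠ 0) (h67 : c 6 7 ≠ 0) (h85 : c 8 5 ≠ 0) : False := by
  have hx0 : ∀ i, 0 ≤ (![1, 2, 3, 4, 5, 6, 4, 2, 3] : Fin 9 → ℝ) i := by
    intro i; fin_cases i <;> simp
  have e01 := h.one_le 0 1 (by decide) h01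
  have e10 := e01
  rw [h.symm 0 1] at e10
  have e12 := h.one_le 1 2 (by decide) h12
  have e21 := e12
  rw [h.symm 1 2] at e21
  have e23 := h.one_le 2 3 (by decide) h23
  have e32 := e23
  rw [h.symm 2 3] at e32
  have e34 := h.one_le 3 4 (by decide) h34
  have e43 := e34
  rw [h.symm 3 4] at e43
  have e45 := h.one_le 4 5 (by decide) h45
  have e54 := e45
  rw [h.symm 4 5] at e54
  have e56 := h.one_le 5 6 (by decide) h56
  have e65 := e56
  rw [h.symm 5 6] at e65
  have e67 := h.one_le 6 7 (by decide) h67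
  have e76 := e67
  rw [h.symm 6 7] at e76
  have e85 := h.one_le 8 5 (by decide) h85
  have e58 := e85
  rw [h.symm 8 5] at e58
  refine h.no_null ![1, 2, 3, 4, 5, 6, 4, 2, 3] hx0 (fun h0 => by
    have := congrFun h0 0; simp at this) fun i _ => ?_
  fin_cases i
  · refine le_trans ?_ (h.row_ge2 _ hx0 0 1 (by decide))
    simp
    linarith
  · refine le_trans ?_ (h.row_ge3 _ hx0 1 0 2 (by decide) (by decide) (by decide))
    simp
    linarith
  · refine le_trans ?_ (h.row_ge3 _ hx0 2 1 3 (by decide) (by decide) (by decide))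
    simp
    linarith
  · refine le_trans ?_ (h.row_ge3 _ hx0 3 2 4 (by decide) (by decide) (by decide))
    simp
    linarith
  · refine le_trans ?_ (h.row_ge3 _ hx0 4 3 5 (by decide) (by decide) (by decide))
    simp
    linarith
  · refine le_trans ?_ (h.row_ge4 _ hx0 5 4 6 8 (by decide) (by decide) (by decide) (by decide) (by decide) (by decide))
    simp
    linarith
  · refine le_trans ?_ (h.row_ge3 _ hx0 6 5 7 (by decide) (by decide) (by decide))
    simp
    linarith
  · refine le_trans ?_ (h.row_ge2 _ hx0 7 6 (by decide))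
    simp
    linarith
  · refine le_trans ?_ (h.row_ge2 _ hx0 8 5 (by decide))
    simp
    linarith

theorem cycle4_fin (c : Fin 4 → Fin 4 → ℝ) (h : Sys c) (h01 : c 0 1 ≠ 0) (h12 : c 1 2 ≠ 0) (h23 : c 2 3 ≠ 0) (hl : c 0 3 ≠ 0) : False := by
  have hx0 : ∀ i, 0 ≤ (![1, 1, 1, 1] : Fin 4 → ℝ) i := by
    intro i; fin_cases i <;> simp
  have e01 := h.one_le 0 1 (by decide) h01
  have e10 := e01
  rw [h.symm 0 1] at e10
  have e12 := h.one_le 1 2 (by decide) h12
  have e21 := e12
  rw [h.symm 1 2] at e21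
  have e23 := h.one_le 2 3 (by decide) h23
  have e32 := e23
  rw [h.symm 2 3] at e32
  have e03 := h.one_le 0 3 (by decide) hl
  have e30 := e03
  rw [h.symm 0 3] at e30
  refine h.no_null ![1, 1, 1, 1] hx0 (fun h0 => by
    have := congrFun h0 0; simp at this) fun i _ => ?_
  fin_cases i
  · refine le_trans ?_ (h.row_ge3 _ hx0 0 1 3 (by decide) (by decide) (by decide))
    simp
    linarith
  · refine le_trans ?_ (h.row_ge3 _ hx0 1 0 2 (by decide) (by decide) (by decide))
    simp
    linarith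
  · refine le_trans ?_ (h.row_ge3 _ hx0 2 1 3 (by decide) (by decide) (by decide))
    simp
    linarith
  · refine le_trans ?_ (h.row_ge3 _ hx0 3 2 0 (by decide) (by decide) (by decide))
    simp
    linarith

theorem cycle5_fin (c : Fin 5 → Fin 5 → ℝ) (h : Sys c) (h01 : c 0 1 ≠ 0) (h12 : c 1 2 ≠ 0) (h23 : c 2 3 ≠ 0) (h34 : c 3 4 ≠ 0) (hl : c 0 4 ≠ 0) : False := by
  have hx0 : ∀ i, 0 ≤ (![1, 1, 1, 1, 1] : Fin 5 → ℝ) i := by
    intro i; fin_cases i <;> simp
  have e01 := h.one_le 0 1 (by decide) h01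
  have e10 := e01
  rw [h.symm 0 1] at e10
  have e12 := h.one_le 1 2 (by decide) h12
  have e21 := e12
  rw [h.symm 1 2] at e21
  have e23 := h.one_le 2 3 (by decide) h23
  have e32 := e23
  rw [h.symm 2 3] at e32
  have e34 := h.one_le 3 4 (by decide) h34
  have e43 := e34
  rw [h.symm 3 4] at e43
  have e04 := h.one_le 0 4 (by decide) hl
  have e40 := e04
  rw [h.symm 0 4] at e40
  refine h.no_null ![1, 1, 1, 1, 1] hx0 (fun h0 => by
    have := congrFun h0 0; simp at this) fun i _ => ?_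
  fin_cases i
  · refine le_trans ?_ (h.row_ge3 _ hx0 0 1 4 (by decide) (by decide) (by decide))
    simp
    linarith
  · refine le_trans ?_ (h.row_ge3 _ hx0 1 0 2 (by decide) (by decide) (by decide))
    simp
    linarith
  · refine le_trans ?_ (h.row_ge3 _ hx0 2 1 3 (by decide) (by decide) (by decide))
    simp
    linarith
  · refine le_trans ?_ (h.row_ge3 _ hx0 3 2 4 (by decide) (by decide) (by decide))
    simp
    linarith
  · refine le_trans ?_ (h.row_ge3 _ hx0 4 3 0 (by decide) (by decide) (by decide))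
    simp
    linarith

theorem cycle6_fin (c : Fin 6 → Fin 6 → ℝ) (h : Sys c) (h01 : c 0 1 ≠ 0) (h12 : c 1 2 ≠ 0) (h23 : c 2 3 ≠ 0) (h34 : c 3 4 ≠ 0) (h45 : c 4 5 ≠ 0) (hl : c 0 5 ≠ 0) : False := by
  have hx0 : ∀ i, 0 ≤ (![1, 1, 1, 1, 1, 1] : Fin 6 → ℝ) i := by
    intro i; fin_cases i <;> simp
  have e01 := h.one_le 0 1 (by decide) h01
  have e10 := e01
  rw [h.symm 0 1] at e10
  have e12 := h.one_le 1 2 (by decide) h12
  have e21 := e12
  rw [h.symm 1 2] at e21
  have e23 := h.one_le 2 3 (by decide) h23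
  have e32 := e23
  rw [h.symm 2 3] at e32
  have e34 := h.one_le 3 4 (by decide) h34
  have e43 := e34
  rw [h.symm 3 4] at e43
  have e45 := h.one_le 4 5 (by decide) h45
  have e54 := e45
  rw [h.symm 4 5] at e54
  have e05 := h.one_le 0 5 (by decide) hl
  have e50 := e05
  rw [h.symm 0 5] at e50
  refine h.no_null ![1, 1, 1, 1, 1, 1] hx0 (fun h0 => by
    have := congrFun h0 0; simp at this) fun i _ => ?_
  fin_cases i
  · refine le_trans ?_ (h.row_ge3 _ hx0 0 1 5 (by decide) (by decide) (by decide))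
    simp
    linarith
  · refine le_trans ?_ (h.row_ge3 _ hx0 1 0 2 (by decide) (by decide) (by decide))
    simp
    linarith
  · refine le_trans ?_ (h.row_ge3 _ hx0 2 1 3 (by decide) (by decide) (by decide))
    simp
    linarith
  · refine le_trans ?_ (h.row_ge3 _ hx0 3 2 4 (by decide) (by decide) (by decide))
    simp
    linarith
  · refine le_trans ?_ (h.row_ge3 _ hx0 4 3 5 (by decide) (by decide) (by decide))
    simp
    linarith
  · refine le_trans ?_ (h.row_ge3 _ hx0 5 4 0 (by decide) (by decide) (by decide))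
    simp
    linarith

theorem cycle7_fin (c : Fin 7 → Fin 7 → ℝ) (h : Sys c) (h01 : c 0 1 ≠ 0) (h12 : c 1 2 ≠ 0) (h23 : c 2 3 ≠ 0) (h34 : c 3 4 ≠ 0) (h45 : c 4 5 ≠ 0) (h56 : c 5 6 ≠ 0) (hl : c 0 6 ≠ 0) : False := by
  have hx0 : ∀ i, 0 ≤ (![1, 1, 1, 1, 1, 1, 1] : Fin 7 → ℝ) i := by
    intro i; fin_cases i <;> simp
  have e01 := h.one_le 0 1 (by decide) h01
  have e10 := e01
  rw [h.symm 0 1] at e10
  have e12 := h.one_le 1 2 (by decide) h12
  have e21 := e12
  rw [h.symm 1 2] at e21
  have e23 := h.one_le 2 3 (by decide) h23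
  have e32 := e23
  rw [h.symm 2 3] at e32
  have e34 := h.one_le 3 4 (by decide) h34
  have e43 := e34
  rw [h.symm 3 4] at e43
  have e45 := h.one_le 4 5 (by decide) h45
  have e54 := e45
  rw [h.symm 4 5] at e54
  have e56 := h.one_le 5 6 (by decide) h56
  have e65 := e56
  rw [h.symm 5 6] at e65
  have e06 := h.one_le 0 6 (by decide) hl
  have e60 := e06
  rw [h.symm 0 6] at e60
  refine h.no_null ![1, 1, 1, 1, 1, 1, 1] hx0 (fun h0 => by
    have := congrFun h0 0; simp at this) fun i _ => ?_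
  fin_cases i
  · refine le_trans ?_ (h.row_ge3 _ hx0 0 1 6 (by decide) (by decide) (by decide))
    simp
    linarith
  · refine le_trans ?_ (h.row_ge3 _ hx0 1 0 2 (by decide) (by decide) (by decide))
    simp
    linarith
  · refine le_trans ?_ (h.row_ge3 _ hx0 2 1 3 (by decide) (by decide) (by decide))
    simp
    linarith
  · refine le_trans ?_ (h.row_ge3 _ hx0 3 2 4 (by decide) (by decide) (by decide))
    simp
    linarith
  · refine le_trans ?_ (h.row_ge3 _ hx0 4 3 5 (by decide) (by decide) (by decide))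
    simp
    linarith
  · refine le_trans ?_ (h.row_ge3 _ hx0 5 4 6 (by decide) (by decide) (by decide))
    simp
    linarith
  · refine le_trans ?_ (h.row_ge3 _ hx0 6 5 0 (by decide) (by decide) (by decide))
    simp
    linarith

/-- No completed `F4`: a chain of five vertices with its third edge double. -/
theorem F4t_fin (c : Fin 5 → Fin 5 → ℝ) (h : Sys c) (h01 : c 0 1 ≠ 0) (h12 : c 1 2 ≠ 0)
    (h23 : c 2 3 = √2) (h34 : c 3 4 ≠ 0) : False := by
  have p2 := sqrt_two_pos
  have s2 := sqrt_two_sq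
  have hx0 : ∀ i, 0 ≤ (![1, 2, 3, 2 * √2, √2] : Fin 5 → ℝ) i := by
    intro i; fin_cases i <;> simp
  have e01 := h.one_le 0 1 (by decide) h01
  have e10 := e01
  rw [h.symm 0 1] at e10
  have e12 := h.one_le 1 2 (by decide) h12
  have e21 := e12
  rw [h.symm 1 2] at e21
  have e34 := h.one_le 3 4 (by decide) h34
  have e43 := e34
  rw [h.symm 3 4] at e43
  have e32 := h23
  rw [h.symm 2 3] at e32
  refine h.no_null ![1, 2, 3, 2 * √2, √2] hx0 (fun h0 => by
    have := congrFun h0 0; simp at this) fun i _ => ?_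
  fin_cases i
  · refine le_trans ?_ (h.row_ge2 _ hx0 0 1 (by decide))
    simp
    linarith
  · refine le_trans ?_ (h.row_ge3 _ hx0 1 0 2 (by decide) (by decide) (by decide))
    simp
    linarith
  · refine le_trans ?_ (h.row_ge3 _ hx0 2 1 3 (by decide) (by decide) (by decide))
    rw [h23]
    simp
    nlinarith
  · refine le_trans ?_ (h.row_ge3 _ hx0 3 2 4 (by decide) (by decide) (by decide))
    rw [e32]
    simp
    nlinarith
  · refine le_trans ?_ (h.row_ge2 _ hx0 4 3 (by decide))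
    simp
    nlinarith

end K378.Dynkin
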