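import Groth.Agent.Models.K378.ExtData

/-!
# The equivalence relation contains no fibre
-/

set_option autoImplicit false
universe u
open CategoryTheory CategoryTheory.Limits AlgebraicGeometry

namespace Groth.Agent.Models.K378.ExtModel

open Groth.Agent.Grpsch.PicGrp CurveDeg Seesaw DegContra

/-- A morphism from a reduced scheme into the support of a closed subscheme factors through it. -/
theorem exists_fac_of_reduced {C P : Scheme.{u}} [IsReduced C] (I : P.IdealSheafData) (g : C ⟶ P)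
    (h : ∀ z, g z ∈ I.support) : ∃ u : C ⟶ I.subscheme, u ≫ I.subschemeι = g := by
  have h1 : I.comap g = ⊥ := by
    rw [← Scheme.IdealSheafData.support_eq_top_iff, Scheme.IdealSheafData.support_comap, eq_top_iff]
    intro z _
    exact h z
  have h2 : I ≤ g.ker := by
    rw [← Scheme.IdealSheafData.map_bot, Scheme.IdealSheafData.le_map_iff_comap_le, h1]
  exact ⟨IsClosedImmersion.lift I.subschemeι g (by rwa [Scheme.IdealSheafData.ker_subschemeι]),
    IsClosedImmersion.lift_fac _ _ _⟩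

namespace Data

variable {R : Type u} [CommRing R] [IsDomain R] [IsDiscreteValuationRing R] (D : Data R)

theorem W_ff : D.IW.subschemeι ≫ D.ff ≫ pullback.fst D.fY D.fY = D.IW.subschemeι ≫ D.ff ≫ pullback.snd D.fY D.fY := by
  have h1 : (pullback.diagonal D.fY).ker ≤ (D.IW.subschemeι ≫ D.ff).ker := by
    rw [Scheme.Hom.ker_comp, Scheme.IdealSheafData.ker_subschemeι]
    exact Scheme.IdealSheafData.le_map_comap _ _
  have h2 := IsClosedImmersion.lift_fac (pullback.diagonal D.fY) (D.IW.subschemeι ≫ D.ff) h1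
  rw [← Category.assoc, ← Category.assoc, ← h2, Category.assoc, Category.assoc, pullback.diagonal_fst,
    pullback.diagonal_snd]

theorem W_f : (D.IW.subschemeι ≫ pullback.fst D.fX D.fX) ≫ D.f = (D.IW.subschemeι ≫ pullback.snd D.fX D.fX) ≫ D.f := by
  rw [Category.assoc, Category.assoc, ← D.ff_fst, ← D.ff_snd, W_ff]

theorem hW (Q : Scheme.{u}) (q : Q ⟶ D.IW.subscheme) (y : Q ⟶ D.XR)
    (h1 : (q ≫ (D.IW.subschemeι ≫ D.m) ≫ pullback.fst D.p D.p) ≫ D.p = y ≫ D.p)
    (h2 : (q ≫ (D.IW.subschemeι ≫ D.m) ≫ pullback.snd D.p D.p) ≫ D.p = y ≫ D.p) :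
    cls D.ν (q ≫ (D.IW.subschemeι ≫ D.m) ≫ pullback.fst D.p D.p) y h1 =
      cls D.ν (q ≫ (D.IW.subschemeι ≫ D.m) ≫ pullback.snd D.p D.p) y h2 := by
  obtain ⟨a, ha⟩ : ∃ a : Q ⟶ D.X, a = q ≫ D.IW.subschemeι ≫ pullback.fst D.fX D.fX := ⟨_, rfl⟩
  obtain ⟨b, hb⟩ : ∃ b : Q ⟶ D.X, b = q ≫ D.IW.subschemeι ≫ pullback.snd D.fX D.fX := ⟨_, rfl⟩
  have ea : q ≫ (D.IW.subschemeι ≫ D.m) ≫ pullback.fst D.p D.p = a ≫ D.i := by
    rw [ha]; simp only [Category.assoc, D.m_fst]
  have eb : q ≫ (D.IW.subschemeι ≫ D.m) ≫ pullback.snd D.p D.p = b ≫ D.i := by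
    rw [hb]; simp only [Category.assoc, D.m_snd]
  have hab : a ≫ D.fX = b ≫ D.fX := by
    rw [ha, hb]; simp only [Category.assoc, pullback.condition]
  have habf : a ≫ D.f = b ≫ D.f := by
    rw [ha, hb, Category.assoc, Category.assoc q, D.W_f]
  have hy : y ≫ D.p = (a ≫ D.fX) ≫ gen R := by
    rw [← h1, ea, Category.assoc, D.hi.w, Category.assoc]
  obtain ⟨y', hy1, hy2⟩ : ∃ y' : Q ⟶ D.X, y' ≫ D.i = y ∧ y' ≫ D.fX = a ≫ D.fX :=
    ⟨D.hi.lift y _ hy, IsPullback.lift_fst _ _ _ _, IsPullback.lift_snd _ _ _ _⟩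
  subst hy1
  have c1 : (a ≫ D.i) ≫ D.p = (y' ≫ D.i) ≫ D.p := by
    rw [Category.assoc, Category.assoc, D.hi.w, ← Category.assoc, ← Category.assoc, hy2]
  have c2 : (b ≫ D.i) ≫ D.p = (y' ≫ D.i) ≫ D.p := by
    rw [Category.assoc, Category.assoc, D.hi.w, ← Category.assoc, ← Category.assoc, hy2, hab]
  have c3 : (a ≫ D.f) ≫ D.fY = (y' ≫ D.f) ≫ D.fY := by
    rw [Category.assoc, Category.assoc, D.hf, hy2]
  have c4 : (b ≫ D.f) ≫ D.fY = (y' ≫ D.f) ≫ D.fY := by
    rw [Category.assoc, Category.assoc, D.hf, hy2, hab]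
  rw [cls_congr D.ν h1 c1 ea rfl, cls_congr D.ν h2 c2 eb rfl, D.hν a y' hy2.symm c1 c3,
    D.hν b y' (by rw [hy2, hab]) c2 c4]
  have e : pullback.lift (a ≫ D.f) (y' ≫ D.f) c3 = pullback.lift (b ≫ D.f) (y' ≫ D.f) c4 := by
    apply pullback.hom_ext
    · rw [pullback.lift_fst, pullback.lift_fst, habf]
    · rw [pullback.lift_snd, pullback.lift_snd]
  rw [e]

theorem exists_class {T : Scheme.{u}} [IsLocallyNoetherian T] (a b : T ⟶ D.XR) (hab : a ≫ D.p = b ≫ D.p)
    (u : T ⟶ D.E.subscheme) (hu : u ≫ D.E.subschemeι = pullback.lift a b hab) :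
    ∃ M : Pic T, ∀ (r : T ⟶ D.XR) (h1 : a ≫ D.p = r ≫ D.p) (h2 : b ≫ D.p = r ≫ D.p),
      cls D.ν a r h1 = cls D.ν b r h2 * M := by
  have : IsLocallyNoetherian D.IW.subscheme := LocallyOfFiniteType.isLocallyNoetherian D.IW.subschemeι
  exact Seesaw.exists_class D.ν D.E (D.IW.subschemeι ≫ D.m) rfl D.hW a b hab u hu

section fibre

variable {κ : Type u} [Field κ] {C : Scheme.{u}} {c : C ⟶ D.XR} {π : C ⟶ Spec (CommRingCat.of κ)}
  {τ : Spec (CommRingCat.of κ) ⟶ D.XR} (hC : IsPullback c π D.p (τ ≫ D.p))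

include hC

theorem isIntegral_C : IsIntegral C := GeometricallyIntegral.geometrically_isIntegral (f := D.p) _ _ _ hC

theorem dim_C : topologicalKrullDim C = 1 := FibreDim.dim_eq D.hi D.hX.2.2.2 hC

theorem isProper_π : IsProper π := MorphismProperty.of_isPullback (P := @IsProper) hC inferInstance

theorem cls_π : cls D.ν (π ≫ τ) (π ≫ τ) rfl = 1 := by
  rw [← pull_cls D.ν π τ τ rfl rfl, pic_spec_local κ (cls D.ν τ τ rfl), map_one]

theorem false_of_rel
    (hrel : cls D.ν c c rfl = cls D.ν (π ≫ τ) c (w_fst hC) * cls D.ν c (π ≫ τ) (w_fst hC).symm) : False := by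
  have := D.isIntegral_C hC
  refine contra D.hf D.hi D.ν (fun x y hxy h1 h2 => D.hν x y hxy h1 h2) D.hX D.hY D.hY0 D.hg hC (D.dim_C hC) hrel

/-- No fibre of the first projection is contained in the support. -/
theorem exists_notMem_fst : ∃ z : C, (pullback.lift (π ≫ τ) c (w_fst hC)) z ∉ D.E.support := by
  by_contra hcon
  push Not at hcon
  have := D.isIntegral_C hC
  have := D.isProper_π hC
  have : IsLocallyNoetherian C := LocallyOfFiniteType.isLocallyNoetherian π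
  obtain ⟨u, hu⟩ := exists_fac_of_reduced D.E _ hcon
  obtain ⟨M, hM⟩ := D.exists_class (π ≫ τ) c (w_fst hC) u hu
  have h1 := hM c (w_fst hC) rfl
  have h2 := hM (π ≫ τ) rfl (w_fst hC).symm
  rw [D.cls_π hC] at h2
  apply D.false_of_rel hC
  rw [h1, mul_assoc, mul_comm M, ← h2, mul_one]

/-- No fibre of the second projection is contained in the support. -/
theorem exists_notMem_snd : ∃ z : C, (pullback.lift c (π ≫ τ) (w_fst hC).symm) z ∉ D.E.support := by
  by_contra hcon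
  push Not at hcon
  have := D.isIntegral_C hC
  have := D.isProper_π hC
  have : IsLocallyNoetherian C := LocallyOfFiniteType.isLocallyNoetherian π
  obtain ⟨u, hu⟩ := exists_fac_of_reduced D.E _ hcon
  obtain ⟨M, hM⟩ := D.exists_class c (π ≫ τ) (w_fst hC).symm u hu
  have h1 := hM c rfl (w_fst hC)
  have h2 := hM (π ≫ τ) (w_fst hC).symm rfl
  rw [D.cls_π hC, one_mul] at h2
  apply D.false_of_rel hC
  rw [h1, h2]

end fibre

end Data

end Groth.Agent.Models.K378.ExtModel
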