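import Groth.Agent.Divis.MapOpen
import Groth.Agent.Divis.UfdIdeal
import Groth.Agent.Divis.UfdColon

/-!
# The closure of an effective Cartier divisor

`isEff_map` : the schematic closure, along an open immersion, of an effective Cartier divisor is effective Cartier
when the local rings outside are factorial (the proof of S1660).
-/

set_option autoImplicit false
universe u
open CategoryTheory CategoryTheory.Limits AlgebraicGeometry

namespace Groth.Agent.Models.K378.ExtDiv

open Groth.Agent.Divis.CartierBasic Groth.Agent.Divis.CartierStalk Groth.Agent.CycB.LocQuot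
  Groth.Agent.Divis.StalkPrime Groth.Agent.Divis.StalkAssoc Groth.Agent.Divis.MapOpen

theorem isEff_map {X Z : Scheme.{u}} [IsLocallyNoetherian X] (j : Z ⟶ X) [IsOpenImmersion j] [QuasiCompact j]
    (D : Z.IdealSheafData) (hD : BlowUp.IsEffCartierIdeal D)
    (hufd : ∀ x : X, x ∉ j.opensRange →
      IsDomain (X.presheaf.stalk x) ∧ UniqueFactorizationMonoid (X.presheaf.stalk x)) :
    BlowUp.IsEffCartierIdeal (D.map j) := by
  have hcm : (D.map j).comap j = D := comap_map D j
  -- points of the image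
  have hin : ∀ x ∈ j.opensRange, ∃ g ∈ nonZeroDivisors (X.presheaf.stalk x),
      stalkIdeal (D.map j) x = Ideal.span {g} := by
    rintro x ⟨z, rfl⟩
    have h1 := exists_generator_of_comap (D.map j) j z (by
      rw [hcm]; exact exists_stalkIdeal_eq_span hD _)
    exact h1
  rw [isEffCartierIdeal_iff_stalkIdeal]
  intro x
  by_cases hxU : x ∈ j.opensRange
  · exact hin x hxU
  obtain ⟨hdom, hU⟩ := hufd x hxU
  -- associated points lie in the image
  have hass : ∀ (p : Ideal (X.presheaf.stalk x)) (hp : p.IsPrime) (a : X.presheaf.stalk x),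
      (∀ r, r ∈ p ↔ r * a ∈ stalkIdeal (D.map j) x) → ptOf (⟨p, hp⟩ : PrimeSpectrum _) ∈ j.opensRange := by
    intro p hp a ha
    by_contra hy
    have h1 := mem_maximalIdeal_iff_of_colon (D.map j) ⟨p, hp⟩ a ha
    have h2 := mem_stalkIdeal_ker_of_forall (D.subschemeι ≫ j) j.opensRange (fun z => by
      rw [Scheme.Hom.comp_apply]
      exact ⟨_, rfl⟩) (ptOf (⟨p, hp⟩ : PrimeSpectrum _)) hy _ (fun s hs => (h1 s).1 hs)
    have h3 := (h1 1).2 (by rw [one_mul]; exact h2)
    exact (Ideal.IsPrime.ne_top (I := IsLocalRing.maximalIdeal _) inferInstance) ((Ideal.eq_top_iff_one _).2 h3)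
  have hne : stalkIdeal (D.map j) x ≠ ⊥ := by
    intro hbot
    have h1 := hass ⊥ Ideal.isPrime_bot 1 (fun r => by rw [mul_one, hbot])
    obtain ⟨g, hg, h2⟩ := hin _ h1
    rw [← stalkIdeal_map_stalkSpecializes _ (ptOf_specializes _), hbot, Ideal.map_bot] at h2
    exact nonZeroDivisors.ne_zero hg (Ideal.span_singleton_eq_bot.1 h2.symm)
  have hprinc : (stalkIdeal (D.map j) x).IsPrincipal := by
    refine Groth.Agent.Divis.UfdIdeal.isPrincipal_of_assoc_principal _ hne ?_
    intro p hp a ha
    have h1 := hass p hp a ha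
    obtain ⟨g, hg, h2⟩ := hin _ h1
    have h3 := mem_maximalIdeal_iff_of_colon (D.map j) ⟨p, hp⟩ a ha
    rw [h2] at h3
    let := (X.presheaf.stalkSpecializes (ptOf_specializes (⟨p, hp⟩ : PrimeSpectrum _))).hom.toAlgebra
    have hloc := isLocalization_stalkSpecializes (ptOf_specializes (⟨p, hp⟩ : PrimeSpectrum (X.presheaf.stalk x)))
    have h4 := Groth.Agent.Divis.UfdColon.isPrincipal_of_atPrime_colon
      (RingHom.ker (Cyc.specMap x (ptOf ⟨p, hp⟩) (ptOf_specializes ⟨p, hp⟩)))
      (X.presheaf.stalk (ptOf (⟨p, hp⟩ : PrimeSpectrum _))) g _ hg h3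
    rw [← primeOf_asIdeal, primeOf_ptOf] at h4
    exact h4
  obtain ⟨g, hg⟩ := hprinc
  refine ⟨g, mem_nonZeroDivisors_of_ne_zero ?_, hg⟩
  rintro rfl
  exact hne (by rw [hg]; simp)

theorem comap_map {X Z : Scheme.{u}} (j : Z ⟶ X) [IsOpenImmersion j] [QuasiCompact j] (D : Z.IdealSheafData) :
    (D.map j).comap j = D := Groth.Agent.Divis.MapOpen.comap_map D j

end Groth.Agent.Models.K378.ExtDiv
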