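import Groth.Agent.Models.H68.FibGood
import Groth.Agent.S0403
import Groth.Agent.Etcore.DimBaseChange

/-!
# The fibres of a proper model of a curve are one-dimensional
-/

set_option autoImplicit false
universe u
open CategoryTheory CategoryTheory.Limits AlgebraicGeometry

namespace Groth.Agent.Models.K378.FibreDim

variable {R : Type u} [CommRing R] [IsDomain R] [IsDiscreteValuationRing R] {X XR : Scheme.{u}}
  {p : XR ⟶ Spec (CommRingCat.of R)} {f : X ⟶ Spec (CommRingCat.of (FractionRing R))} {i : X ⟶ XR}

theorem isPullback_fiber {X S : Scheme.{u}} (f : X ⟶ S) (s : S) :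
    IsPullback (f.fiberι s) (f.fiberToSpecResidueField s) f (S.fromSpecResidueField s) :=
  IsPullback.of_hasPullback _ _

theorem exists_field_fac {S : Scheme.{u}} {κ : Type u} [Field κ] (σ : Spec (CommRingCat.of κ) ⟶ S) :
    ∃ (s : S) (ψ : S.residueField s ⟶ CommRingCat.of κ), Spec.map ψ ≫ S.fromSpecResidueField s = σ :=
  ⟨_, _, Scheme.descResidueField_stalkClosedPointTo_fromSpecResidueField κ S σ⟩

theorem dim_fiber_eq [Flat p] [IsProper p]
    (hi : IsPullback i f p (Spec.map (CommRingCat.ofHom (algebraMap R (FractionRing R)))))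
    (hdim : topologicalKrullDim X = 1) (s : Spec (CommRingCat.of R)) :
    topologicalKrullDim (p.fiber s) = 1 := by
  let η : Spec (CommRingCat.of R) := Spec.map (CommRingCat.ofHom (algebraMap R (FractionRing R)))
    (IsLocalRing.closedPoint (FractionRing R))
  have h0 : η ⤳ s := by
    refine (PrimeSpectrum.le_iff_specializes η s).1 ?_
    intro a ha
    have h1 : algebraMap R (FractionRing R) a ∈ (IsLocalRing.closedPoint (FractionRing R)).asIdeal := ha
    have h2 : (IsLocalRing.closedPoint (FractionRing R)).asIdeal = ⊥ := IsLocalRing.maximalIdeal_eq_bot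
    rw [h2, Ideal.mem_bot, FaithfulSMul.algebraMap_eq_zero_iff] at h1
    rw [h1]
    exact zero_mem _
  have hη : topologicalKrullDim (p.fiber η) = 1 := by
    have h1 := Groth.Agent.Models.DVRGeneric.isOpenImmersion_generic R (FractionRing R)
    have h2 := Groth.Agent.Models.DVRGeneric.isOpenImmersion_of_isPullback hi
    have h3 := Groth.Agent.Models.DVRGeneric.opensRange_eq_of_isPullback hi
    have h4 : Set.range i = p ⁻¹' {η} := by
      have h5 := congrArg (fun U : XR.Opens => (U : Set XR)) h3
      have h6 : Set.range i = p ⁻¹' (Set.range (Spec.map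
        (CommRingCat.ofHom (algebraMap R (FractionRing R))))) := by simpa using h5
      rw [h6]
      congr 1
      ext x
      constructor
      · rintro ⟨y, rfl⟩
        rw [Set.mem_singleton_iff, Subsingleton.elim y (IsLocalRing.closedPoint (FractionRing R))]
      · rintro rfl
        exact ⟨_, rfl⟩
    have e1 : X ≃ₜ Set.range i := i.isOpenEmbedding.isEmbedding.toHomeomorph
    have e2 : X ≃ₜ (p ⁻¹' {η} : Set XR) := e1.trans (Homeomorph.setCongr h4)
    rw [H68.FibGood.dim_fiber, ← hdim]
    exact (IsHomeomorph.topologicalKrullDim_eq e2 e2.isHomeomorph).symm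
  have : LocallyOfFinitePresentation p := inferInstance
  have h1 : topologicalKrullDim (p.fiber s) ≤ 1 := by
    by_contra h
    rw [not_le] at h
    have h2 : η ∈ {s : Spec (CommRingCat.of R) | 1 < topologicalKrullDim (p.fiber s)} :=
      h0.mem_open (Groth.Agent.S0404.result p 1) h
    rw [Set.mem_ofPred_eq, hη] at h2
    exact lt_irrefl _ h2
  have h2 : ¬ topologicalKrullDim (p.fiber s) ≤ 0 := by
    intro h
    have h2 : η ∈ {s : Spec (CommRingCat.of R) | topologicalKrullDim (p.fiber s) ≤ 0} :=
      h0.mem_open (Groth.Agent.S0403.result p 0) h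
    rw [Set.mem_ofPred_eq, hη] at h2
    exact absurd h2 (by decide)
  rw [not_le] at h2
  refine le_antisymm h1 ?_
  generalize topologicalKrullDim (p.fiber s) = d at h2
  induction d with
  | bot => exact absurd h2 (by simp)
  | coe d =>
    have h3 : (0 : ℕ∞) < d := by exact_mod_cast h2
    have h4 : (1 : ℕ∞) ≤ d := Order.one_le_iff_pos.2 h3
    exact_mod_cast h4

/-- The fibres, over arbitrary fields, of a proper model of a curve are one-dimensional. -/
theorem dim_eq [Flat p] [IsProper p]
    (hi : IsPullback i f p (Spec.map (CommRingCat.ofHom (algebraMap R (FractionRing R)))))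
    (hdim : topologicalKrullDim X = 1) {κ : Type u} [Field κ] {C : Scheme.{u}} {c : C ⟶ XR}
    {π : C ⟶ Spec (CommRingCat.of κ)} {σ : Spec (CommRingCat.of κ) ⟶ Spec (CommRingCat.of R)}
    (hC : IsPullback c π p σ) : topologicalKrullDim C = 1 := by
  obtain ⟨s, ψ, rfl⟩ := exists_field_fac σ
  rw [← dim_fiber_eq hi hdim s]
  obtain ⟨a, ha1, ha2⟩ : ∃ a : C ⟶ p.fiber s, a ≫ p.fiberι s = c ∧ a ≫ p.fiberToSpecResidueField s = π ≫ Spec.map ψ :=
    ⟨(isPullback_fiber p s).lift c (π ≫ Spec.map ψ)
      (by rw [hC.w, Category.assoc]), IsPullback.lift_fst _ _ _ _, IsPullback.lift_snd _ _ _ _⟩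
  have h1 : IsPullback a π (p.fiberToSpecResidueField s) (Spec.map ψ) := by
    refine IsPullback.of_right (h₁₂ := p.fiberι s) (h₂₂ := (Spec (CommRingCat.of R)).fromSpecResidueField s)
      (v₁₃ := p) ?_ ha2 (isPullback_fiber p s)
    rw [ha1]
    exact hC
  have h2 : LocallyOfFiniteType (p.fiberToSpecResidueField s) :=
    MorphismProperty.of_isPullback (P := @LocallyOfFiniteType) (isPullback_fiber p s) inferInstance
  exact Etcore.DimBaseChange.topologicalKrullDim_eq (Field.toIsField _) (Field.toIsField κ) _ _ _ _ h1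

end Groth.Agent.Models.K378.FibreDim
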