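import Groth.Agent.S0395
import Groth.Agent.Divis.CartierStalk
import Groth.Agent.Divis.StalkAssoc
import Groth.Agent.Flat2D.FiberStalk

/-!
# Flatness of effective Cartier divisors

`flat_of_fibres`: let `π : P ⟶ T` be flat with integral fibres and `I` an effective Cartier ideal on `P` whose support
contains no fibre; then `V(I)` is flat over `T`.
-/

set_option autoImplicit false
universe u
open CategoryTheory CategoryTheory.Limits AlgebraicGeometry

namespace Groth.Agent.Models.K378.FlatDiv

open Divis.CartierBasic Divis.CartierStalk Divis.StalkAssoc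

variable {P T F : Scheme.{u}}

/-- On an integral scheme an ideal whose stalk at some point is zero has full support. -/
theorem mem_support_of_stalkIdeal_eq_bot [IsIntegral F] (J : F.IdealSheafData) (y : F)
    (h : stalkIdeal J y = ⊥) (x : F) : x ∈ J.support := by
  have h1 : genericPoint F ∈ J.support := by
    rw [mem_support_iff_stalkIdeal_ne_top]
    have h2 : genericPoint F ⤳ y := genericPoint_specializes y
    rw [← stalkIdeal_map_stalkSpecializes J h2, h, Ideal.map_bot]
    exact bot_ne_top
  have h2 : genericPoint F ⤳ x := genericPoint_specializes x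
  exact h2.mem_closed J.support.isClosed h1

variable [IsLocallyNoetherian P] [IsLocallyNoetherian T] (π : P ⟶ T) [Flat π]
    (I : P.IdealSheafData) (hI : BlowUp.IsEffCartierIdeal I) (hint : ∀ t : T, IsIntegral (π.fiber t))
    (hn : ∀ t : T, ∃ x : P, π x = t ∧ x ∉ I.support)

include hI hint hn

theorem flat_pt (t : T) (w : π.fiber t) :
    ((Ideal.Quotient.mk (stalkIdeal I (π.fiberι t w))).comp (π.stalkMap (π.fiberι t w)).hom).Flat := by
  obtain ⟨g, hg, hgs⟩ := exists_stalkIdeal_eq_span hI (π.fiberι t w)
  have hfl : (π.stalkMap (π.fiberι t w)).hom.Flat := Flat.stalkMap _ _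
  have := hint t
  have hdom : IsDomain ((π.fiber t).presheaf.stalk w) := inferInstance
  have hg0 : ((π.fiberι t).stalkMap w).hom g ≠ 0 := by
    intro h0
    have h1 : stalkIdeal (I.comap (π.fiberι t)) w = ⊥ := by
      rw [stalkIdeal_comap, hgs, Ideal.map_span, Set.image_singleton, h0, Ideal.span_singleton_zero]
    obtain ⟨x, hx, hxn⟩ := hn t
    obtain ⟨x', hx'⟩ : x ∈ Set.range (π.fiberι t) := by
      rw [Scheme.Hom.range_fiberι]
      exact hx
    have h2 := mem_support_of_stalkIdeal_eq_bot _ w h1 x'
    rw [Scheme.IdealSheafData.support_comap] at h2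
    apply hxn
    rw [← hx']
    exact h2
  have hker := Flat2D.FiberStalk.ker_stalkMap_fiberι π t w
  rw [hgs]
  algebraize [(π.stalkMap (π.fiberι t w)).hom]
  have hloc : IsLocalHom (algebraMap (T.presheaf.stalk (π (π.fiberι t w))) (P.presheaf.stalk (π.fiberι t w))) :=
    inferInstanceAs (IsLocalHom (π.stalkMap (π.fiberι t w)).hom)
  have hker' : RingHom.ker ((π.fiberι t).stalkMap w).hom = (IsLocalRing.maximalIdeal
      (T.presheaf.stalk (π (π.fiberι t w)))).map
        (algebraMap (T.presheaf.stalk (π (π.fiberι t w))) (P.presheaf.stalk (π.fiberι t w))) := hker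
  have h3 := Groth.Agent.S0395.result (R := T.presheaf.stalk (π (π.fiberι t w)))
    (S := P.presheaf.stalk (π.fiberι t w)) g (by
      rw [mem_nonZeroDivisors_iff_right]
      intro y hy
      obtain ⟨y, rfl⟩ := Ideal.Quotient.mk_surjective y
      rw [← map_mul, Ideal.Quotient.eq_zero_iff_mem, ← hker', RingHom.mem_ker, map_mul] at hy
      rw [Ideal.Quotient.eq_zero_iff_mem, ← hker', RingHom.mem_ker]
      exact (mul_eq_zero.1 hy).resolve_right hg0)
  rw [← RingHom.flat_algebraMap_iff] at h3
  exact h3.1

theorem flat_of_fibres : Flat (I.subschemeι ≫ π) := by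
  rw [Flat.iff_flat_stalkMap]
  intro d
  have h1 : ∀ x : P, ((Ideal.Quotient.mk (stalkIdeal I x)).comp (π.stalkMap x).hom).Flat := by
    intro x
    have h := flat_pt π I hI hint hn (π x) (π.asFiber x)
    rw [Scheme.Hom.fiberι_asFiber] at h
    exact h
  have h2 : ((I.subschemeι ≫ π).stalkMap d).hom = (stalkQuotEquiv I d).toRingHom.comp
      ((Ideal.Quotient.mk (stalkIdeal I (I.subschemeι d))).comp (π.stalkMap (I.subschemeι d)).hom) := by
    ext a
    rw [Scheme.Hom.stalkMap_comp]
    rfl
  rw [h2]
  exact (h1 _).comp (RingHom.Flat.of_bijective (stalkQuotEquiv I d).bijective)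

end Groth.Agent.Models.K378.FlatDiv
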