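import Groth.Agent.Models.K378.DegContra
import Groth.Agent.Models.K378.GeomInt
import Groth.Agent.Models.K378.FibreDim
import Groth.Agent.Models.K378.ExtDiv
import Groth.Agent.Models.K378.FlatDiv
import Groth.Agent.Models.H74.CurveBC
import Groth.Agent.Picfga.GoodTwist
import Groth.Agent.S0220

/-!
# Extending a finite morphism of curves to smooth models: the setting

The equivalence relation on `X_R` is the schematic closure `𝓔` in `X_R ×_R X_R` of the divisor `X ×_Y X` of
`X ×_K X`.
-/

set_option autoImplicit false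
universe u
open CategoryTheory CategoryTheory.Limits AlgebraicGeometry

namespace Groth.Agent.Models.K378.ExtModel

open Groth.Agent.Grpsch.PicGrp CurveDeg Seesaw

/-- The inclusion of the generic point. -/
noncomputable abbrev gen (R : Type u) [CommRing R] : Spec (CommRingCat.of (FractionRing R)) ⟶ Spec (CommRingCat.of R) :=
  Spec.map (CommRingCat.ofHom (algebraMap R (FractionRing R)))

/-- The data of the theorem. -/
structure Data (R : Type u) [CommRing R] [IsDomain R] [IsDiscreteValuationRing R] where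
  X : Scheme.{u}
  Y : Scheme.{u}
  fX : X ⟶ Spec (CommRingCat.of (FractionRing R))
  fY : Y ⟶ Spec (CommRingCat.of (FractionRing R))
  hX : Curve.IsSmoothProperCurve (FractionRing R) X fX
  hX0 : IsIso fX.appTop
  hY : Curve.IsSmoothProperCurve (FractionRing R) Y fY
  hY0 : IsIso fY.appTop
  f : X ⟶ Y
  isFinite : IsFinite f
  hf : f ≫ fY = fX
  hg : 1 ≤ Models.curveGenus (FractionRing R) Y fY
  XR : Scheme.{u}
  p : XR ⟶ Spec (CommRingCat.of R)
  isProper : IsProper p
  isSmooth : Smooth p
  i : X ⟶ XR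
  hi : IsPullback i fX p (gen R)

namespace Data

variable {R : Type u} [CommRing R] [IsDomain R] [IsDiscreteValuationRing R] (D : Data R)

attribute [instance] Data.isFinite Data.isProper Data.isSmooth Data.hX0 Data.hY0

instance : IsProper D.fX := D.hX.1
instance : IsProper D.fY := D.hY.1
instance : Smooth D.fX := D.hX.2.1
instance : Smooth D.fY := D.hY.2.1
instance : IsIntegral D.X := D.hX.2.2.1
instance : IsIntegral D.Y := D.hY.2.2.1
instance : SmoothOfRelativeDimension 1 D.fX := Picfga.GoodTwist.smoothOfRelativeDimension D.hX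
instance : SmoothOfRelativeDimension 1 D.fY := Picfga.GoodTwist.smoothOfRelativeDimension D.hY
instance : GeometricallyIntegral D.fX := Models.H74.CurveBC.geometricallyIntegral D.fX D.hX
instance : GeometricallyIntegral D.fY := Models.H74.CurveBC.geometricallyIntegral D.fY D.hY
instance : IsIntegral D.XR := GeomInt.isIntegral_model D.i D.hi D.hX
instance : GeometricallyIntegral D.p := GeomInt.geometricallyIntegral_of_model D.i D.hi D.hX D.hX0
instance : Flat D.p := inferInstance
instance : IsLocallyNoetherian D.XR := LocallyOfFiniteType.isLocallyNoetherian D.p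
instance : IsLocallyNoetherian D.X := LocallyOfFiniteType.isLocallyNoetherian D.fX
instance : IsLocallyNoetherian D.Y := LocallyOfFiniteType.isLocallyNoetherian D.fY
instance : IsLocallyNoetherian (pullback D.p D.p) :=
  LocallyOfFiniteType.isLocallyNoetherian (pullback.fst D.p D.p)
instance : IsLocallyNoetherian (pullback D.fX D.fX) :=
  LocallyOfFiniteType.isLocallyNoetherian (pullback.fst D.fX D.fX)
instance : IsOpenImmersion (gen R) := Groth.Agent.Models.DVRGeneric.isOpenImmersion_generic R (FractionRing R)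
instance : IsOpenImmersion D.i := Groth.Agent.Models.DVRGeneric.isOpenImmersion_of_isPullback D.hi
instance : Surjective D.f := CurveMor.surjective D.hX.2.2.2 D.hY.2.2.2 D.f

theorem regular_Y (y : D.Y) : IsRegularLocalRing (D.Y.presheaf.stalk y) :=
  Groth.Agent.VarietyA.RegSmoothSch.isRegularLocalRing_stalk_of_mem_smoothLocus (k := FractionRing R) D.fY y
      (by rw [Scheme.Hom.smoothLocus_eq_top]; trivial)

instance : Flat D.f := by
  refine Groth.Agent.S0220.result (FractionRing R) D.X D.Y D.fX D.fY D.hX.2.2.2 D.hY.2.2.2 (fun y => ?_) D.f D.hf ?_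
  · have h1 := D.regular_Y y
    have h2 := Groth.Agent.S2821.result (D.Y.presheaf.stalk y)
    have h3 := h2.1
    have h4 := h2.2
    exact ⟨h3, inferInstance⟩
  · have h1 : Set.range D.f.base = Set.univ := Set.range_eq_univ.2 D.f.surjective
    rw [h1]
    obtain ⟨⟨x, y, -, hne⟩, -⟩ := CurvesB.DimOneTop.topologicalKrullDim_eq_one_iff.1 D.hY.2.2.2
    exact ⟨x, trivial, y, trivial, hne.symm⟩

/-- `f × f`. -/
noncomputable def ff : pullback D.fX D.fX ⟶ pullback D.fY D.fY :=
  pullback.map D.fX D.fX D.fY D.fY D.f D.f (𝟙 _) ((Category.comp_id _).trans D.hf.symm)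
    ((Category.comp_id _).trans D.hf.symm)

@[reassoc]
theorem ff_fst : D.ff ≫ pullback.fst D.fY D.fY = pullback.fst D.fX D.fX ≫ D.f := pullback.lift_fst _ _ _

@[reassoc]
theorem ff_snd : D.ff ≫ pullback.snd D.fY D.fY = pullback.snd D.fX D.fX ≫ D.f := pullback.lift_snd _ _ _

instance : Flat D.ff := MorphismProperty.pullbackMap (P := @Flat) (inferInstanceAs (Flat D.f)) (inferInstanceAs (Flat D.f))
  D.hf.symm D.hf.symm

/-- The ideal of `X ×_Y X`. -/
noncomputable def IW : (pullback D.fX D.fX).IdealSheafData := (pullback.diagonal D.fY).ker.comap D.ff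

theorem isEff_IW : BlowUp.IsEffCartierIdeal D.IW :=
  Groth.Agent.Divis.EffCartier.isEff_comap_flat (isEff_diag D.fY) D.ff

/-- The open immersion of the generic fibre. -/
noncomputable def m : pullback D.fX D.fX ⟶ pullback D.p D.p :=
  pullback.lift (pullback.fst D.fX D.fX ≫ D.i) (pullback.snd D.fX D.fX ≫ D.i) (by
    rw [Category.assoc, Category.assoc, D.hi.w, pullback.condition_assoc])

@[reassoc]
theorem m_fst : D.m ≫ pullback.fst D.p D.p = pullback.fst D.fX D.fX ≫ D.i := pullback.lift_fst _ _ _

@[reassoc]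
theorem m_snd : D.m ≫ pullback.snd D.p D.p = pullback.snd D.fX D.fX ≫ D.i := pullback.lift_snd _ _ _

theorem isPullback_m : IsPullback D.m (pullback.fst D.fX D.fX) (pullback.fst D.p D.p) D.i := by
  refine IsPullback.of_right (h₁₂ := pullback.snd D.p D.p) (h₂₂ := D.p) (v₁₃ := D.p) ?_ D.m_fst
    (IsPullback.of_hasPullback D.p D.p).flip
  rw [D.m_snd, D.hi.w]
  exact (IsPullback.of_hasPullback D.fX D.fX).flip.paste_horiz D.hi

instance : IsOpenImmersion D.m :=
  MorphismProperty.of_isPullback (P := @IsOpenImmersion) D.isPullback_m.flip inferInstance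

instance : IsNoetherian (pullback D.p D.p) := by
  have : CompactSpace ↥(pullback D.p D.p) :=
    QuasiCompact.compactSpace_of_compactSpace (pullback.fst D.p D.p ≫ D.p)
  exact ⟨⟩

instance : QuasiCompact D.m := inferInstance

theorem regular_P (x : ↥(pullback D.p D.p)) : IsRegularLocalRing ((pullback D.p D.p).presheaf.stalk x) :=
  Groth.Agent.Fga.DVRGeom.isRegularLocalRing_stalk (pullback.fst D.p D.p ≫ D.p) x

/-- The ideal of the equivalence relation. -/
noncomputable def E : (pullback D.p D.p).IdealSheafData := D.IW.map D.m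

theorem isEff_E : BlowUp.IsEffCartierIdeal D.E := by
  refine ExtDiv.isEff_map D.m D.IW D.isEff_IW fun x _ => ?_
  have := D.regular_P x
  exact Groth.Agent.S2821.result _

theorem comap_E : D.E.comap D.m = D.IW := ExtDiv.comap_map D.m D.IW

/-- The class of `O(-E)`. -/
noncomputable def ν : Pic (pullback D.p D.p) := Sga7.H591.Dcl.dcl D.E D.isEff_E

theorem pull_ν : pull D.m D.ν = pull D.ff (dcls D.fY) := by
  rw [ν, dcls_eq, Sga7.H591.Dcl.pull_dcl D.m D.E D.isEff_E D.IW D.isEff_IW D.comap_E,
    Sga7.H591.Dcl.pull_dcl D.ff _ (isEff_diag D.fY) D.IW D.isEff_IW rfl]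

theorem hν {Q : Scheme.{u}} (x y : Q ⟶ D.X) (hxy : x ≫ D.fX = y ≫ D.fX) (h1 : (x ≫ D.i) ≫ D.p = (y ≫ D.i) ≫ D.p)
    (h2 : (x ≫ D.f) ≫ D.fY = (y ≫ D.f) ≫ D.fY) :
    cls D.ν (x ≫ D.i) (y ≫ D.i) h1 = pull (pullback.lift (x ≫ D.f) (y ≫ D.f) h2) (dcls D.fY) := by
  have e1 : pullback.lift (x ≫ D.i) (y ≫ D.i) h1 = pullback.lift x y hxy ≫ D.m := by
    apply pullback.hom_ext
    · rw [Category.assoc, D.m_fst, pullback.lift_fst, pullback.lift_fst_assoc]
    · rw [Category.assoc, D.m_snd, pullback.lift_snd, pullback.lift_snd_assoc]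
  have e2 : pullback.lift (x ≫ D.f) (y ≫ D.f) h2 = pullback.lift x y hxy ≫ D.ff := by
    apply pullback.hom_ext
    · rw [Category.assoc, D.ff_fst, pullback.lift_fst, pullback.lift_fst_assoc]
    · rw [Category.assoc, D.ff_snd, pullback.lift_snd, pullback.lift_snd_assoc]
  rw [cls, e1, e2, pull_comp, pull_comp, D.pull_ν]

end Data

end Groth.Agent.Models.K378.ExtModel
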