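import Groth.Agent.Models.K378.ExtCore
import Groth.Agent.CurvesC.Dim1Top
import Mathlib.AlgebraicGeometry.ZariskisMainTheorem

/-!
# The two projections of the equivalence relation are finite and flat
-/

set_option autoImplicit false
universe u
open CategoryTheory CategoryTheory.Limits AlgebraicGeometry TopologicalSpace

namespace Groth.Agent.Models.K378.ExtModel

open Groth.Agent.Grpsch.PicGrp CurveDeg Seesaw DegContra

/-- A closed subscheme of a proper family of irreducible curves which does not contain any fibre is finite. -/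
theorem isFinite_of_fibres {P T : Scheme.{u}} (π : P ⟶ T) [IsProper π] (I : P.IdealSheafData)
    (hint : ∀ t : T, IsIntegral (π.fiber t)) (hdim : ∀ t : T, topologicalKrullDim (π.fiber t) = 1)
    (hn : ∀ t : T, ∃ x : P, π x = t ∧ x ∉ I.support) : IsFinite (I.subschemeι ≫ π) := by
  have h1 : LocallyQuasiFinite (I.subschemeι ≫ π) := by
    refine LocallyQuasiFinite.of_finite_preimage_singleton _ fun t => ?_
    have := hint t
    have hp : IsProper (π.fiberToSpecResidueField t) :=
      MorphismProperty.of_isPullback (P := @IsProper) (FibreDim.isPullback_fiber π t) inferInstance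
    have h2 : IsNoetherian (π.fiber t) := by
      have h3 : IsLocallyNoetherian (π.fiber t) := LocallyOfFiniteType.isLocallyNoetherian (π.fiberToSpecResidueField t)
      have h4 : CompactSpace (π.fiber t) := QuasiCompact.compactSpace_of_compactSpace (π.fiberToSpecResidueField t)
      exact ⟨⟩
    have h3 : ((π.fiberι t) ⁻¹' (I.support : Set P)).Finite := by
      refine Groth.Agent.CurvesC.Dim1Top.finite_of_isClosed (hdim t).le
        (I.support.isClosed.preimage (π.fiberι t).continuous) ?_
      intro h
      obtain ⟨x, hx, hxn⟩ := hn t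
      subst hx
      have h4 : π.asFiber x ∈ (π.fiberι (π x)) ⁻¹' (I.support : Set P) := by
        rw [h]
        trivial
      rw [Set.mem_preimage, Scheme.Hom.fiberι_asFiber] at h4
      exact hxn h4
    have h4 : ((I.subschemeι ≫ π) ⁻¹' {t}) ⊆ I.subschemeι ⁻¹' ((π.fiberι t) '' ((π.fiberι t) ⁻¹' (I.support : Set P))) := by
      intro e he
      have he' : π (I.subschemeι e) = t := he
      subst he'
      refine ⟨π.asFiber (I.subschemeι e), ?_, Scheme.Hom.fiberι_asFiber _ _⟩
      rw [Set.mem_preimage, Scheme.Hom.fiberι_asFiber, ← I.range_subschemeι]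
      exact ⟨e, rfl⟩
    exact ((h3.image _).preimage I.subschemeι.isClosedEmbedding.injective.injOn).subset h4
  exact IsFinite.of_isProper_of_locallyQuasiFinite _

theorem notMem_congr {C P : Scheme.{u}} {g g' : C ⟶ P} (e : g = g') (z : C) (S : Closeds P) (h : g z ∉ S) :
    g' z ∉ S := by
  subst e; exact h

namespace Data

variable {R : Type u} [CommRing R] [IsDomain R] [IsDiscreteValuationRing R] (D : Data R)

theorem isPullback_pt (x : D.XR) :
    IsPullback ((pullback.fst D.p D.p).fiberι x ≫ pullback.snd D.p D.p)
      ((pullback.fst D.p D.p).fiberToSpecResidueField x) D.p (D.XR.fromSpecResidueField x ≫ D.p) :=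
  (FibreDim.isPullback_fiber (pullback.fst D.p D.p) x).paste_horiz (IsPullback.of_hasPullback D.p D.p).flip

theorem isPullback_pt' (x : D.XR) :
    IsPullback ((pullback.snd D.p D.p).fiberι x ≫ pullback.fst D.p D.p)
      ((pullback.snd D.p D.p).fiberToSpecResidueField x) D.p (D.XR.fromSpecResidueField x ≫ D.p) :=
  (FibreDim.isPullback_fiber (pullback.snd D.p D.p) x).paste_horiz (IsPullback.of_hasPullback D.p D.p)

theorem exists_fst (x : D.XR) : ∃ z : ↥(pullback D.p D.p), (pullback.fst D.p D.p) z = x ∧ z ∉ D.E.support := by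
  obtain ⟨z, hz⟩ := D.exists_notMem_fst (D.isPullback_pt x)
  have e : pullback.lift ((pullback.fst D.p D.p).fiberToSpecResidueField x ≫ D.XR.fromSpecResidueField x)
      ((pullback.fst D.p D.p).fiberι x ≫ pullback.snd D.p D.p) (w_fst (D.isPullback_pt x)) =
      (pullback.fst D.p D.p).fiberι x := by
    apply pullback.hom_ext
    · rw [pullback.lift_fst]
      exact (FibreDim.isPullback_fiber (pullback.fst D.p D.p) x).w.symm
    · rw [pullback.lift_snd]
  have hz' : (pullback.fst D.p D.p).fiberι x z ∉ D.E.support := notMem_congr e z _ hz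
  refine ⟨_, ?_, hz'⟩
  have h1 : (pullback.fst D.p D.p).fiberι x z ∈ Set.range ((pullback.fst D.p D.p).fiberι x) := ⟨z, rfl⟩
  rw [Scheme.Hom.range_fiberι] at h1
  exact h1

theorem exists_snd (x : D.XR) : ∃ z : ↥(pullback D.p D.p), (pullback.snd D.p D.p) z = x ∧ z ∉ D.E.support := by
  obtain ⟨z, hz⟩ := D.exists_notMem_snd (D.isPullback_pt' x)
  have e : pullback.lift ((pullback.snd D.p D.p).fiberι x ≫ pullback.fst D.p D.p)
      ((pullback.snd D.p D.p).fiberToSpecResidueField x ≫ D.XR.fromSpecResidueField x)
      (w_fst (D.isPullback_pt' x)).symm = (pullback.snd D.p D.p).fiberι x := by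
    apply pullback.hom_ext
    · rw [pullback.lift_fst]
    · rw [pullback.lift_snd]
      exact (FibreDim.isPullback_fiber (pullback.snd D.p D.p) x).w.symm
  have hz' : (pullback.snd D.p D.p).fiberι x z ∉ D.E.support := notMem_congr e z _ hz
  refine ⟨_, ?_, hz'⟩
  have h1 : (pullback.snd D.p D.p).fiberι x z ∈ Set.range ((pullback.snd D.p D.p).fiberι x) := ⟨z, rfl⟩
  rw [Scheme.Hom.range_fiberι] at h1
  exact h1

/-- The first projection of the equivalence relation. -/
noncomputable def t : D.E.subscheme ⟶ D.XR := D.E.subschemeι ≫ pullback.fst D.p D.p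

/-- The second projection of the equivalence relation. -/
noncomputable def s : D.E.subscheme ⟶ D.XR := D.E.subschemeι ≫ pullback.snd D.p D.p

theorem w : D.t ≫ D.p = D.s ≫ D.p := by
  rw [t, s, Category.assoc, Category.assoc, pullback.condition]

theorem lift_ts : pullback.lift D.t D.s D.w = D.E.subschemeι := by
  apply pullback.hom_ext
  · rw [pullback.lift_fst, t]
  · rw [pullback.lift_snd, s]

instance : IsFinite D.t :=
  isFinite_of_fibres _ D.E (fun x => D.isIntegral_C (D.isPullback_pt x)) (fun x => D.dim_C (D.isPullback_pt x))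
    D.exists_fst

instance : IsFinite D.s :=
  isFinite_of_fibres _ D.E (fun x => D.isIntegral_C (D.isPullback_pt' x)) (fun x => D.dim_C (D.isPullback_pt' x))
    D.exists_snd

instance : Flat D.t :=
  FlatDiv.flat_of_fibres _ D.E D.isEff_E (fun x => D.isIntegral_C (D.isPullback_pt x)) D.exists_fst

instance : Flat D.s :=
  FlatDiv.flat_of_fibres _ D.E D.isEff_E (fun x => D.isIntegral_C (D.isPullback_pt' x)) D.exists_snd

theorem isFinLocFree_s : Mor2.IsFinLocFree D.s := ⟨inferInstance, inferInstance, inferInstance⟩

theorem isClosed_range : IsClosed (Set.range (pullback.lift D.t D.s D.w)) := by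
  rw [lift_ts]
  exact D.E.subschemeι.isClosedEmbedding.isClosed_range

end Data

end Groth.Agent.Models.K378.ExtModel
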