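import Groth.Agent.Models.K378.ExtRel
import Groth.Agent.S2324
import Groth.Agent.Dix.C5ample

/-!
# The quotient
-/

set_option autoImplicit false
universe u
open CategoryTheory CategoryTheory.Limits AlgebraicGeometry TopologicalSpace

namespace Groth.Agent.Models.K378.ExtModel

/-- Two effective epimorphisms with the same kernel pair have the same target. -/
theorem exists_iso_of_kernel {X Y Z : Scheme.{u}} (p : X ⟶ Y) (q : X ⟶ Z) [EffectiveEpi p] [EffectiveEpi q]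
    (h : ∀ {T : Scheme.{u}} (a b : T ⟶ X), a ≫ p = b ≫ p ↔ a ≫ q = b ≫ q) : ∃ e : Y ≅ Z, p ≫ e.hom = q := by
  obtain ⟨g, hg⟩ := Groth.Agent.Sga3C.QuotRel.exists_desc p q fun a b hab => (h a b).1 hab
  obtain ⟨g', hg'⟩ := Groth.Agent.Sga3C.QuotRel.exists_desc q p fun a b hab => (h a b).2 hab
  refine ⟨⟨g, g', ?_, ?_⟩, hg⟩
  · rw [← cancel_epi p, reassoc_of% hg, hg', Category.comp_id]
  · rw [← cancel_epi q, reassoc_of% hg', hg, Category.comp_id]

namespace Data

variable {R : Type u} [CommRing R] [IsDomain R] [IsDiscreteValuationRing R] (D : Data R)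

/-- Every finite set of points is contained in an affine open. -/
theorem exists_affine (Z : Set D.XR) (hZ : Z.Finite) : ∃ V : D.XR.Opens, IsAffineOpen V ∧ Z ⊆ V := by
  have h1 : ArSurf.IsArithSurface R (Over.mk D.p) :=
    Groth.Agent.Models.H54.Bridge.isArithSurface_of_curve (GeomInt.isRegularProperModel D.i D.hi) D.hX
  obtain ⟨h2, A, hA⟩ := Groth.Agent.Dix.C5ample.exists_ample (Over.mk D.p) h1
  have hA' : CohB1.IsAmple (X := D.XR) A := hA
  have h3 : CompactSpace D.XR := QuasiCompact.compactSpace_of_compactSpace D.p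
  have h4 : D.XR.IsSeparated := ⟨by
    rw [← terminal.comp_from D.p]
    infer_instance⟩
  obtain ⟨n, s, h5, -, h6⟩ := Groth.Agent.S2324.result D.XR A hA' Z hZ ⊤ (Set.subset_univ _)
  exact ⟨_, h6, h5⟩

theorem exists_orbit (x : D.XR) : ∃ V : D.XR.Opens, IsAffineOpen V ∧ ∀ e : D.E.subscheme, D.s e = x → D.t e ∈ V := by
  obtain ⟨V, hV, hZ⟩ := D.exists_affine (D.t '' (D.s ⁻¹' {x}))
    ((IsFinite.finite_preimage_singleton D.s x).image _)
  exact ⟨V, hV, fun e he => hZ ⟨e, he, rfl⟩⟩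

theorem exists_model : ∃ (YR : Scheme.{u}) (q : YR ⟶ Spec (CommRingCat.of R)) (j : D.Y ⟶ YR) (φ : D.XR ⟶ YR),
      IsProper q ∧ Smooth q ∧ IsPullback j D.fY q (gen R) ∧ IsFinite φ ∧ φ ≫ q = D.p ∧ D.i ≫ φ = D.f ≫ j := by
  obtain ⟨YR, q, φ, hφq, hq1, hq2, hφs, ⟨hφ1, hφ2, hφ3⟩, hpb⟩ :=
    QuotRel.exists_quotient D.p D.t D.s D.isERel D.w D.isFinLocFree_s D.isClosed_range D.exists_orbit
  obtain ⟨YK, g1, g2, hK⟩ : ∃ (YK : Scheme.{u}) (g1 : YK ⟶ YR) (g2 : YK ⟶ _), IsPullback g1 g2 q (gen R) :=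
    ⟨_, _, _, IsPullback.of_hasPullback q (gen R)⟩
  obtain ⟨φK, h1, h2⟩ : ∃ φK : D.X ⟶ YK, φK ≫ g1 = D.i ≫ φ ∧ φK ≫ g2 = D.fX :=
    ⟨hK.lift (D.i ≫ φ) D.fX (by rw [Category.assoc, hφq, D.hi.w]), IsPullback.lift_fst _ _ _ _,
      IsPullback.lift_snd _ _ _ _⟩
  have hbc : IsPullback D.i φK φ g1 := by
    refine IsPullback.of_bot (v₂₁ := g2) (v₂₂ := q) (h₃₁ := gen R) ?_ h1.symm hK
    rw [h2, hφq]
    exact D.hi
  have i1 : Flat φK := MorphismProperty.of_isPullback (P := @Flat) hbc inferInstance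
  have i2 : Surjective φK := MorphismProperty.of_isPullback (P := @Surjective) hbc inferInstance
  have i3 : LocallyOfFinitePresentation φK :=
    MorphismProperty.of_isPullback (P := @LocallyOfFinitePresentation) hbc inferInstance
  have i4 : IsFinite φK := MorphismProperty.of_isPullback (P := @IsFinite) hbc inferInstance
  have key : ∀ {T : Scheme.{u}} (a b : T ⟶ D.X), a ≫ D.f = b ≫ D.f ↔ a ≫ φK = b ≫ φK := by
    intro T a b
    have e1 : a ≫ φK = b ≫ φK ↔ a ≫ D.fX = b ≫ D.fX ∧ (a ≫ D.i) ≫ φ = (b ≫ D.i) ≫ φ := by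
      constructor
      · intro h
        refine ⟨?_, ?_⟩
        · rw [← h2, reassoc_of% h]
        · rw [Category.assoc, Category.assoc, ← h1, reassoc_of% h]
      · rintro ⟨h3, h4⟩
        apply hK.hom_ext
        · rw [Category.assoc, Category.assoc, h1, ← Category.assoc, h4, Category.assoc]
        · rw [Category.assoc, Category.assoc, h2, h3]
    rw [e1]
    constructor
    · intro h
      have h3 : a ≫ D.fX = b ≫ D.fX := by rw [← D.hf, reassoc_of% h]
      obtain ⟨c, hc1, hc2⟩ := (D.rel_iff a b h3).2 h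
      exact ⟨h3, by rw [← hc1, ← hc2, Category.assoc, Category.assoc, hpb.w]⟩
    · rintro ⟨h3, h4⟩
      exact (D.rel_iff a b h3).1 ⟨hpb.lift _ _ h4, hpb.lift_fst _ _ _, hpb.lift_snd _ _ _⟩
  obtain ⟨e, he⟩ := exists_iso_of_kernel D.f φK key
  have he2 : e.hom ≫ g2 = D.fY := by
    rw [← cancel_epi D.f, reassoc_of% he, h2, D.hf]
  refine ⟨YR, q, e.hom ≫ g1, φ, hq1, hq2, ?_, hφ1, hφq, ?_⟩
  · exact IsPullback.of_iso hK e.symm (Iso.refl _) (Iso.refl _) (Iso.refl _) (by simp) (by simp [← he2]) (by simp)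
      (by simp)
  · rw [reassoc_of% he, h1]

end Data

end Groth.Agent.Models.K378.ExtModel
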