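import Groth.Agent.S4085
import Groth.Agent.S4086
import Groth.Agent.S0115
import Groth.Agent.GrpQ.H777.ERelGrpd

/-!
# Quotients of smooth proper schemes by finite locally free equivalence relations
-/

set_option autoImplicit false
universe u
open CategoryTheory CategoryTheory.Limits AlgebraicGeometry

namespace Groth.Agent.Models.K378.QuotRel

open Groth.Agent.Sga3C.QuotRel

variable {S U E Y : Scheme.{u}}

/-- The quotient by a closed equivalence relation with universally closed surjective projection is separated. -/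
theorem isSeparated_of {pU : U ⟶ S} {t s : E ⟶ U} {q : U ⟶ Y} {y : Y ⟶ S} (hy : q ≫ y = pU)
    (hw : t ≫ pU = s ≫ pU) (hq : UniversallyClosed q) (hqs : Surjective q) (hpb : IsPullback t s q q)
    (hcl : IsClosed (Set.range (pullback.lift t s hw))) : IsSeparated y := by
  let Q : pullback pU pU ⟶ pullback y y := pullback.map pU pU y y q q (𝟙 S)
      ((Category.comp_id _).trans hy.symm) ((Category.comp_id _).trans hy.symm)
  have hQ : UniversallyClosed Q :=
    MorphismProperty.pullbackMap (P := @UniversallyClosed) hq hq hy.symm hy.symm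
  have e1 : pullback.lift t s hw ≫ Q = (t ≫ q) ≫ pullback.diagonal y := by
    apply pullback.hom_ext
    · have e : Q ≫ pullback.fst y y = pullback.fst pU pU ≫ q := pullback.lift_fst _ _ _
      rw [Category.assoc, e, pullback.lift_fst_assoc, Category.assoc, pullback.diagonal_fst, Category.comp_id]
    · have e : Q ≫ pullback.snd y y = pullback.snd pU pU ≫ q := pullback.lift_snd _ _ _
      rw [Category.assoc, e, pullback.lift_snd_assoc, Category.assoc, pullback.diagonal_snd, Category.comp_id,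
        hpb.w]
  have hr : Set.range (pullback.diagonal y) = Q '' Set.range (pullback.lift t s hw) := by
    apply Set.Subset.antisymm
    · rintro _ ⟨y0, rfl⟩
      obtain ⟨x, rfl⟩ := hqs.1 y0
      let r : U ⟶ E := hpb.lift (𝟙 U) (𝟙 U) rfl
      have hr : r ≫ t = 𝟙 U := hpb.lift_fst _ _ _
      refine ⟨_, ⟨r x, rfl⟩, ?_⟩
      rw [← Scheme.Hom.comp_apply, e1, ← Scheme.Hom.comp_apply, ← Scheme.Hom.comp_apply]
      rw [← Category.assoc, ← Category.assoc, hr, Category.id_comp]
    · rintro _ ⟨_, ⟨e, rfl⟩, rfl⟩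
      refine ⟨(t ≫ q) e, ?_⟩
      rw [← Scheme.Hom.comp_apply, ← Scheme.Hom.comp_apply, e1]
  have hc : IsClosed (Set.range (pullback.diagonal y)) := by
    rw [hr]
    exact Q.isClosedMap _ hcl
  exact ⟨IsClosedImmersion.of_isPreimmersion _ hc⟩

/-- Properness and smoothness of a quotient. -/
theorem isProper_smooth_of {pU : U ⟶ S} [IsProper pU] [Smooth pU] {t s : E ⟶ U} {q : U ⟶ Y} {y : Y ⟶ S}
    (hy : q ≫ y = pU)
    (hw : t ≫ pU = s ≫ pU) (hq : Mor2.IsFinLocFree q) (hqs : Surjective q) (hpb : IsPullback t s q q)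
    (hcl : IsClosed (Set.range (pullback.lift t s hw))) : IsProper y ∧ Smooth y := by
  obtain ⟨h1, h2, h3⟩ := hq
  have hs : Smooth (q ≫ y) := by rw [hy]; infer_instance
  have hp : IsProper (q ≫ y) := by rw [hy]; infer_instance
  have hsm : Smooth y := Groth.Agent.S0115.result q y
  have huc : UniversallyClosed y := UniversallyClosed.of_comp_surjective q y
  have hsep : IsSeparated y := isSeparated_of hy hw inferInstance hqs hpb hcl
  exact ⟨{ }, hsm⟩

/-- The quotient of a proper smooth scheme by a finite locally free closed equivalence relation whose orbits are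
contained in affine opens: it is a proper smooth scheme. -/
theorem exists_quotient (pU : U ⟶ S) [IsProper pU] [Smooth pU] (t s : E ⟶ U) (hE : IsERel t s)
    (hw : t ≫ pU = s ≫ pU) (hs : Mor2.IsFinLocFree s)
    (hcl : IsClosed (Set.range (pullback.lift t s hw)))
    (hb : ∀ x : U, ∃ V : U.Opens, IsAffineOpen V ∧ ∀ e : E, s e = x → t e ∈ V) :
    ∃ (Y : Scheme.{u}) (q : Y ⟶ S) (p : U ⟶ Y), p ≫ q = pU ∧ IsProper q ∧ Smooth q ∧ Surjective p ∧
      Mor2.IsFinLocFree p ∧ IsPullback t s p p := by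
  let G := Groth.Agent.GrpQ.H777.ERelGrpd.ofERel pU hE hw
  have hj : Mono G.j := Groth.Agent.GrpQ.H777.ERelGrpd.mono_j pU hE hw
  have hb' : ∀ x : G.U, ∃ V : G.U.Opens, IsAffineOpen V ∧ G.t.base '' (G.s.base ⁻¹' {x}) ⊆ (V : Set G.U) := by
    intro x
    obtain ⟨V, hV, hVx⟩ := hb x
    refine ⟨V, hV, ?_⟩
    rintro _ ⟨r, hr, rfl⟩
    exact hVx r hr
  obtain ⟨Y, q, w, ⟨hc⟩, -, hsurj, -, -, -, haff⟩ := Groth.Agent.S4085.result S G hs hb'
  obtain ⟨hpb, hfin⟩ := Groth.Agent.S4086.result S G hs hb' Y q w hc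
  let y : Y ⟶ S := Cofork.IsColimit.desc hc pU hw
  have hy : q ≫ y = pU := Cofork.IsColimit.π_desc' hc _ _
  obtain ⟨h1, h2⟩ := isProper_smooth_of (pU := pU) (t := t) (s := s) hy hw hfin hsurj hpb hcl
  exact ⟨Y, y, q, hy, h1, h2, hsurj, hfin, hpb⟩

end Groth.Agent.Models.K378.QuotRel
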