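import Groth.Agent.Models.K378.ExtFin
import Groth.Agent.Models.K378.QuotRel
import Groth.Agent.S13044

/-!
# The equivalence relation
-/

set_option autoImplicit false
universe u
open CategoryTheory CategoryTheory.Limits AlgebraicGeometry TopologicalSpace

namespace Groth.Agent.Models.K378.ExtModel

open Groth.Agent.Sga3C.QuotRel

theorem fac_iff {T P : Scheme.{u}} (I : P.IdealSheafData) (g : T ⟶ P) :
    (∃ v : T ⟶ I.subscheme, v ≫ I.subschemeι = g) ↔ I.comap g = ⊥ := by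
  rw [← le_bot_iff, ← Scheme.IdealSheafData.le_map_iff_comap_le, Scheme.IdealSheafData.map_bot]
  constructor
  · rintro ⟨v, rfl⟩
    conv_lhs => rw [← I.ker_subschemeι]
    exact Scheme.Hom.le_ker_comp _ _
  · intro h
    exact ⟨IsClosedImmersion.lift I.subschemeι g (by rwa [Scheme.IdealSheafData.ker_subschemeι]),
      IsClosedImmersion.lift_fac _ _ _⟩

theorem diag_iff {T Y S : Scheme.{u}} (q : Y ⟶ S) [IsSeparated q] (g : T ⟶ pullback q q) :
    (pullback.diagonal q).ker.comap g = ⊥ ↔ g ≫ pullback.fst q q = g ≫ pullback.snd q q := by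
  rw [← le_bot_iff, ← Scheme.IdealSheafData.le_map_iff_comap_le, Scheme.IdealSheafData.map_bot]
  constructor
  · intro h
    have h1 := IsClosedImmersion.lift_fac (pullback.diagonal q) g h
    rw [← h1, Category.assoc, Category.assoc, pullback.diagonal_fst, pullback.diagonal_snd]
  · intro h
    have h1 : (g ≫ pullback.fst q q) ≫ pullback.diagonal q = g := by
      apply pullback.hom_ext
      · rw [Category.assoc, pullback.diagonal_fst, Category.comp_id]
      · rw [Category.assoc, pullback.diagonal_snd, Category.comp_id, h]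
    rw [← h1]
    exact Scheme.Hom.le_ker_comp _ _

namespace Data

variable {R : Type u} [CommRing R] [IsDomain R] [IsDiscreteValuationRing R] (D : Data R)

theorem rel_iff {T : Scheme.{u}} (a b : T ⟶ D.X) (hab : a ≫ D.fX = b ≫ D.fX) :
    (∃ c : T ⟶ D.E.subscheme, c ≫ D.t = a ≫ D.i ∧ c ≫ D.s = b ≫ D.i) ↔ a ≫ D.f = b ≫ D.f := by
  have h1 : (∃ c : T ⟶ D.E.subscheme, c ≫ D.t = a ≫ D.i ∧ c ≫ D.s = b ≫ D.i) ↔
      ∃ c : T ⟶ D.E.subscheme, c ≫ D.E.subschemeι = pullback.lift a b hab ≫ D.m := by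
    constructor
    · rintro ⟨c, h1, h2⟩
      refine ⟨c, ?_⟩
      apply pullback.hom_ext
      · rw [Category.assoc, Category.assoc, D.m_fst, pullback.lift_fst_assoc, ← h1, t]
      · rw [Category.assoc, Category.assoc, D.m_snd, pullback.lift_snd_assoc, ← h2, s]
    · rintro ⟨c, h⟩
      refine ⟨c, ?_, ?_⟩
      · rw [t, ← Category.assoc, h, Category.assoc, D.m_fst, pullback.lift_fst_assoc]
      · rw [s, ← Category.assoc, h, Category.assoc, D.m_snd, pullback.lift_snd_assoc]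
  rw [h1, fac_iff, Scheme.IdealSheafData.comap_comp, D.comap_E, IW, ← Scheme.IdealSheafData.comap_comp, diag_iff,
    Category.assoc, Category.assoc, D.ff_fst, D.ff_snd, pullback.lift_fst_assoc, pullback.lift_snd_assoc]

theorem exists_lift {T : Scheme.{u}} {r : T ⟶ Spec (CommRingCat.of R)} {k : T ⟶ Spec (CommRingCat.of (FractionRing R))}
    (hr : r = k ≫ gen R) (a : T ⟶ D.XR) (ha : a ≫ D.p = r) : ∃ a' : T ⟶ D.X, a' ≫ D.i = a ∧ a' ≫ D.fX = k :=
  ⟨D.hi.lift a k (ha.trans hr), IsPullback.lift_fst _ _ _ _, IsPullback.lift_snd _ _ _ _⟩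

theorem equivalence (T : Scheme.{u}) (r : T ⟶ Spec (CommRingCat.of R)) :
    _root_.Equivalence fun a b : {a : T ⟶ D.XR // a ≫ D.p = r} =>
        ∃ c : T ⟶ D.E.subscheme, c ≫ D.t = a.1 ∧ c ≫ D.s = b.1 := by
  have : IsClosedImmersion (pullback.lift D.t D.s D.w) := by
    rw [D.lift_ts]
    infer_instance
  refine Groth.Agent.S13044.result R (FractionRing R) D.XR D.E.subscheme D.p D.t D.s D.w this ?_ T r
  rintro T r ⟨k, hk⟩
  choose l hl1 hl2 using fun a : {a : T ⟶ D.XR // a ≫ D.p = r} => D.exists_lift hk a.1 a.2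
  have key : ∀ a b : {a : T ⟶ D.XR // a ≫ D.p = r},
      (∃ c : T ⟶ D.E.subscheme, c ≫ D.t = a.1 ∧ c ≫ D.s = b.1) ↔ l a ≫ D.f = l b ≫ D.f := by
    intro a b
    rw [← D.rel_iff (l a) (l b) (by rw [hl2, hl2]), hl1, hl1]
  refine ⟨fun a => (key a a).2 rfl, fun {a b} h => (key b a).2 ((key a b).1 h).symm, fun {a b c} h h' =>
    (key a c).2 (((key a b).1 h).trans ((key b c).1 h'))⟩

theorem isERel : IsERel D.t D.s where
  mono x y h1 h2 := by
    rw [← cancel_mono D.E.subschemeι]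
    apply pullback.hom_ext
    · rw [Category.assoc, Category.assoc]
      exact h1
    · rw [Category.assoc, Category.assoc]
      exact h2
  refl {T} a := by
    obtain ⟨c, h1, h2⟩ := (D.equivalence T (a ≫ D.p)).refl ⟨a, rfl⟩
    exact ⟨c, h1, h2⟩
  symm {T a b} := by
    rintro ⟨c, h1, h2⟩
    have hab : b ≫ D.p = a ≫ D.p := by rw [← h1, ← h2, Category.assoc, Category.assoc, D.w]
    obtain ⟨c', h1', h2'⟩ := (D.equivalence T (a ≫ D.p)).symm
      (show ∃ c : T ⟶ D.E.subscheme, c ≫ D.t = (⟨a, rfl⟩ : {x : T ⟶ D.XR // x ≫ D.p = a ≫ D.p}).1 ∧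
        c ≫ D.s = (⟨b, hab⟩ : {x : T ⟶ D.XR // x ≫ D.p = a ≫ D.p}).1 from ⟨c, h1, h2⟩)
    exact ⟨c', h1', h2'⟩
  trans {T a b d} := by
    rintro ⟨c, h1, h2⟩ ⟨c', h1', h2'⟩
    have hab : b ≫ D.p = a ≫ D.p := by rw [← h1, ← h2, Category.assoc, Category.assoc, D.w]
    have hdb : d ≫ D.p = a ≫ D.p := by rw [← hab, ← h1', ← h2', Category.assoc, Category.assoc, D.w]
    obtain ⟨c'', h1'', h2''⟩ := (D.equivalence T (a ≫ D.p)).trans
      (show ∃ c : T ⟶ D.E.subscheme, c ≫ D.t = (⟨a, rfl⟩ : {x : T ⟶ D.XR // x ≫ D.p = a ≫ D.p}).1 ∧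
        c ≫ D.s = (⟨b, hab⟩ : {x : T ⟶ D.XR // x ≫ D.p = a ≫ D.p}).1 from ⟨c, h1, h2⟩)
      (show ∃ c : T ⟶ D.E.subscheme, c ≫ D.t = (⟨b, hab⟩ : {x : T ⟶ D.XR // x ≫ D.p = a ≫ D.p}).1 ∧
        c ≫ D.s = (⟨d, hdb⟩ : {x : T ⟶ D.XR // x ≫ D.p = a ≫ D.p}).1 from ⟨c', h1', h2'⟩)
    exact ⟨c'', h1'', h2''⟩

end Data

end Groth.Agent.Models.K378.ExtModel
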