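import Groth.Agent.Models.K378.Types

set_option autoImplicit false

open Finset

namespace K378.Dynkin

/-- Fork at one end of a chain, double edge at the other end. -/
theorem fork5_fin (c : Fin 6 → Fin 6 → ℝ) (h : Sys c) (h02 : c 0 2 ≠ 0) (h12 : c 1 2 ≠ 0) (h23 : c 2 3 ≠ 0) (h34 : c 3 4 ≠ 0) (h45 : c 4 5 = √2) : False := by
  have p2 := sqrt_two_pos
  have s2 := sqrt_two_sq
  have hx0 : ∀ i, 0 ≤ (![1, 1, 2, 2, 2, √2] : Fin 6 → ℝ) i := by
    intro i; fin_cases i <;> simp
  have e02 := h.one_le 0 2 (by decide) h02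
  have e20 := e02
  rw [h.symm 0 2] at e20
  have e12 := h.one_le 1 2 (by decide) h12
  have e21 := e12
  rw [h.symm 1 2] at e21
  have e23 := h.one_le 2 3 (by decide) h23
  have e32 := e23
  rw [h.symm 2 3] at e32
  have e34 := h.one_le 3 4 (by decide) h34
  have e43 := e34
  rw [h.symm 3 4] at e43
  have e45 := h45
  have e54 := e45
  rw [h.symm 4 5] at e54
  refine h.no_null ![1, 1, 2, 2, 2, √2] hx0 (fun h0 => by
    have := congrFun h0 0; simp at this) fun i _ => ?_
  fin_cases i
  · refine le_trans ?_ (h.row_ge2 _ hx0 0 2 (by decide))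
    simp
    linarith
  · refine le_trans ?_ (h.row_ge2 _ hx0 1 2 (by decide))
    simp
    linarith
  · refine le_trans ?_ (h.row_ge4 _ hx0 2 0 1 3 (by decide) (by decide) (by decide) (by decide) (by decide) (by decide))
    simp
    linarith
  · refine le_trans ?_ (h.row_ge3 _ hx0 3 2 4 (by decide) (by decide) (by decide))
    simp
    linarith
  · refine le_trans ?_ (h.row_ge3 _ hx0 4 3 5 (by decide) (by decide) (by decide))
    rw [e45]
    simp
    nlinarith
  · refine le_trans ?_ (h.row_ge2 _ hx0 5 4 (by decide))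
    rw [e54]
    simp
    nlinarith

/-- Fork at one end of a chain, double edge at the other end. -/
theorem fork6_fin (c : Fin 7 → Fin 7 → ℝ) (h : Sys c) (h02 : c 0 2 ≠ 0) (h12 : c 1 2 ≠ 0) (h23 : c 2 3 ≠ 0) (h34 : c 3 4 ≠ 0) (h45 : c 4 5 ≠ 0) (h56 : c 5 6 = √2) : False := by
  have p2 := sqrt_two_pos
  have s2 := sqrt_two_sq
  have hx0 : ∀ i, 0 ≤ (![1, 1, 2, 2, 2, 2, √2] : Fin 7 → ℝ) i := by
    intro i; fin_cases i <;> simp
  have e02 := h.one_le 0 2 (by decide) h02
  have e20 := e02
  rw [h.symm 0 2] at e20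
  have e12 := h.one_le 1 2 (by decide) h12
  have e21 := e12
  rw [h.symm 1 2] at e21
  have e23 := h.one_le 2 3 (by decide) h23
  have e32 := e23
  rw [h.symm 2 3] at e32
  have e34 := h.one_le 3 4 (by decide) h34
  have e43 := e34
  rw [h.symm 3 4] at e43
  have e45 := h.one_le 4 5 (by decide) h45
  have e54 := e45
  rw [h.symm 4 5] at e54
  have e56 := h56
  have e65 := e56
  rw [h.symm 5 6] at e65
  refine h.no_null ![1, 1, 2, 2, 2, 2, √2] hx0 (fun h0 => by
    have := congrFun h0 0; simp at this) fun i _ => ?_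
  fin_cases i
  · refine le_trans ?_ (h.row_ge2 _ hx0 0 2 (by decide))
    simp
    linarith
  · refine le_trans ?_ (h.row_ge2 _ hx0 1 2 (by decide))
    simp
    linarith
  · refine le_trans ?_ (h.row_ge4 _ hx0 2 0 1 3 (by decide) (by decide) (by decide) (by decide) (by decide) (by decide))
    simp
    linarith
  · refine le_trans ?_ (h.row_ge3 _ hx0 3 2 4 (by decide) (by decide) (by decide))
    simp
    linarith
  · refine le_trans ?_ (h.row_ge3 _ hx0 4 3 5 (by decide) (by decide) (by decide))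
    simp
    linarith
  · refine le_trans ?_ (h.row_ge3 _ hx0 5 4 6 (by decide) (by decide) (by decide))
    rw [e56]
    simp
    nlinarith
  · refine le_trans ?_ (h.row_ge2 _ hx0 6 5 (by decide))
    rw [e65]
    simp
    nlinarith

end K378.Dynkin
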