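import Groth.Agent.Models.K378.GoodStep
import Groth.Agent.S3347
import Groth.Agent.S3321
import Groth.Agent.S3322
import Groth.Agent.S2174
import Groth.Agent.Models.H60.SmoothFib
import Groth.Agent.Models.H50.ExcNum
import Groth.Agent.Models.H54.Bridge
import Groth.Prelude.Def_ModelsSS

/-!
# A regular model with a component of genus at least `g` comes from good reduction
-/

set_option autoImplicit false
universe u
open CategoryTheory CategoryTheory.Limits AlgebraicGeometry Opposite TopologicalSpace IsLocalRing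

namespace Groth.Agent.Models.K378.GoodMain

open Groth.Agent.Dix Groth.Agent.Dix.PointIdeal Groth.Agent.Dix.FibreMin Groth.Agent.Models.H52.ContrStep
open GoodStep

/-- The numerical part. -/
theorem numeric {n : ℕ} (T : _root_.Models.NumericalType n) (hmin : T.IsMinimal) (g : ℤ) (hg : 2 ≤ g)
    (hgen : 2 * g = 2 + ∑ i, T.m i * (2 * (T.w i * T.g i - T.w i) - T.a i i)) (i₀ : Fin n)
    (h : g - 1 ≤ T.w i₀ * T.g i₀ - T.w i₀) : n = 1 ∧ T.m i₀ = 1 ∧ T.w i₀ * T.g i₀ - T.w i₀ = g - 1 := by
  have hm := T.m_pos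
  by_cases hn : 1 < n
  · exfalso
    have hneg : ∀ i, T.a i i < 0 := Groth.Agent.S2174.result T hn
    have hterm : ∀ i, 0 ≤ T.m i * (2 * (T.w i * T.g i - T.w i) - T.a i i) := by
      intro i
      refine mul_nonneg (hm i).le ?_
      have h1 := hneg i
      have hw := T.w_pos i
      rcases (T.g_nonneg i).lt_or_eq with h2 | h2
      · have h3 : T.w i * 1 ≤ T.w i * T.g i := mul_le_mul_of_nonneg_left h2 hw.le
        linarith
      · have h3 : T.g i = 0 := h2.symm
        have h4 := hmin i
        obtain ⟨c, hc⟩ := T.w_dvd i i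
        have h5 : c < 0 := by
          by_contra hcon
          push Not at hcon
          have := mul_nonneg hw.le hcon
          omega
        have h6 : c ≠ -1 := by
          rintro rfl
          apply h4
          refine ⟨h3, ?_⟩
          rw [hc]; ring
        have h7 : c ≤ -2 := by omega
        have h8 : T.w i * c ≤ T.w i * (-2) := mul_le_mul_of_nonneg_left h7 hw.le
        rw [h3, hc]
        linarith
    have hle : T.m i₀ * (2 * (T.w i₀ * T.g i₀ - T.w i₀) - T.a i₀ i₀) ≤
        ∑ i, T.m i * (2 * (T.w i * T.g i - T.w i) - T.a i i) :=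
      Finset.single_le_sum (fun i _ => hterm i) (Finset.mem_univ i₀)
    have h1 := hneg i₀
    have h2 : 1 * (2 * (T.w i₀ * T.g i₀ - T.w i₀) - T.a i₀ i₀) ≤
        T.m i₀ * (2 * (T.w i₀ * T.g i₀ - T.w i₀) - T.a i₀ i₀) :=
      mul_le_mul_of_nonneg_right (hm i₀) (by linarith)
    linarith
  · have hpos := T.pos
    have hn1 : n = 1 := by omega
    subst hn1
    have hi : i₀ = 0 := Subsingleton.elim _ _
    subst hi
    have ha : T.a 0 0 = 0 := by
      have h1 := congrFun T.mulVec_m 0
      rw [Matrix.mulVec, dotProduct, Fin.sum_univ_one] at h1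
      rcases mul_eq_zero.mp h1 with h2 | h2
      · exact h2
      · exact absurd h2 (hm 0).ne'
    rw [Fin.sum_univ_one, ha, sub_zero] at hgen
    set d := T.w 0 * T.g 0 - T.w 0 with hd
    have hm0 := hm 0
    have h1 : T.m 0 * (2 * d) = 2 * (g - 1) := by linarith
    have h2 : T.m 0 = 1 := by
      by_contra hcon
      have h3 : 2 ≤ T.m 0 := by omega
      have h4 : 2 * (2 * d) ≤ T.m 0 * (2 * d) := mul_le_mul_of_nonneg_right h3 (by linarith)
      linarith
    refine ⟨rfl, h2, ?_⟩
    rw [h2, one_mul] at h1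
    linarith

variable {R : Type u} [CommRing R] [IsDomain R] [IsDiscreteValuationRing R]

theorem isProper_curve {X : Over (Spec (CommRingCat.of R))} [IsProper X.hom] (Γ : ArSurf.VertComp R X) :
    IsProper (Γ.curve.left ↘ Spec (CommRingCat.of (ResidueField R))) :=
  H50.PointInter.isProper_curve_hom Γ

theorem euler_curve {X : Over (Spec (CommRingCat.of R))} [IsProper X.hom] (Γ : ArSurf.VertComp R X) :
    Curv2.euler (ResidueField R) Γ.curve.left (Coh.structureModule Γ.curve.left) =
      (_root_.Models.wdeg R X Γ : ℤ) - (_root_.Models.h1 R X Γ : ℤ) := by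
  have := isProper_curve Γ
  exact CurvesC.EulerHV.euler_eq (ResidueField R) Γ.curve.left Γ.dim_eq.le (Coh.structureModule Γ.curve.left)

section

variable (Γ' : Scheme.{u}) [Γ'.Over (Spec (CommRingCat.of (ResidueField R)))]

theorem euler_le_of_dom {X : Over (Spec (CommRingCat.of R))} [IsProper X.hom] (Γ : ArSurf.VertComp R X)
    (ν : Γ' ⟶ Γ.curve.left) (hν : Dom Γ' Γ ν) :
    Curv2.euler (ResidueField R) Γ.curve.left (Coh.structureModule Γ.curve.left) ≤
      Curv2.euler (ResidueField R) Γ' (Coh.structureModule Γ') := by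
  have := isProper_curve Γ
  have := hν.fin
  obtain ⟨U, hU, hi⟩ := hν.bir
  exact EulerBir.euler_le (ResidueField R) Γ.dim_eq.le ν hν.hover U (U.2.dense hU)

theorem isIso_of_dom {X : Over (Spec (CommRingCat.of R))} [IsProper X.hom] (Γ : ArSurf.VertComp R X)
    (ν : Γ' ⟶ Γ.curve.left) (hν : Dom Γ' Γ ν)
    (h : Curv2.euler (ResidueField R) Γ' (Coh.structureModule Γ') ≤
      Curv2.euler (ResidueField R) Γ.curve.left (Coh.structureModule Γ.curve.left)) : IsIso ν := by
  have := isProper_curve Γ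
  have := hν.fin
  obtain ⟨U, hU, hi⟩ := hν.bir
  exact EulerBir.isIso_of_euler_le (ResidueField R) Γ.dim_eq.le ν hν.hover U (U.2.dense hU) h

/-- Vertical prime divisors with the same support have the same Euler characteristic. -/
theorem euler_le_of_range {X : Over (Spec (CommRingCat.of R))} [IsProper X.hom] (Γ E : ArSurf.VertComp R X)
    (h : Set.range Γ.ι = Set.range E.ι) :
    Curv2.euler (ResidueField R) E.curve.left (Coh.structureModule E.curve.left) ≤
      Curv2.euler (ResidueField R) Γ.curve.left (Coh.structureModule Γ.curve.left) := by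
  obtain ⟨e, he⟩ := Ega1.ReducedSub.exists_iso_of_range_eq Γ.ι E.ι h
  have hcli : IsClosedImmersion (Spec.map (CommRingCat.ofHom (IsLocalRing.residue R))) :=
    IsClosedImmersion.spec_of_surjective _ IsLocalRing.residue_surjective
  refine euler_le_of_dom Γ.curve.left E e.hom ⟨inferInstance, ?_, ⊤, ⟨genericPoint E.curve.left, trivial⟩, inferInstance⟩
  change e.hom ≫ E.curve.hom = Γ.curve.hom
  rw [← cancel_mono (Spec.map (CommRingCat.ofHom (IsLocalRing.residue R))), ← Γ.w, Category.assoc, ← E.w,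
    ← Category.assoc, he]

variable {C : Scheme.{u}} {f : C ⟶ Spec (CommRingCat.of (FractionRing R))}

open Groth.Agent.Models.H36.FibreFact Groth.Agent.Divis.CartierBasic

/-- A component list containing a given vertical prime divisor. -/
theorem exists_list {X : Scheme.{u}} {p : X ⟶ Spec (CommRingCat.of R)}
    (hC : Curve.IsSmoothProperCurve (FractionRing R) C f)
    (hX : _root_.Models.IsRegularProperModel R X p C f) (hA : ArSurf.IsArithSurface R (Over.mk p))
    (Γ : ArSurf.VertComp R (Over.mk p)) :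
    ∃ (n : ℕ) (Γs : Fin n → ArSurf.VertComp R (Over.mk p)) (L : Fin n → X.Modules) (i : Fin n),
      _root_.Models.IsComponentList R (Over.mk p) Γs ∧
      (∀ i, ClSub.IsInverseOf (L i) (ClSub.idealMod (Γs i).ι.ker)) ∧ Γs i = Γ := by
  obtain ⟨n, Γs, L, hΓs, hL⟩ := H55.MinFib.exists_componentList hC hX
    (fun x hx => H55.ClosedPt.ringKrullDim_stalk hC hX x hx)
  have h1 : Set.range Γ.ι ∈ _root_.Models.fibreComponents R (Over.mk p) := by
    rw [H55.CompGeom.mem_fibreComponents_iff]
    have := genPt_mem_minSet hA Γ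
    exact ⟨_, this.1, this.2, range_eq_closure Γ⟩
  rw [← hΓs.2] at h1
  obtain ⟨i, hi⟩ := h1
  have hi' : Set.range (Γs i).ι = Set.range Γ.ι := hi
  have heq : (fun j => Set.range ((Function.update Γs i Γ j).ι.base : (Function.update Γs i Γ j).curve.left → X)) =
      fun j => Set.range ((Γs j).ι.base : (Γs j).curve.left → X) := by
    funext j
    by_cases hj : j = i
    · subst hj
      rw [Function.update_self]
      exact hi'.symm
    · rw [Function.update_of_ne hj]
  have hlist : _root_.Models.IsComponentList R (Over.mk p) (Function.update Γs i Γ) := by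
    refine ⟨?_, ?_⟩
    · have h2 := hΓs.1
      exact heq ▸ h2
    · have h2 := hΓs.2
      exact heq ▸ h2
  obtain ⟨⟨hfl, hlft, hqc, g, hg⟩, hpr, hreg⟩ := hX
  obtain ⟨-, -, hint, -⟩ := hC
  have hiX : IsIntegral X := H64.RegInt.isIntegral hg hreg
  have hpr' : IsProper (Over.mk p).hom := hpr
  have hfl' : Flat (Over.mk p).hom := hfl
  have hiX' : IsIntegral (Over.mk p).left := hiX
  have hN : IsLocallyNoetherian (Over.mk p).left := LocallyOfFiniteType.isLocallyNoetherian (Over.mk p).hom
  have hL : ∀ j, ∃ L : X.Modules, ClSub.IsInverseOf L (ClSub.idealMod (Function.update Γs i Γ j).ι.ker) := by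
    intro j
    have hD : BlowUp.IsEffCartierIdeal (Function.update Γs i Γ j).ι.ker :=
      isEffCartier_ker hreg _ (range_mem_fibreComponents hlist j)
    obtain ⟨L, -, ⟨e⟩⟩ := Grpsch.PicGrp.exists_inverse (Dix.IdealModCartier.isInvertible_idealMod hD)
    exact ⟨L, ⟨Ega2.Tens.swap L (ClSub.idealMod _) ≪≫ e⟩⟩
  choose L hL using hL
  exact ⟨n, Function.update Γs i Γ, L, i, hlist, hL, Function.update_self ..⟩

/-- The case of a minimal model. -/
theorem minimal_case {X : Scheme.{u}} {p : X ⟶ Spec (CommRingCat.of R)}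
    (hC : Curve.IsSmoothProperCurve (FractionRing R) C f) (hH0 : IsIso f.appTop)
    (hg : 2 ≤ _root_.Models.curveGenus (FractionRing R) C f)
    (hgen : (_root_.Models.curveGenus (FractionRing R) C f : ℤ) ≤
      1 - Curv2.euler (ResidueField R) Γ' (Coh.structureModule Γ'))
    (hX : _root_.Models.IsMinimalModel R X p C f) (hA : ArSurf.IsArithSurface R (Over.mk p))
    (Γ : ArSurf.VertComp R (Over.mk p)) (ν : Γ' ⟶ Γ.curve.left) (hν : Dom Γ' Γ ν) :
    ∃ (X : Scheme.{u}) (p : X ⟶ Spec (CommRingCat.of R)), _root_.Models.IsRegularProperModel R X p C f ∧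
      ∃ e : _root_.Models.specialFibre R X p ≅ Γ', e.hom ≫ (Γ' ↘ Spec (CommRingCat.of (ResidueField R))) =
        pullback.snd p (Spec.map (CommRingCat.ofHom (algebraMap R (ResidueField R)))) := by
  obtain ⟨n, Γs, L, i₀, hΓs, hL, rfl⟩ := exists_list hC hX.1 hA Γ
  obtain ⟨T, hm, ha, hw, hwg, -⟩ := Groth.Agent.S3322.result R C X f p hC hH0 hX.1 Γs hΓs L hL
  have hform := Groth.Agent.S3321.result R C X f p hC hH0 hX.1 Γs hΓs L hL
  have hmin0 := (Groth.Agent.S3347.result R C X f p hC hH0 hX.1 Γs hΓs L hL).1 hX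
  have hprop : IsProper (Over.mk p).hom := hX.1.2.1
  have hmin : T.IsMinimal := by
    rintro i ⟨h3, h4⟩
    apply hmin0 i
    constructor
    · have := hwg i
      rw [h3, mul_zero] at this
      exact_mod_cast this.symm
    · rw [← ha, h4, hw]
  have hle := euler_le_of_dom Γ' (Γs i₀) ν hν
  have heu := euler_curve (Γs i₀)
  obtain ⟨hn, hm1, heq⟩ := numeric T hmin (_root_.Models.curveGenus (FractionRing R) C f : ℤ) (by exact_mod_cast hg)
    (by
      rw [hform]
      congr 1
      refine Finset.sum_congr rfl fun i _ => ?_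
      rw [hm, hwg, hw, ha]) i₀ (by rw [hwg, hw]; linarith)
  subst hn
  have hmult : _root_.Models.mult R (Over.mk p) (Γs i₀) = 1 := by
    have := hm i₀
    rw [hm1] at this
    exact_mod_cast this.symm
  have hiso : IsIso ν := by
    apply isIso_of_dom Γ' (Γs i₀) ν hν
    rw [hwg, hw] at heq
    linarith
  obtain ⟨⟨hM, hpr, hreg⟩, -⟩ := hX
  have hM' := hM
  obtain ⟨hfl, hlft, hqc, g, hg'⟩ := hM'
  have hfl' : Flat (Over.mk p).hom := hfl
  have hint := hC.2.2.1
  have hiX : IsIntegral X := H64.RegInt.isIntegral hg' hreg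
  have h3 := specialFibreIdeal_eq_prod (X := Over.mk p) hreg hΓs
  have hi0 : i₀ = 0 := Subsingleton.elim _ _
  rw [Fin.prod_univ_one, ← hi0, hmult, pow_one] at h3
  obtain ⟨e, he⟩ := H55.Fibre.specialFibre_iso h3.symm
  refine ⟨X, p, ⟨hM, hpr, hreg⟩, e ≪≫ (asIso ν).symm, ?_⟩
  rw [Iso.trans_hom, Iso.symm_hom, asIso_inv, Category.assoc, ← hν.hover, IsIso.inv_hom_id_assoc]
  exact he

/-- The induction over contractions. -/
theorem main (hC : Curve.IsSmoothProperCurve (FractionRing R) C f) (hH0 : IsIso f.appTop)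
    (hgg : 2 ≤ _root_.Models.curveGenus (FractionRing R) C f)
    (hgen : (_root_.Models.curveGenus (FractionRing R) C f : ℤ) ≤
      1 - Curv2.euler (ResidueField R) Γ' (Coh.structureModule Γ')) :
    ∀ (n : ℕ) (Y : Over (Spec (CommRingCat.of R))) (_ : ArSurf.IsArithSurface R Y) (g : C ⟶ Y.left)
      (_ : IsPullback g f Y.hom (Spec.map (CommRingCat.ofHom (algebraMap R (FractionRing R)))))
      (_ : (minSet Y).ncard = n) (Γ : ArSurf.VertComp R Y) (ν : Γ' ⟶ Γ.curve.left) (_ : Dom Γ' Γ ν),
      ∃ (X : Scheme.{u}) (p : X ⟶ Spec (CommRingCat.of R)), _root_.Models.IsRegularProperModel R X p C f ∧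
        ∃ e : _root_.Models.specialFibre R X p ≅ Γ', e.hom ≫ (Γ' ↘ Spec (CommRingCat.of (ResidueField R))) =
          pullback.snd p (Spec.map (CommRingCat.ofHom (algebraMap R (ResidueField R)))) := by
  intro n
  induction n using Nat.strong_induction_on with
  | _ n ih =>
  intro Y hY g hg hn Γ ν hν
  have hYp := SurfBasic.isProper hY
  have hmodel : ∀ (Z : Over (Spec (CommRingCat.of R))) (_ : ArSurf.IsArithSurface R Z) (g : C ⟶ Z.left)
      (_ : IsPullback g f Z.hom (Spec.map (CommRingCat.ofHom (algebraMap R (FractionRing R))))),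
      _root_.Models.IsRegularProperModel R Z.left Z.hom C f := by
    intro Z hZ g hg
    have hp := SurfBasic.isProper hZ
    exact ⟨⟨hZ.2.2.2.1, inferInstance, inferInstance, g, hg⟩, hp, hZ.1⟩
  by_cases hmin : ∀ Γ : ArSurf.VertComp R Y, ¬ _root_.Models.IsExcCurve Γ.ι
  · exact minimal_case Γ' hC hH0 hgg hgen (X := Y.left) (p := Y.hom) ⟨hmodel Y hY g hg, hmin⟩ hY Γ ν hν
  · push Not at hmin
    obtain ⟨E, hE⟩ := hmin
    obtain ⟨Z, b, y, hy, hZ, hb, hbE, hbi⟩ := exists_contraction' hY E hE
    have hne : Set.range Γ.ι ≠ Set.range E.ι := by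
      intro h
      have h1 := euler_le_of_range Γ E h
      have h2 := euler_le_of_dom Γ' Γ ν hν
      obtain ⟨L, -, ⟨e⟩⟩ := Grpsch.PicGrp.exists_inverse (Dix.IdealModCartier.isInvertible_idealMod hE.1)
      have h3 := (H50.ExcNum.exc_numbers E hE (L := L) ⟨Ega2.Tens.swap L (ClSub.idealMod E.ι.ker) ≪≫ e⟩).1
      have h4 := euler_curve E
      rw [h3] at h4
      have h5 : (2 : ℤ) ≤ _root_.Models.curveGenus (FractionRing R) C f := by exact_mod_cast hgg
      push_cast at h4
      have h6 : (0 : ℤ) ≤ (_root_.Models.wdeg R Y E : ℤ) := Int.natCast_nonneg _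
      linarith
    have hg' := isPullback_comp E b hb hg
    obtain ⟨Δ, ν', hν'⟩ := step Γ' hY hZ
      (fun x hx => H55.ClosedPt.ringKrullDim_stalk hC (hmodel Z hZ _ hg') x hx) E b y hy hbE hbi Γ hne ν hν
    exact ih _ (hn ▸ ncard_minSet_lt hY hZ E b hb) Z hZ (g ≫ b.left) hg' rfl Δ ν' hν'

/-- A regular proper model whose closed fibre has a component with a finite birational cover `Γ'` of arithmetic
genus `≥ g`: some regular proper model has closed fibre `Γ'`. -/
theorem exists_model (hC : Curve.IsSmoothProperCurve (FractionRing R) C f) (hH0 : IsIso f.appTop)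
    (hgg : 2 ≤ _root_.Models.curveGenus (FractionRing R) C f)
    (hgen : (_root_.Models.curveGenus (FractionRing R) C f : ℤ) ≤
      1 - Curv2.euler (ResidueField R) Γ' (Coh.structureModule Γ'))
    {X : Scheme.{u}} {p : X ⟶ Spec (CommRingCat.of R)} (hX : _root_.Models.IsRegularProperModel R X p C f)
    (Γ : ArSurf.VertComp R (Over.mk p)) (ν : Γ' ⟶ Γ.curve.left) (hν : Dom Γ' Γ ν) :
    ∃ (X : Scheme.{u}) (p : X ⟶ Spec (CommRingCat.of R)), _root_.Models.IsRegularProperModel R X p C f ∧
      ∃ e : _root_.Models.specialFibre R X p ≅ Γ', e.hom ≫ (Γ' ↘ Spec (CommRingCat.of (ResidueField R))) =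
        pullback.snd p (Spec.map (CommRingCat.ofHom (algebraMap R (ResidueField R)))) := by
  have hA : ArSurf.IsArithSurface R (Over.mk p) := H54.Bridge.isArithSurface_of_curve hX hC
  obtain ⟨g, hg⟩ := hX.1.2.2.2
  exact main Γ' hC hH0 hgg hgen _ (Over.mk p) hA g hg rfl Γ ν hν

/-- Good reduction, if `Γ'` is smooth. -/
theorem hasGoodReduction [Smooth (Γ' ↘ Spec (CommRingCat.of (ResidueField R)))]
    (hC : Curve.IsSmoothProperCurve (FractionRing R) C f) (hH0 : IsIso f.appTop)
    (hgg : 2 ≤ _root_.Models.curveGenus (FractionRing R) C f)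
    (hgen : (_root_.Models.curveGenus (FractionRing R) C f : ℤ) ≤
      1 - Curv2.euler (ResidueField R) Γ' (Coh.structureModule Γ'))
    {X : Scheme.{u}} {p : X ⟶ Spec (CommRingCat.of R)} (hX : _root_.Models.IsRegularProperModel R X p C f)
    (Γ : ArSurf.VertComp R (Over.mk p)) (ν : Γ' ⟶ Γ.curve.left) (hν : Dom Γ' Γ ν) :
    _root_.Models.HasGoodReduction R C f := by
  obtain ⟨X', p', hX', e, he⟩ := exists_model Γ' hC hH0 hgg hgen hX Γ ν hν
  have hsmf : Smooth f := hC.2.1
  refine ⟨X', p', hX'.1, hX'.2.1, H60.SmoothFib.smooth_of_model R hX'.1 ?_⟩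
  rw [← he]
  exact (MorphismProperty.cancel_left_of_respectsIso @Smooth e.hom _).2 inferInstance

end

end Groth.Agent.Models.K378.GoodMain
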