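import Groth.Agent.Models.K378.EulerBir
import Groth.Agent.Models.H52.ContrStep
import Groth.Agent.Models.H55.MinFib
import Groth.Agent.Models.H55.ClosedPt

/-!
# The image of a vertical prime divisor under a contraction
-/

set_option autoImplicit false
universe u
open CategoryTheory CategoryTheory.Limits AlgebraicGeometry Opposite TopologicalSpace IsLocalRing

namespace Groth.Agent.Models.K378.GoodStep

open Groth.Agent.Dix Groth.Agent.Dix.PointIdeal Groth.Agent.Dix.FibreMin Groth.Agent.Models.H52.ContrStep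

variable {R : Type u} [CommRing R] [IsDomain R] [IsDiscreteValuationRing R]

/-- Castelnuovo's contraction, with the fibre of the point. -/
theorem exists_contraction' {X : Over (Spec (CommRingCat.of R))} (hX : ArSurf.IsArithSurface R X)
    (Γ : ArSurf.VertComp R X) (hE : _root_.Models.IsExcCurve Γ.ι) :
    ∃ (Y : Over (Spec (CommRingCat.of R))) (b : X ⟶ Y) (y : Y.left) (hy : IsClosed ({y} : Set Y.left)),
      ArSurf.IsArithSurface R Y ∧ _root_.Models.IsContractionOf Γ.ι b.left ∧ b.left ⁻¹' {y} = Set.range Γ.ι ∧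
      IsIso (b.left ∣_ (⟨{y}ᶜ, hy.isOpen_compl⟩ : Y.left.Opens)) := by
  obtain ⟨heff, k, hk, e, ⟨φ⟩⟩ := hE
  have hker : (e.hom ≫ Γ.ι).ker = Γ.ι.ker := Scheme.Hom.ker_comp_of_isIso e.hom Γ.ι
  have heff' : BlowUp.IsEffCartierIdeal (e.hom ≫ Γ.ι).ker := by rw [hker]; exact heff
  have hdeg : ArSurf.curveDeg k (CohB1.ProjSpace 1 k)
      ((Scheme.Modules.pullback (e.hom ≫ Γ.ι)).obj (ClSub.idealMod (e.hom ≫ Γ.ι).ker)) = 1 := by
    rw [hker, Cast0.curveDeg_congr k φ]
    exact Cast2.wp2_deg k 1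
  obtain ⟨Y, f, y, hy, hY, h1, h2, h3⟩ := CastMain.wp5 R X hX k (e.hom ≫ Γ.ι) heff' hdeg
  have hs : Function.Surjective e.hom := e.hom.homeomorph.surjective
  have h1' : Set.range (Γ.ι ≫ f.left) = {y} := by
    rw [← h1, Category.assoc]
    exact (hs.range_comp (Γ.ι ≫ f.left)).symm
  have h2' : f.left ⁻¹' {y} = Set.range Γ.ι := by
    have h4 : Set.range (e.hom ≫ Γ.ι) = Set.range Γ.ι := hs.range_comp Γ.ι
    rw [h4] at h2
    have h5 : (f.left ⁻¹' {y})ᶜ = (Set.range Γ.ι)ᶜ := h2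
    exact compl_injective h5
  have hXi := hX.2.1
  have hYi := hY.2.1
  have hp := SurfBasic.isProper_left hX hY f
  have hXn := SurfBasic.isNoetherian hX
  have hYn := SurfBasic.isNoetherian hY
  have hirr : IsPreirreducible (f.left ⁻¹' {y}) := by
    rw [h2', range_eq_closure]
    exact isPreirreducible_singleton.closure
  have hbig : ∃ x x' : X.left, x ≠ x' ∧ f.left x = y ∧ f.left x' = y := by
    obtain ⟨a, b, hab⟩ := exists_ne Γ
    refine ⟨Γ.ι a, Γ.ι b, fun h => hab (Γ.ι.isClosedEmbedding.injective h), ?_, ?_⟩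
    · have : (Γ.ι ≫ f.left) a ∈ Set.range (Γ.ι ≫ f.left) := ⟨a, rfl⟩
      rw [h1'] at this
      exact this
    · have : (Γ.ι ≫ f.left) b ∈ Set.range (Γ.ι ≫ f.left) := ⟨b, rfl⟩
      rw [h1'] at this
      exact this
  refine ⟨Y, f, y, hy, hY, ⟨hYn, hp, y, hy, h1', hY.1 y, ?_, ?_⟩, h2', h3⟩
  · exact (BlowIrr.coheight_eq_two_iff y).mpr
      (BlowIrr.coheight_y f.left y hy hY.1 (SurfBasic.coheight_le hY y) (SurfBasic.genericPoint_ne hY y hy) h3 hbig)
  · exact BlowIrr.main f.left y hy hX.1 hY.1 (SurfBasic.coheight_le hX) (SurfBasic.coheight_le hY y)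
      (SurfBasic.genericPoint_ne hY y hy) h3 hirr hbig

/-- A morphism which is an isomorphism over an open is injective there. -/
theorem inj_of_isIso {A B : Scheme.{u}} (b : A ⟶ B) (U : B.Opens) [IsIso (b ∣_ U)] {x x' : A}
    (hx : b x ∈ U) (h : b x = b x') : x = x' := by
  have hx' : b x' ∈ U := h ▸ hx
  have h1 : (b ∣_ U) ⟨x, hx⟩ = (b ∣_ U) ⟨x', hx'⟩ := by
    apply Subtype.ext
    have e1 : ((b ∣_ U) ⟨x, hx⟩).1 = b x := congr($(morphismRestrict_ι b U) (⟨x, hx⟩ : (b ⁻¹ᵁ U)))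
    have e2 : ((b ∣_ U) ⟨x', hx'⟩).1 = b x' := congr($(morphismRestrict_ι b U) (⟨x', hx'⟩ : (b ⁻¹ᵁ U)))
    rw [e1, e2, h]
  have h2 := (b ∣_ U).homeomorph.injective h1
  exact congrArg Subtype.val h2

theorem isIso_restrict_of_le {X Y : Scheme.{u}} (f : X ⟶ Y) {U V : Y.Opens} (h : V ≤ U) [IsIso (f ∣_ U)] :
    IsIso (f ∣_ V) := by
  have h1 : IsPullback (f ∣_ V) (f ⁻¹ᵁ V).ι V.ι f := isPullback_morphismRestrict f V
  have h2 : IsPullback (f ∣_ U) (f ⁻¹ᵁ U).ι U.ι f := isPullback_morphismRestrict f U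
  have h3 : IsPullback (X.homOfLE (show f ⁻¹ᵁ V ≤ f ⁻¹ᵁ U from fun x hx => h hx)) (f ∣_ V) (f ∣_ U)
      (Y.homOfLE h) := by
    refine IsPullback.of_right ?_ ?_ h2.flip
    · simpa using h1.flip
    · rw [← cancel_mono U.ι]
      simp
  exact h3.isIso_snd_of_isIso

/-- composite of birational morphisms -/
theorem exists_isIso_comp {A B D : Scheme.{u}} (ν : A ⟶ B) (μ : B ⟶ D) [IsIntegral B] [IsIntegral D]
    (hμc : IsClosedMap μ) (hμg : μ (genericPoint B) = genericPoint D)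
    (V : B.Opens) (hV : (V : Set B).Nonempty) [IsIso (ν ∣_ V)]
    (U : D.Opens) (hU : (U : Set D).Nonempty) [IsIso (μ ∣_ U)] :
    ∃ W : D.Opens, (W : Set D).Nonempty ∧ IsIso ((ν ≫ μ) ∣_ W) := by
  have hgU : genericPoint D ∈ U := by
    obtain ⟨z, hz⟩ := hU
    exact ((genericPoint_spec D).specializes trivial).mem_open U.2 hz
  have hgV : genericPoint B ∈ V := by
    obtain ⟨z, hz⟩ := hV
    exact ((genericPoint_spec B).specializes trivial).mem_open V.2 hz
  let W : D.Opens := ⟨(U : Set D) ∩ (μ '' (V : Set B)ᶜ)ᶜ, U.2.inter (hμc _ V.2.isClosed_compl).isOpen_compl⟩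
  have hWU : W ≤ U := fun z hz => hz.1
  have hWV : μ ⁻¹ᵁ W ≤ V := by
    intro z hz
    by_contra hcon
    exact hz.2 ⟨z, hcon, rfl⟩
  refine ⟨W, ⟨genericPoint D, hgU, ?_⟩, ?_⟩
  · rintro ⟨z, hz, hz2⟩
    apply hz
    have h1 : z = genericPoint B := inj_of_isIso μ U (by rw [hz2]; exact hgU) (by rw [hz2, hμg])
    rw [h1]
    exact hgV
  · rw [morphismRestrict_comp]
    have h1 : IsIso (μ ∣_ W) := isIso_restrict_of_le μ hWU
    have h2 : IsIso (ν ∣_ (μ ⁻¹ᵁ W)) := isIso_restrict_of_le ν hWV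
    exact IsIso.comp_isIso' h2 h1

section

variable (Γ' : Scheme.{u}) [Γ'.Over (Spec (CommRingCat.of (ResidueField R)))]

/-- `ν` is a finite morphism over the residue field, an isomorphism over a nonempty open. -/
structure Dom {X : Over (Spec (CommRingCat.of R))} (Γ : ArSurf.VertComp R X) (ν : Γ' ⟶ Γ.curve.left) : Prop where
  fin : IsFinite ν
  hover : ν ≫ Γ.curve.hom = Γ' ↘ Spec (CommRingCat.of (ResidueField R))
  bir : ∃ U : Γ.curve.left.Opens, (U : Set Γ.curve.left).Nonempty ∧ IsIso (ν ∣_ U)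

variable {C : Scheme.{u}} {f : C ⟶ Spec (CommRingCat.of (FractionRing R))}

theorem step {Y Z : Over (Spec (CommRingCat.of R))} (hY : ArSurf.IsArithSurface R Y)
    (hZ : ArSurf.IsArithSurface R Z)
    (h2 : ∀ x : Z.left, IsClosed ({x} : Set Z.left) → ringKrullDim (Z.left.presheaf.stalk x) = 2)
    (E : ArSurf.VertComp R Y) (b : Y ⟶ Z) (y : Z.left) (hy : IsClosed ({y} : Set Z.left))
    (hbE : b.left ⁻¹' {y} = Set.range E.ι)
    (hb : IsIso (b.left ∣_ (⟨{y}ᶜ, hy.isOpen_compl⟩ : Z.left.Opens)))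
    (Γ : ArSurf.VertComp R Y) (hΓ : Set.range Γ.ι ≠ Set.range E.ι)
    (ν : Γ' ⟶ Γ.curve.left) (hν : Dom Γ' Γ ν) :
    ∃ (Δ : ArSurf.VertComp R Z) (ν' : Γ' ⟶ Δ.curve.left), Dom Γ' Δ ν' := by
  have hYi := hY.2.1
  have hZi := hZ.2.1
  have hZf := hZ.2.2.2.1
  have hYp := SurfBasic.isProper hY
  have hZp := SurfBasic.isProper hZ
  have hbp := SurfBasic.isProper_left hY hZ b
  have hYn := SurfBasic.isNoetherian hY
  have hbw : ∀ x, Z.hom (b.left x) = Y.hom x := fun x => congr($(Over.w b) x)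
  set U₀ : Z.left.Opens := ⟨{y}ᶜ, hy.isOpen_compl⟩ with hU₀
  set ξ : Y.left := Γ.ι (genericPoint Γ.curve.left) with hξ
  -- the generic point of `Γ` is not on `E`
  have hξE : ξ ∉ Set.range E.ι := by
    intro h
    apply hΓ
    have h3 : Set.range Γ.ι ⊆ Set.range E.ι := by
      rw [range_eq_closure]
      exact closure_minimal (by rintro _ rfl; exact h) E.ι.isClosedEmbedding.isClosed_range
    have h4 : E.ι (genericPoint E.curve.left) ⤳ ξ := by
      rw [specializes_iff_mem_closure, ← range_eq_closure]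
      exact h
    have h5 := (genPt_mem_minSet hY Γ).2 _ h4 (by rw [hom_apply, hom_apply])
    rw [range_eq_closure Γ, range_eq_closure E, h5]
  have hbξ : b.left ξ ∈ U₀ := fun h => hξE (by rw [← hbE]; exact h)
  -- `b ξ` is a generic point of the closed fibre
  obtain ⟨a, ha⟩ : ∃ a, genericPoint Γ.curve.left ≠ a := by
    obtain ⟨a, a', haa⟩ := exists_ne Γ
    by_cases h : genericPoint Γ.curve.left = a
    · exact ⟨a', by rw [h]; exact haa⟩
    · exact ⟨a, h⟩
  have hmin : b.left ξ ∈ minSet Z := by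
    refine isMinPt_of_ne hZ (x := b.left (Γ.ι a)) ?_ ?_ ?_
    · exact (((genericPoint_spec Γ.curve.left).specializes trivial).map Γ.ι.continuous).map b.left.continuous
    · intro h
      have h3 : ξ = Γ.ι a := inj_of_isIso b.left U₀ hbξ h
      exact ha (Γ.ι.isClosedEmbedding.injective h3)
    · rw [hbw]; exact hom_apply Γ _
  obtain ⟨Δ, hΔ⟩ := H55.CompGeom.exists_vertComp (X := Z) h2 H55.MinFib.genericPoint_ne (b.left ξ) hmin.1 hmin.2
  have hgΔ : Δ.ι (genericPoint Δ.curve.left) = b.left ξ := by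
    have h3 : closure {Δ.ι (genericPoint Δ.curve.left)} = closure {b.left ξ} := by
      rw [← range_eq_closure]; exact hΔ
    have h4 : Δ.ι (genericPoint Δ.curve.left) ⤳ b.left ξ := by
      rw [specializes_iff_mem_closure, h3]; exact subset_closure rfl
    have h5 : b.left ξ ⤳ Δ.ι (genericPoint Δ.curve.left) := by
      rw [specializes_iff_mem_closure, ← h3]; exact subset_closure rfl
    exact (h4.antisymm h5).eq
  -- the induced morphism of curves
  obtain ⟨μ, hμ⟩ := Ega1.ReducedSub.exists_factor_of_range_subset (Γ.ι ≫ b.left) Δ.ι (by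
    rintro _ ⟨z, rfl⟩
    have h3 : (Γ.ι ≫ b.left) z = b.left (Γ.ι z) := rfl
    rw [h3]
    have h4 : b.left ξ ⤳ b.left (Γ.ι z) :=
      (((genericPoint_spec Γ.curve.left).specializes trivial).map Γ.ι.continuous).map b.left.continuous
    have h5 : b.left (Γ.ι z) ∈ closure {b.left ξ} := h4.mem_closure
    rw [← hΔ] at h5
    exact h5)
  have hμp : ∀ z, Δ.ι (μ z) = b.left (Γ.ι z) := fun z => congr($hμ z)
  have hcli : IsClosedImmersion (Spec.map (CommRingCat.ofHom (IsLocalRing.residue R))) :=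
    IsClosedImmersion.spec_of_surjective _ IsLocalRing.residue_surjective
  have hμk : μ ≫ Δ.curve.hom = Γ.curve.hom := by
    rw [← cancel_mono (Spec.map (CommRingCat.ofHom (IsLocalRing.residue R))), ← Γ.w, Category.assoc, ← Δ.w,
      ← Category.assoc, hμ, Category.assoc, Over.w b]
  have hμprop : IsProper μ := by
    have : IsProper (μ ≫ Δ.ι) := by rw [hμ]; infer_instance
    exact IsProper.of_comp μ Δ.ι
  have hμg : μ (genericPoint Γ.curve.left) = genericPoint Δ.curve.left := by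
    apply Δ.ι.isClosedEmbedding.injective
    rw [hμp, hgΔ]
  have hΓn : IsNoetherian Γ.curve.left := by
    have : IsLocallyNoetherian Γ.curve.left := LocallyOfFiniteType.isLocallyNoetherian (Γ.ι)
    have : CompactSpace Γ.curve.left := QuasiCompact.compactSpace_of_compactSpace Γ.ι
    exact {}
  -- finite fibres
  have hfin : ∀ z : Δ.curve.left, (μ ⁻¹' {z}).Finite := by
    intro z
    by_cases hz : Δ.ι z = y
    · let V : Γ.curve.left.Opens := ⟨(Γ.ι ⁻¹' Set.range E.ι)ᶜ,
        (E.ι.isClosedEmbedding.isClosed_range.preimage Γ.ι.continuous).isOpen_compl⟩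
      have hV : Dense (V : Set Γ.curve.left) :=
        V.2.dense ⟨genericPoint Γ.curve.left, fun h => hξE h⟩
      refine (VarietyA.Dim1Top.finite_compl Γ.dim_eq.le V hV).subset ?_
      intro x hx
      have hx' : μ x = z := hx
      change ¬ (x ∈ (Γ.ι ⁻¹' Set.range E.ι)ᶜ)
      rw [Set.mem_compl_iff, not_not]
      change Γ.ι x ∈ Set.range E.ι
      rw [← hbE]
      change b.left (Γ.ι x) = y
      rw [← hμp, hx', hz]
    · refine Set.Subsingleton.finite ?_
      intro x hx x' hx'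
      have hx1 : μ x = z := hx
      have hx2 : μ x' = z := hx'
      apply Γ.ι.isClosedEmbedding.injective
      refine inj_of_isIso b.left U₀ ?_ ?_
      · rw [← hμp, hx1]; exact hz
      · rw [← hμp, ← hμp, hx1, hx2]
  have hμq : LocallyQuasiFinite μ := LocallyQuasiFinite.of_finite_preimage_singleton _ hfin
  have hμf : IsFinite μ := IsFinite.of_isProper_of_locallyQuasiFinite μ
  -- `μ` is an isomorphism over the complement of `y`
  let U₁ : Δ.curve.left.Opens := Δ.ι ⁻¹ᵁ U₀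
  have hU₁ : (U₁ : Set Δ.curve.left).Nonempty := ⟨genericPoint Δ.curve.left, by
    change Δ.ι (genericPoint Δ.curve.left) ∈ U₀
    rw [hgΔ]; exact hbξ⟩
  have hsurj : Function.Surjective μ := by
    intro z
    exact ((genericPoint_spec Δ.curve.left).specializes trivial).mem_closed
      μ.isClosedMap.isClosed_range ⟨_, hμg⟩
  have hμi : IsIso (μ ∣_ U₁) := by
    have h3 : (μ ∣_ U₁) ≫ (Δ.ι ∣_ U₀) = (μ ≫ Δ.ι) ∣_ U₀ := (morphismRestrict_comp μ Δ.ι U₀).symm
    have h4 : IsClosedImmersion ((μ ≫ Δ.ι) ∣_ U₀) := by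
      rw [hμ, morphismRestrict_comp]
      have h5 : IsClosedImmersion (Γ.ι ∣_ (b.left ⁻¹ᵁ U₀)) :=
        IsZariskiLocalAtTarget.restrict (P := @IsClosedImmersion) inferInstance _
      exact MorphismProperty.comp_mem @IsClosedImmersion _ _ h5 inferInstance
    have h5' : IsClosedImmersion (Δ.ι ∣_ U₀) :=
        IsZariskiLocalAtTarget.restrict (P := @IsClosedImmersion) inferInstance _
    have h5 : IsClosedImmersion (μ ∣_ U₁) :=
      MorphismProperty.of_postcomp @IsClosedImmersion (μ ∣_ U₁) (Δ.ι ∣_ U₀)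
        (inferInstance : IsSeparated (Δ.ι ∣_ U₀)) (by rw [h3]; exact h4)
    have h6 : Surjective (μ ∣_ U₁) :=
      IsZariskiLocalAtTarget.restrict (P := @Surjective) ⟨hsurj⟩ _
    exact isIso_of_isClosedImmersion_of_surjective _
  obtain ⟨V, hV, hVi⟩ := hν.bir
  have hνf := hν.fin
  obtain ⟨W, hW, hWi⟩ := exists_isIso_comp ν μ μ.isClosedMap hμg V hV U₁ hU₁
  exact ⟨Δ, ν ≫ μ, inferInstance, by rw [Category.assoc, hμk, hν.hover], W, hW, hWi⟩

end

end Groth.Agent.Models.K378.GoodStep
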