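import Groth.Agent.Models.NumBasic
import Groth.Agent.S2171
import Mathlib.Analysis.Real.Sqrt
import Mathlib.Tactic.LinearCombination
import Mathlib.Tactic.FieldSimp
import Mathlib.Tactic.IntervalCases

set_option autoImplicit false

open Finset

/-! The normalised Gram matrix `c i j = a i j / (√w_i √w_j)` of a numerical type: it is
`-2` on the diagonal at `(-2)`-indices, has entries `0, 1, √2, √3` between two `(-2)`-indices
and is negative definite on proper subsets of the set of indices. -/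

namespace K378.Gram

open Groth.Agent.Models.NumBasic

variable {n : ℕ} (T : Models.NumericalType n)

/-- The quadratic form of a numerical type is negative on nonzero real vectors with a zero entry. -/
theorem form_neg (x : Fin n → ℝ) (hx : x ≠ 0) (k : Fin n) (hk : x k = 0) :
    ∑ i, ∑ j, x i * x j * (T.a i j : ℝ) < 0 := by
  have h := Groth.Agent.S2171.result (n := n) (T.a.map (fun z : ℤ => (z : ℝ)))
    (fun i => (T.m i : ℝ)) (by
      ext i j
      simp only [Matrix.transpose_apply, Matrix.map_apply]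
      rw [a_symm T j i])
    (fun i j hij => by
      simp only [Matrix.map_apply]
      exact_mod_cast T.offDiag_nonneg i j hij)
    (fun i => by exact_mod_cast T.m_pos i)
    (by
      funext i
      simp only [Matrix.mulVec, dotProduct, Matrix.map_apply, Pi.zero_apply]
      exact_mod_cast row_sum T i)
    (fun I h1 h2 => by
      obtain ⟨i, hi, j, hj, hij⟩ := T.connected I h1 h2
      refine ⟨i, hi, j, hj, ?_⟩
      simp only [Matrix.map_apply]
      exact_mod_cast hij)
    x
  have hsum : dotProduct x ((T.a.map (fun z : ℤ => (z : ℝ))).mulVec x) =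
      ∑ i, ∑ j, x i * x j * (T.a i j : ℝ) := by
    simp only [Matrix.mulVec, dotProduct, Matrix.map_apply]
    refine Finset.sum_congr rfl fun i _ => ?_
    rw [Finset.mul_sum]
    refine Finset.sum_congr rfl fun j _ => ?_
    ring
  rw [hsum] at h
  refine lt_of_le_of_ne h.1 fun h0 => ?_
  obtain ⟨q, hq⟩ := h.2.1 h0
  have h1 : x k = q * (T.m k : ℝ) := by
    rw [hq]; rfl
  rw [hk] at h1
  have hm : (T.m k : ℝ) ≠ 0 := by exact_mod_cast (T.m_pos k).ne'
  have hq0 : q = 0 := by
    rcases mul_eq_zero.1 h1.symm with h | h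
    · exact h
    · exact absurd h hm
  apply hx
  rw [hq, hq0, zero_smul]

/-- The normalised Gram matrix. -/
noncomputable def gram (i j : Fin n) : ℝ := (T.a i j : ℝ) / (√(T.w i : ℝ) * √(T.w j : ℝ))

theorem sqrt_w_pos (i : Fin n) : 0 < √(T.w i : ℝ) :=
  Real.sqrt_pos.2 (by exact_mod_cast T.w_pos i)

theorem sqrt_w_mul_self (i : Fin n) : √(T.w i : ℝ) * √(T.w i : ℝ) = T.w i :=
  Real.mul_self_sqrt (by exact_mod_cast (T.w_pos i).le)

theorem gram_symm (i j : Fin n) : gram T i j = gram T j i := by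
  unfold gram
  rw [a_symm T i j, mul_comm (√(T.w i : ℝ))]

theorem gram_nonneg (i j : Fin n) (hij : i ≠ j) : 0 ≤ gram T i j := by
  unfold gram
  have h : (0 : ℝ) ≤ (T.a i j : ℝ) := by exact_mod_cast T.offDiag_nonneg i j hij
  have h1 := sqrt_w_pos T i
  have h2 := sqrt_w_pos T j
  positivity

theorem gram_diag (i : Fin n) (hi : T.IsMinusTwo i) : gram T i i = -2 := by
  unfold gram
  rw [sqrt_w_mul_self, hi.2]
  have : (T.w i : ℝ) ≠ 0 := by exact_mod_cast (T.w_pos i).ne'
  push_cast
  field_simp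

theorem gram_eq_zero_iff (i j : Fin n) : gram T i j = 0 ↔ T.a i j = 0 := by
  unfold gram
  have h1 := sqrt_w_pos T i
  have h2 := sqrt_w_pos T j
  rw [div_eq_zero_iff]
  constructor
  · rintro (h | h)
    · exact_mod_cast h
    · exact absurd h (by positivity)
  · intro h
    left
    exact_mod_cast h

theorem gram_mul (i j : Fin n) : gram T i j * (√(T.w i : ℝ) * √(T.w j : ℝ)) = T.a i j := by
  unfold gram
  have h1 := sqrt_w_pos T i
  have h2 := sqrt_w_pos T j
  field_simp

theorem gram_sq_mul (i j : Fin n) :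
    (T.a i j : ℝ) * T.a i j = (gram T i j) ^ 2 * (T.w i * T.w j) := by
  have h2 := gram_mul T i j
  have h3 := sqrt_w_mul_self T i
  have h4 := sqrt_w_mul_self T j
  linear_combination (-(T.a i j : ℝ) - gram T i j * (√(T.w i : ℝ) * √(T.w j : ℝ))) * h2 +
    (gram T i j) ^ 2 * (√(T.w j : ℝ) * √(T.w j : ℝ)) * h3 + (gram T i j) ^ 2 * T.w i * h4

/-- Negative definiteness of the Gram matrix on proper subsets. -/
theorem gram_neg {ι : Type*} [Fintype ι] (v : ι → Fin n) (hv : Function.Injective v)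
    (hcard : Fintype.card ι < n) (x : ι → ℝ) (hx : x ≠ 0) :
    ∑ i, ∑ j, x i * x j * gram T (v i) (v j) < 0 := by
  classical
  -- the extended vector
  set y : Fin n → ℝ := fun k => ∑ i, if v i = k then x i / √(T.w k : ℝ) else 0 with hy
  have hyv : ∀ i, y (v i) = x i / √(T.w (v i) : ℝ) := by
    intro i
    rw [hy]
    simp only
    rw [Finset.sum_eq_single i]
    · simp
    · intro j _ hj
      rw [if_neg]
      intro h
      exact hj (hv h)
    · intro h
      exact absurd (Finset.mem_univ i) h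
  have hy0 : ∀ k, (∀ i, v i ≠ k) → y k = 0 := by
    intro k hk
    rw [hy]
    simp only
    exact Finset.sum_eq_zero fun i _ => if_neg (hk i)
  obtain ⟨k, hk⟩ : ∃ k, ∀ i, v i ≠ k := by
    by_contra h
    push Not at h
    have hs : Function.Surjective v := fun k => h k
    have := Fintype.card_le_of_surjective v hs
    rw [Fintype.card_fin] at this
    omega
  have hyne : y ≠ 0 := by
    intro h
    apply hx
    funext i
    have h1 := hyv i
    rw [h] at h1
    have h2 := sqrt_w_pos T (v i)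
    simp only [Pi.zero_apply] at h1 ⊢
    rcases div_eq_zero_iff.1 h1.symm with h3 | h3
    · exact h3
    · exact absurd h3 h2.ne'
  have hneg := form_neg T y hyne k (hy0 k hk)
  have key : ∀ f : Fin n → ℝ, (∀ k, (∀ i, v i ≠ k) → f k = 0) → ∑ k, f k = ∑ i, f (v i) := by
    intro f hf
    rw [← Finset.sum_image (s := univ) (g := v) (fun a _ b _ h => hv h)]
    refine (Finset.sum_subset (Finset.subset_univ _) fun k _ hk => ?_).symm
    apply hf
    intro i hi
    exact hk (Finset.mem_image.2 ⟨i, Finset.mem_univ i, hi⟩)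
  have hsum : ∑ i, ∑ j, y i * y j * (T.a i j : ℝ) = ∑ i, ∑ j, x i * x j * gram T (v i) (v j) := by
    rw [key]
    · refine Finset.sum_congr rfl fun i _ => ?_
      rw [key]
      · refine Finset.sum_congr rfl fun j _ => ?_
        rw [hyv, hyv]
        unfold gram
        have h1 := sqrt_w_pos T (v i)
        have h2 := sqrt_w_pos T (v j)
        field_simp
      · intro l hl
        rw [hy0 l hl]
        ring
    · intro l hl
      rw [hy0 l hl]
      simp
  rw [← hsum]
  exact hneg

/-- Off the diagonal, the normalised Gram matrix is `< 2`. -/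
theorem gram_lt_two (hn : 2 < n) (i j : Fin n) (hij : i ≠ j) (hi : T.IsMinusTwo i)
    (hj : T.IsMinusTwo j) : gram T i j < 2 := by
  have h := gram_neg T (ι := Fin 2) ![i, j] (by
    intro a b hab
    fin_cases a <;> fin_cases b <;> simp_all) (by simpa using hn) ![1, 1] (by
    intro h
    have := congrFun h 0
    simp at this)
  simp only [Fin.sum_univ_two, Matrix.cons_val_zero, Matrix.cons_val_one] at h
  rw [gram_diag T i hi, gram_diag T j hj, gram_symm T j i] at h
  linarith

theorem a_sq_lt (hn : 2 < n) (i j : Fin n) (hij : i ≠ j) (hi : T.IsMinusTwo i)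
    (hj : T.IsMinusTwo j) : T.a i j * T.a i j < 4 * (T.w i * T.w j) := by
  have h1 := gram_lt_two T hn i j hij hi hj
  have h0 := gram_nonneg T i j hij
  have h2 := gram_mul T i j
  have h3 := sqrt_w_mul_self T i
  have h4 := sqrt_w_mul_self T j
  have h5 := sqrt_w_pos T i
  have h6 := sqrt_w_pos T j
  have h7 : (T.a i j : ℝ) * T.a i j = (gram T i j) ^ 2 * (T.w i * T.w j) := gram_sq_mul T i j
  have h8 : (gram T i j) ^ 2 < 4 := by nlinarith
  have hwi : (0 : ℝ) < T.w i := by exact_mod_cast T.w_pos i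
  have hwj : (0 : ℝ) < T.w j := by exact_mod_cast T.w_pos j
  have h9 : (T.a i j : ℝ) * T.a i j < 4 * (T.w i * T.w j) := by
    rw [h7]
    exact mul_lt_mul_of_pos_right h8 (by positivity)
  exact_mod_cast h9

/-- The possible triples `(w_i, w_j, a_ij)` for two `(-2)`-indices. -/
theorem pair_cases (hn : 2 < n) (i j : Fin n) (hij : i ≠ j) (hi : T.IsMinusTwo i)
    (hj : T.IsMinusTwo j) :
    T.a i j = 0 ∨ (T.a i j = T.w i ∧ T.w i = T.w j) ∨
      (T.a i j = T.w i ∧ T.w i = 2 * T.w j) ∨ (T.a i j = T.w j ∧ T.w j = 2 * T.w i) ∨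
      (T.a i j = T.w i ∧ T.w i = 3 * T.w j) ∨ (T.a i j = T.w j ∧ T.w j = 3 * T.w i) := by
  obtain ⟨p, hp⟩ := T.w_dvd i j
  obtain ⟨q, hq⟩ := T.w_dvd j i
  rw [a_symm T j i] at hq
  have hwi := T.w_pos i
  have hwj := T.w_pos j
  have ha := T.offDiag_nonneg i j hij
  have hp0 : 0 ≤ p := by
    by_contra h
    push Not at h
    nlinarith
  have hq0 : 0 ≤ q := by
    by_contra h
    push Not at h
    nlinarith
  have hpq : p * q < 4 := by
    have h1 := a_sq_lt T hn i j hij hi hj
    have h2 : T.a i j * T.a i j = (p * q) * (T.w i * T.w j) := by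
      nth_rewrite 1 [hp]
      rw [hq]; ring
    rw [h2] at h1
    exact lt_of_mul_lt_mul_right h1 (by positivity)
  rcases hp0.eq_or_lt with hp1 | hp1
  · left; rw [hp, ← hp1, mul_zero]
  rcases hq0.eq_or_lt with hq1 | hq1
  · left; rw [hq, ← hq1, mul_zero]
  have hp4 : p < 4 := by nlinarith
  have hq4 : q < 4 := by nlinarith
  interval_cases p <;> interval_cases q <;> omega

theorem gram_eq_sqrt (k : ℕ) (i j : Fin n) (hij : i ≠ j)
    (h : T.a i j * T.a i j = k * (T.w i * T.w j)) : gram T i j = √(k : ℝ) := by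
  have h0 := gram_nonneg T i j hij
  have h1 := gram_sq_mul T i j
  have hwi : (0 : ℝ) < T.w i := by exact_mod_cast T.w_pos i
  have hwj : (0 : ℝ) < T.w j := by exact_mod_cast T.w_pos j
  have h2 : (T.a i j : ℝ) * T.a i j = k * (T.w i * T.w j) := by exact_mod_cast h
  rw [h2] at h1
  have h3 : (k : ℝ) = (gram T i j) ^ 2 := mul_right_cancel₀ (by positivity) h1
  rw [h3, Real.sqrt_sq h0]

/-- Two adjacent `(-2)`-indices have Gram entry `1`, `√2` or `√3`. -/
theorem gram_cases (hn : 2 < n) (i j : Fin n) (hij : i ≠ j) (hi : T.IsMinusTwo i)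
    (hj : T.IsMinusTwo j) :
    gram T i j = 0 ∨ gram T i j = 1 ∨ gram T i j = √2 ∨ gram T i j = √3 := by
  rcases pair_cases T hn i j hij hi hj with h | ⟨h, h'⟩ | ⟨h, h'⟩ | ⟨h, h'⟩ | ⟨h, h'⟩ | ⟨h, h'⟩
  · left; exact (gram_eq_zero_iff T i j).2 h
  · right; left
    rw [gram_eq_sqrt T 1 i j hij (by rw [h, h']; ring)]
    simp
  · right; right; left
    rw [gram_eq_sqrt T 2 i j hij (by rw [h, h']; push_cast; ring)]
    simp
  · right; right; left
    rw [gram_eq_sqrt T 2 i j hij (by rw [h, h']; push_cast; ring)]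
    simp
  · right; right; right
    rw [gram_eq_sqrt T 3 i j hij (by rw [h, h']; push_cast; ring)]
    simp
  · right; right; right
    rw [gram_eq_sqrt T 3 i j hij (by rw [h, h']; push_cast; ring)]
    simp

theorem of_gram_eq_one (hn : 2 < n) (i j : Fin n) (hij : i ≠ j) (hi : T.IsMinusTwo i)
    (hj : T.IsMinusTwo j) (h : gram T i j = 1) : T.a i j = T.w i ∧ T.w i = T.w j := by
  have h1 := gram_sq_mul T i j
  rw [h, one_pow, one_mul] at h1
  have h2 : T.a i j * T.a i j = T.w i * T.w j := by exact_mod_cast h1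
  have hwi := T.w_pos i
  have hwj := T.w_pos j
  rcases pair_cases T hn i j hij hi hj with h | ⟨h, h'⟩ | ⟨h, h'⟩ | ⟨h, h'⟩ | ⟨h, h'⟩ | ⟨h, h'⟩
  · rw [h] at h2
    have : 0 < T.w i * T.w j := by positivity
    omega
  · exact ⟨h, h'⟩
  all_goals
    exfalso
    rw [h, h'] at h2
    nlinarith

theorem of_gram_eq_sqrt_two (hn : 2 < n) (i j : Fin n) (hij : i ≠ j) (hi : T.IsMinusTwo i)
    (hj : T.IsMinusTwo j) (h : gram T i j = √2) :
    (T.a i j = T.w i ∧ T.w i = 2 * T.w j) ∨ (T.a i j = T.w j ∧ T.w j = 2 * T.w i) := by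
  have h1 := gram_sq_mul T i j
  rw [h, Real.sq_sqrt (by norm_num)] at h1
  have h2 : T.a i j * T.a i j = 2 * (T.w i * T.w j) := by exact_mod_cast h1
  have hwi := T.w_pos i
  have hwj := T.w_pos j
  rcases pair_cases T hn i j hij hi hj with h | ⟨h, h'⟩ | ⟨h, h'⟩ | ⟨h, h'⟩ | ⟨h, h'⟩ | ⟨h, h'⟩
  · rw [h] at h2
    have : 0 < T.w i * T.w j := by positivity
    omega
  · exfalso
    rw [h, h'] at h2
    nlinarith
  · exact Or.inl ⟨h, h'⟩
  · exact Or.inr ⟨h, h'⟩
  all_goals
    exfalso
    rw [h, h'] at h2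
    nlinarith

theorem one_le_gram (hn : 2 < n) (i j : Fin n) (hij : i ≠ j) (hi : T.IsMinusTwo i)
    (hj : T.IsMinusTwo j) (h : T.a i j ≠ 0) : 1 ≤ gram T i j := by
  rcases gram_cases T hn i j hij hi hj with h1 | h1 | h1 | h1
  · exact absurd ((gram_eq_zero_iff T i j).1 h1) h
  · rw [h1]
  · rw [h1]
    exact Real.one_le_sqrt.2 (by norm_num)
  · rw [h1]
    exact Real.one_le_sqrt.2 (by norm_num)

end K378.Gram
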