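import Mathlib.RingTheory.Ideal.AssociatedPrime.Finiteness
import Mathlib.RingTheory.LocalRing.Length
import Mathlib.RingTheory.Regular.Flat
import Mathlib.RingTheory.LocalRing.Quotient
import Mathlib.RingTheory.Spectrum.Prime.FreeLocus
import Groth.Agent.Vancyc.H677.HensFin
import Groth.Agent.FlatB.GenFibRed
import Groth.Agent.Models.TorRel
import Groth.Agent.S2116

/-!
# Lengths at generic points of the special fibre and finite flat quotients

Algebra for S19920.
-/

set_option autoImplicit false
set_option linter.style.haveILetI false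
universe u

open TensorProduct IsLocalRing

namespace K378.IdxAlg

open Groth.Agent

/-- The dimension of a finite algebra is a sum of residue degrees. -/
theorem finrank_mem {K E : Type u} [Field K] [CommRing E] [Algebra K E] [Module.Finite K E]
    (H : AddSubgroup ℤ) (hH : ∀ m : Ideal E, m.IsMaximal → (Module.finrank K (E ⧸ m) : ℤ) ∈ H) :
    (Module.finrank K E : ℤ) ∈ H := by
  haveI : IsArtinianRing E := IsArtinianRing.of_finite K E
  have key : ∀ (N : Type u) [AddCommGroup N] [Module E N] [Module.Finite E N],
      ∀ [Module K N] [IsScalarTower K E N], (Module.finrank K N : ℤ) ∈ H := by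
    intro N _ _ hN
    refine IsNoetherianRing.induction_on_isQuotientEquivQuotientPrime E (M := N) hN
      (motive := fun N _ _ _ => ∀ [Module K N] [IsScalarTower K E N], (Module.finrank K N : ℤ) ∈ H)
      ?_ ?_ ?_
    · intro N _ _ _ _ _ _
      rw [Module.finrank_zero_of_subsingleton]
      exact H.zero_mem
    · intro N _ _ _ p e _ _
      have h1 : p.asIdeal.IsMaximal := IsArtinianRing.isMaximal_of_isPrime p.asIdeal
      rw [(e.restrictScalars K).finrank_eq]
      exact hH _ h1
    · intro N₁ _ _ _ N₂ _ _ _ N₃ _ _ _ f g hf hg hfg h1 h3 _ _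
      letI : Module K N₁ := Module.compHom N₁ (algebraMap K E)
      letI : Module K N₃ := Module.compHom N₃ (algebraMap K E)
      haveI : IsScalarTower K E N₁ := ⟨fun a b c => by
        rw [Algebra.smul_def, mul_smul]; rfl⟩
      haveI : IsScalarTower K E N₃ := ⟨fun a b c => by
        rw [Algebra.smul_def, mul_smul]; rfl⟩
      haveI : Module.Finite K N₂ := Module.Finite.trans E N₂
      have h2 : Module.finrank K N₂ = Module.finrank K N₁ + Module.finrank K N₃ := by
        have h4 := LinearMap.finrank_range_add_finrank_ker (g.restrictScalars K)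
        have h5 : LinearMap.range (g.restrictScalars K) = ⊤ := LinearMap.range_eq_top.2 hg
        have h6 : Module.finrank K (LinearMap.ker (g.restrictScalars K)) = Module.finrank K N₁ := by
          have h7 : LinearMap.ker (g.restrictScalars K) = LinearMap.range (f.restrictScalars K) := by
            ext x
            exact hfg x
          rw [h7]
          exact LinearMap.finrank_range_of_inj hf
        rw [h5, finrank_top, h6] at h4
        omega
      rw [h2, Nat.cast_add]
      exact H.add_mem h1 h3
  exact key E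

/-- The length of a local algebra with trivial residue extension. -/
theorem length_eq_finrank {F E : Type u} [Field F] [CommRing E] [IsLocalRing E] [Algebra F E]
    [Module.Finite F E] (h : Function.Surjective (algebraMap F (ResidueField E))) :
    Module.length E E = Module.finrank F E := by
  haveI : IsLocalHom (algebraMap F E) := inferInstance
  have h1 := IsLocalRing.length_restrictScalars (A := F) (B := E) (M := E)
  rw [Module.length_eq_finrank F E] at h1
  have h2 : Module.length (ResidueField F) (ResidueField E) = 1 := by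
    have h3 : Function.Surjective (algebraMap (ResidueField F) (ResidueField E)) := by
      intro x
      obtain ⟨y, rfl⟩ := h x
      exact ⟨algebraMap F _ y, rfl⟩
    haveI : Module.Finite (ResidueField F) (ResidueField E) :=
      Module.Finite.of_surjective (Algebra.linearMap (ResidueField F) (ResidueField E)) h3
    rw [Module.length_eq_finrank, Nat.cast_eq_one]
    refine finrank_eq_one (1 : ResidueField E) one_ne_zero fun w => ?_
    obtain ⟨c, hc⟩ := h3 w
    exact ⟨c, by rw [Algebra.smul_def, mul_one, hc]⟩
  rw [h2, mul_one] at h1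
  exact h1.symm

section split

variable {D E : Type u} [CommRing D] [CommRing E] [Algebra D E] (τ : E →+* D)
  (hτ : ∀ d, τ (algebraMap D E d) = d) (hnil : ∀ x, τ x = 0 → IsNilpotent x)

include hτ hnil

theorem isLocalization_atPrime (p : Ideal D) [p.IsPrime] (L : Type u) [CommRing L] [Algebra E L]
    [h : IsLocalization (Algebra.algebraMapSubmonoid E p.primeCompl) L] :
    IsLocalization.AtPrime L (p.comap τ) := by
  refine IsLocalization.of_le (Algebra.algebraMapSubmonoid E p.primeCompl) _ ?_ ?_
  · rintro _ ⟨d, hd, rfl⟩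
    change τ (algebraMap D E d) ∉ p
    rw [hτ]
    exact hd
  · intro x hx
    have h1 : IsUnit (algebraMap E L (algebraMap D E (τ x))) :=
      IsLocalization.map_units L (⟨algebraMap D E (τ x), ⟨τ x, hx, rfl⟩⟩ :
        Algebra.algebraMapSubmonoid E p.primeCompl)
    have h2 : IsNilpotent (algebraMap E L (x - algebraMap D E (τ x))) := by
      refine IsNilpotent.map (hnil _ ?_) _
      rw [map_sub, hτ, sub_self]
    have h3 : algebraMap E L x = algebraMap E L (algebraMap D E (τ x)) +
        algebraMap E L (x - algebraMap D E (τ x)) := by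
      rw [← map_add]; congr 1; ring
    rw [h3]
    exact h2.isUnit_add_left_of_commute h1 (Commute.all _ _)

end split

section split2

variable {D E : Type u} [CommRing D] [CommRing E] [Algebra D E]

/-- Freeness and rank of a localization. -/
theorem exists_equiv_tensor (p : Ideal D) [p.IsPrime] (Dp : Type u) [CommRing Dp] [Algebra D Dp]
    [IsLocalization.AtPrime Dp p] (L : Type u) [CommRing L] [Algebra E L] [Algebra D L] [Algebra Dp L]
    [IsScalarTower D E L] [IsScalarTower D Dp L]
    [IsLocalization (Algebra.algebraMapSubmonoid E p.primeCompl) L] :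
    Nonempty (Dp ⊗[D] E ≃ₐ[Dp] L) := by
  haveI : Algebra.IsPushout D E Dp L := Algebra.isPushout_of_isLocalization p.primeCompl Dp E L
  haveI : Algebra.IsPushout D Dp E L := Algebra.IsPushout.symm inferInstance
  exact ⟨Algebra.IsPushout.equiv D Dp E L⟩

theorem length_of_ringEquiv {A B : Type u} [CommRing A] [CommRing B] (e : A ≃+* B) :
    Module.length A A = Module.length B B := by
  letI : Algebra A B := e.toRingHom.toAlgebra
  have h1 : Module.length A B = Module.length B B := Module.length_eq_of_surjective e.surjective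
  rw [← h1]
  exact (LinearEquiv.ofBijective (Algebra.linearMap A B) e.bijective).length_eq

/-- A localization of `E` at the complement of a prime of `D`, with its structure over `D_p`. -/
theorem exists_loc (p : Ideal D) [p.IsPrime] (Dp : Type u) [CommRing Dp] [Algebra D Dp]
    [IsLocalization.AtPrime Dp p] :
    ∃ (L : Type u) (_ : CommRing L) (_ : Algebra E L) (_ : Algebra D L) (_ : Algebra Dp L)
      (_ : IsScalarTower D E L) (_ : IsScalarTower D Dp L),
      IsLocalization (Algebra.algebraMapSubmonoid E p.primeCompl) L := by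
  let L := Localization (Algebra.algebraMapSubmonoid E p.primeCompl)
  have hu : ∀ y : p.primeCompl, IsUnit (algebraMap D L y) := fun y => by
    rw [IsScalarTower.algebraMap_apply D E L]
    exact IsLocalization.map_units L (⟨algebraMap D E y, ⟨y, y.2, rfl⟩⟩ :
        Algebra.algebraMapSubmonoid E p.primeCompl)
  letI : Algebra Dp L := (IsLocalization.lift hu : Dp →+* L).toAlgebra
  haveI : IsScalarTower D Dp L := IsScalarTower.of_algebraMap_eq' (IsLocalization.lift_comp hu).symm
  exact ⟨L, inferInstance, inferInstance, inferInstance, inferInstance, inferInstance, inferInstance,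
    inferInstance⟩

theorem length_generic [IsDomain D] [Module.Finite D E]
  (τ : E →+* D) (hτ : ∀ d, τ (algebraMap D E d) = d) (hnil : ∀ x, τ x = 0 → IsNilpotent x)
  (Q : Type u) [CommRing Q] [Algebra E Q]
    [hQ : IsLocalization.AtPrime Q ((⊥ : Ideal D).comap τ)] :
    Module.length Q Q = Module.finrank (FractionRing D) (FractionRing D ⊗[D] E) := by
  set K₀ := FractionRing D
  haveI : IsLocalization.AtPrime K₀ (⊥ : Ideal D) := by
    change IsLocalization (⊥ : Ideal D).primeCompl K₀
    rw [Ideal.primeCompl_bot]
    infer_instance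
  obtain ⟨L, _, _, _, _, _, _, _⟩ := exists_loc (E := E) (⊥ : Ideal D) K₀
  haveI : IsLocalization.AtPrime L ((⊥ : Ideal D).comap τ) := isLocalization_atPrime τ hτ hnil ⊥ L
  obtain ⟨e⟩ := exists_equiv_tensor (⊥ : Ideal D) K₀ (E := E) L
  haveI : IsLocalRing L := IsLocalization.AtPrime.isLocalRing L ((⊥ : Ideal D).comap τ)
  haveI : Module.Finite K₀ L := Module.Finite.equiv e.toLinearEquiv
  have h1 : Function.Surjective (algebraMap K₀ (ResidueField L)) := by
    intro x
    obtain ⟨y, rfl⟩ := residue_surjective x
    obtain ⟨a, ⟨_, d, hd, rfl⟩, rfl⟩ := IsLocalization.exists_mk'_eq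
      (Algebra.algebraMapSubmonoid E (⊥ : Ideal D).primeCompl) y
    refine ⟨IsLocalization.mk' K₀ (τ a) (⟨d, hd⟩ : (⊥ : Ideal D).primeCompl), ?_⟩
    have h2 : residue L (algebraMap E L a) = residue L (algebraMap D L (τ a)) := by
      rw [← sub_eq_zero, ← map_sub, residue_eq_zero_iff, IsScalarTower.algebraMap_apply D E L, ← map_sub]
      have h3 : IsNilpotent (algebraMap E L (a - algebraMap D E (τ a))) := by
        refine IsNilpotent.map (hnil _ ?_) _
        rw [map_sub, hτ, sub_self]
      obtain ⟨n, hn⟩ := h3
      exact Ideal.IsPrime.mem_of_pow_mem inferInstance n (hn ▸ Ideal.zero_mem _)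
    have h4 : IsUnit (residue L (algebraMap D L d)) := by
      refine IsUnit.map _ ?_
      rw [IsScalarTower.algebraMap_apply D E L]
      exact IsLocalization.map_units L (⟨algebraMap D E d, ⟨d, hd, rfl⟩⟩ :
        Algebra.algebraMapSubmonoid E (⊥ : Ideal D).primeCompl)
    refine h4.mul_left_injective ?_
    change algebraMap K₀ (ResidueField L) _ * residue L (algebraMap D L d) =
      residue L _ * residue L (algebraMap D L d)
    have h5 : residue L (algebraMap D L d) = algebraMap K₀ (ResidueField L) (algebraMap D K₀ d) := by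
      rw [IsScalarTower.algebraMap_apply D K₀ L]; rfl
    have h6 : residue L (IsLocalization.mk' L a (⟨algebraMap D E d, ⟨d, hd, rfl⟩⟩ :
        Algebra.algebraMapSubmonoid E (⊥ : Ideal D).primeCompl)) * residue L (algebraMap D L d) =
        residue L (algebraMap E L a) := by
      rw [← map_mul, IsScalarTower.algebraMap_apply D E L]
      congr 1
      exact IsLocalization.mk'_spec L a _
    refine Eq.trans ?_ h6.symm
    rw [h2, h5, ← map_mul]
    have h7 : IsLocalization.mk' K₀ (τ a) (⟨d, hd⟩ : (⊥ : Ideal D).primeCompl) * algebraMap D K₀ d =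
      algebraMap D K₀ (τ a) := IsLocalization.mk'_spec K₀ (τ a) _
    rw [h7]
    change residue L _ = _
    rw [← IsScalarTower.algebraMap_apply D K₀ L]
  have h2 := length_eq_finrank h1
  rw [e.toLinearEquiv.finrank_eq, ← h2]
  exact length_of_ringEquiv (IsLocalization.algEquiv ((⊥ : Ideal D).comap τ).primeCompl Q L).toRingEquiv

end split2

section closed

open RingTheory.Sequence

theorem finrank_of_bijective {k κ V : Type u} [Field k] [Field κ] [Algebra k κ] [AddCommGroup V]
    [Module k V] [Module κ V] [IsScalarTower k κ V] (h : Function.Surjective (algebraMap k κ)) :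
    Module.finrank k V = Module.finrank κ V := by
  haveI : Module.Finite k κ := Module.Finite.of_surjective (Algebra.linearMap k κ) h
  have h1 : Module.finrank k κ = 1 := by
    refine finrank_eq_one (1 : κ) one_ne_zero fun w => ?_
    obtain ⟨c, hc⟩ := h w
    exact ⟨c, by rw [Algebra.smul_def, mul_one, hc]⟩
  rw [← Module.finrank_mul_finrank k κ V, h1, one_mul]

attribute [local instance] Ideal.Quotient.field in
theorem finrank_quot {k B L : Type u} [Field k] [CommRing B] [IsLocalRing B] [CommRing L]
    [Algebra B L] [Algebra k B] [Algebra k L] [IsScalarTower k B L] [Module.Free B L]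
    [Module.Finite B L] (h : Function.Surjective (algebraMap k (B ⧸ maximalIdeal B))) :
    Module.Finite k (L ⧸ (maximalIdeal B).map (algebraMap B L)) ∧
      Module.finrank k (L ⧸ (maximalIdeal B).map (algebraMap B L)) = Module.finrank B L := by
  haveI : Module.Finite k (B ⧸ maximalIdeal B) :=
    Module.Finite.of_surjective (Algebra.linearMap k (B ⧸ maximalIdeal B)) h
  haveI : Module.Finite (B ⧸ maximalIdeal B) (L ⧸ (maximalIdeal B).map (algebraMap B L)) :=
    Module.Finite.of_restrictScalars_finite B _ _
  haveI : IsScalarTower k (B ⧸ maximalIdeal B) (L ⧸ (maximalIdeal B).map (algebraMap B L)) :=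
    IsScalarTower.of_algebraMap_eq fun x => by
      rw [IsScalarTower.algebraMap_apply k B (L ⧸ (maximalIdeal B).map (algebraMap B L)),
        IsScalarTower.algebraMap_apply k B (B ⧸ maximalIdeal B)]
      rfl
  refine ⟨Module.Finite.trans (B ⧸ maximalIdeal B) _, ?_⟩
  rw [← finrank_quotient_map (R := B) (S := L)]
  exact finrank_of_bijective h

variable {k : Type u} [Field k] [IsAlgClosed k] {D E : Type u} [CommRing D] [CommRing E]
  [Algebra D E] [IsDomain D] [Algebra k D] [Algebra k E]
  [IsScalarTower k D E] [Algebra.FiniteType k D] [Module.Finite D E] [Algebra.Smooth k D]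

/-- A closed point at which `E` is free over the regular ring `D`. -/
theorem exists_closed
    (τ : E →+* D) (hτ : ∀ d, τ (algebraMap D E d) = d) (hnil : ∀ x, τ x = 0 → IsNilpotent x) :
    ∃ (P : Ideal E) (_ : P.IsMaximal) (L : Type u) (_ : CommRing L) (_ : IsLocalRing L)
      (_ : Algebra E L) (_ : IsLocalization.AtPrime L P) (_ : Algebra k L) (_ : IsScalarTower k E L)
      (rs : List L), (∀ x ∈ rs, x ∈ maximalIdeal L) ∧ IsWeaklyRegular L rs ∧
        Module.Finite k (L ⧸ Ideal.ofList rs) ∧
        Module.finrank k (L ⧸ Ideal.ofList rs) =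
          Module.finrank (FractionRing D) (FractionRing D ⊗[D] E) := by
  haveI : IsNoetherianRing D := Algebra.FiniteType.isNoetherianRing k D
  haveI : Module.FinitePresentation D E := Module.finitePresentation_of_finite D E
  have hbot : (⟨⊥, inferInstance⟩ : PrimeSpectrum D) ∈ Module.freeLocus D E := by
    haveI : IsLocalization.AtPrime (FractionRing D) (⊥ : Ideal D) := by
      change IsLocalization (⊥ : Ideal D).primeCompl (FractionRing D)
      rw [Ideal.primeCompl_bot]
      infer_instance
    rw [Module.mem_freeLocus_iff_tensor _ (FractionRing D)]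
    infer_instance
  haveI : IsJacobsonRing D := isJacobsonRing_of_finiteType (A := k)
  obtain ⟨m, hm1, hm2⟩ := nonempty_inter_closedPoints (Z := Module.freeLocus D E) ⟨_, hbot⟩
    (Module.isOpen_freeLocus (R := D) (M := E)).isLocallyClosed
  rw [mem_closedPoints_iff, PrimeSpectrum.isClosed_singleton_iff_isMaximal] at hm2
  haveI := hm2
  let Dm := Localization.AtPrime m.asIdeal
  haveI : Algebra.IsSmoothAt k m.asIdeal := by
    have h : m ∈ Algebra.smoothLocus k D := by
      rw [Algebra.smoothLocus_eq_univ]; trivial
    exact h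
  haveI hreg : IsRegularLocalRing Dm := (S2116.result (k := k) m.asIdeal).2 inferInstance
  obtain ⟨L, _, _, _, _, _, _, _⟩ := exists_loc (E := E) m.asIdeal Dm
  haveI hP : IsLocalization.AtPrime L (m.asIdeal.comap τ) := isLocalization_atPrime τ hτ hnil m.asIdeal L
  obtain ⟨e⟩ := exists_equiv_tensor m.asIdeal Dm (E := E) L
  haveI : IsLocalRing L := IsLocalization.AtPrime.isLocalRing L (m.asIdeal.comap τ)
  haveI : Module.Finite Dm L := Module.Finite.equiv e.toLinearEquiv
  haveI : Module.Free Dm (Dm ⊗[D] E) := (Module.mem_freeLocus_iff_tensor m Dm).1 hm1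
  haveI : Module.Free Dm L := Module.Free.of_equiv e.toLinearEquiv
  letI : Algebra k L := ((algebraMap E L).comp (algebraMap k E)).toAlgebra
  haveI : IsScalarTower k E L := IsScalarTower.of_algebraMap_eq' rfl
  haveI : IsScalarTower k D L := IsScalarTower.of_algebraMap_eq fun x => by
    rw [IsScalarTower.algebraMap_apply D E L, ← IsScalarTower.algebraMap_apply k D E]; rfl
  haveI : IsScalarTower k Dm L := IsScalarTower.of_algebraMap_eq fun x => by
    rw [IsScalarTower.algebraMap_apply k D Dm, ← IsScalarTower.algebraMap_apply D Dm L,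
      ← IsScalarTower.algebraMap_apply k D L]
  have hmapmax : (maximalIdeal Dm).map (algebraMap Dm L) ≤ maximalIdeal L := by
    have h1 : (maximalIdeal L).comap (algebraMap Dm L) = maximalIdeal Dm :=
      IsLocalRing.eq_maximalIdeal
        (Ideal.isMaximal_comap_of_isIntegral_of_isMaximal (R := Dm) (maximalIdeal L))
    rw [Ideal.map_le_iff_le_comap, h1]
  -- the residue field
  have hres : Function.Surjective (algebraMap k (ResidueField Dm)) := by
    have h1 := Ideal.bijective_algebraMap_quotient_residueField m.asIdeal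
    letI : Field (D ⧸ m.asIdeal) := Ideal.Quotient.field _
    haveI : Module.Finite k (D ⧸ m.asIdeal) := finite_of_finite_type_of_isJacobsonRing k (D ⧸ m.asIdeal)
    have h2 : Function.Bijective (algebraMap k (D ⧸ m.asIdeal)) :=
      IsAlgClosed.algebraMap_bijective_of_isIntegral
    have h3 := h1.2.comp h2.2
    intro x
    obtain ⟨y, hy⟩ := h3 x
    refine ⟨y, ?_⟩
    rw [← hy]
    change _ = algebraMap (D ⧸ m.asIdeal) m.asIdeal.ResidueField (algebraMap k (D ⧸ m.asIdeal) y)
    rw [← IsScalarTower.algebraMap_apply k (D ⧸ m.asIdeal) m.asIdeal.ResidueField]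
  have hτs : Function.Surjective τ := fun d => ⟨algebraMap D E d, hτ d⟩
  have hmax : (m.asIdeal.comap τ).IsMaximal := Ideal.comap_isMaximal_of_surjective τ hτs
  obtain ⟨rs, hrs, hrs'⟩ := Models.TorRel.exists_regular_system Dm
  refine ⟨m.asIdeal.comap τ, hmax, L, inferInstance, inferInstance, inferInstance, hP, inferInstance,
    inferInstance, rs.map (algebraMap Dm L), ?_, ?_, ?_, ?_⟩
  · intro x hx
    obtain ⟨y, hy, rfl⟩ := List.mem_map.1 hx
    refine hmapmax (Ideal.mem_map_of_mem _ ?_)
    rw [← hrs]
    exact Ideal.subset_span hy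
  · exact hrs'.toIsWeaklyRegular.of_flat
  all_goals have h1 : Ideal.ofList (rs.map (algebraMap Dm L)) =
    (maximalIdeal Dm).map (algebraMap Dm L) := by rw [← hrs, Ideal.map_ofList]
  all_goals rw [h1]
  · exact (finrank_quot hres).1
  · rw [(finrank_quot hres).2, ← e.toLinearEquiv.finrank_eq]
    let K₀ := FractionRing D
    have hu : ∀ y : m.asIdeal.primeCompl, IsUnit (algebraMap D K₀ y) := fun y =>
      (IsLocalization.map_units K₀ (⟨y, m.asIdeal.primeCompl_le_nonZeroDivisors y.2⟩ : nonZeroDivisors D))
    letI : Algebra Dm K₀ := (IsLocalization.lift hu : Dm →+* K₀).toAlgebra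
    haveI : IsScalarTower D Dm K₀ :=
      IsScalarTower.of_algebraMap_eq' (IsLocalization.lift_comp hu).symm
    rw [← (TensorProduct.AlgebraTensorModule.cancelBaseChange D Dm K₀ K₀ E).finrank_eq]
    exact (Module.finrank_baseChange (R := K₀) (S := Dm) (M' := Dm ⊗[D] E)).symm

end closed

section minimal

open RingTheory.Sequence

theorem exists_kill {S : Type u} [CommRing S] [IsNoetherianRing S] (q : Ideal S) [q.IsPrime]
    (hq : q ∈ minimalPrimes S) : ∃ (n : ℕ) (s : S), s ∉ q ∧ ∀ x ∈ q ^ n, s * x = 0 := by
  let A := Localization.AtPrime q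
  have h1 := IsLocalization.AtPrime.radical_map_of_mem_minimalPrimes (A := A) q ⊥ hq
  rw [Ideal.map_bot] at h1
  have h2 : IsNilpotent (q.map (algebraMap S A)) := by
    rw [← h1]
    exact IsNoetherianRing.isNilpotent_nilradical A
  obtain ⟨n, hn⟩ := h2
  rw [← Ideal.map_pow] at hn
  obtain ⟨G, hG⟩ := (IsNoetherian.noetherian (q ^ n) : (q ^ n).FG)
  have h3 : ∀ x ∈ G, ∃ s : S, s ∉ q ∧ s * x = 0 := by
    intro x hx
    have h4 : algebraMap S A x = 0 := by
      have : algebraMap S A x ∈ (q ^ n).map (algebraMap S A) :=
        Ideal.mem_map_of_mem _ (hG ▸ Submodule.subset_span hx)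
      rw [hn] at this
      exact this
    rw [IsLocalization.map_eq_zero_iff q.primeCompl] at h4
    obtain ⟨s, hs⟩ := h4
    exact ⟨s, s.2, hs⟩
  choose! f hf1 hf2 using h3
  refine ⟨n, ∏ x ∈ G, f x, ?_, ?_⟩
  · intro h
    obtain ⟨x, hx, hx'⟩ := (Ideal.IsPrime.prod_mem_iff (hp := ‹q.IsPrime›)).1 h
    exact hf1 x hx hx'
  · intro x hx
    rw [← hG] at hx
    induction hx using Submodule.span_induction with
    | mem x hx =>
      obtain ⟨c, hc⟩ := Finset.dvd_prod_of_mem f hx
      rw [hc, mul_right_comm, hf2 x hx, zero_mul]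
    | zero => rw [mul_zero]
    | add x y _ _ hx hy => rw [mul_add, hx, hy, add_zero]
    | smul a x _ hx => rw [smul_eq_mul, mul_left_comm, hx, mul_zero]

theorem exists_closed₂ {k D E : Type u} [Field k] [IsAlgClosed k] [CommRing D] [CommRing E]
    [IsDomain D] [Algebra k D] [Algebra k E] [Algebra.FiniteType k E] [Algebra.FormallySmooth k D]
    (τ : E →ₐ[k] D) (hτ : Function.Surjective τ) (hnil : IsNilpotent (RingHom.ker (τ : E →+* D))) :
    ∃ (r : ℕ) (P : Ideal E) (_ : P.IsMaximal) (L : Type u) (_ : CommRing L) (_ : IsLocalRing L)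
      (_ : Algebra E L) (_ : IsLocalization.AtPrime L P) (_ : Algebra k L) (_ : IsScalarTower k E L)
      (rs : List L), (∀ x ∈ rs, x ∈ maximalIdeal L) ∧ IsWeaklyRegular L rs ∧
        Module.Finite k (L ⧸ Ideal.ofList rs) ∧
        Module.finrank k (L ⧸ Ideal.ofList rs) = r ∧
        ∀ (q : Ideal E) [q.IsPrime] (_ : q = RingHom.ker (τ : E →+* D)) (Q : Type u) [CommRing Q]
          [Algebra E Q] [IsLocalization.AtPrime Q q], Module.length Q Q = r := by
  haveI : IsNoetherianRing E := Algebra.FiniteType.isNoetherianRing k E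
  haveI : Algebra.FiniteType k D := Algebra.FiniteType.of_surjective τ hτ
  haveI : Algebra.FinitePresentation k D := Algebra.FinitePresentation.of_finiteType.mp inferInstance
  haveI : Algebra.Smooth k D := {}
  let σ : D →ₐ[k] E := Algebra.FormallySmooth.liftOfSurjective (AlgHom.id k D) τ hτ hnil
  have hσ : ∀ d, τ (σ d) = d := fun d =>
    Algebra.FormallySmooth.liftOfSurjective_apply (AlgHom.id k D) τ hτ hnil d
  letI : Algebra D E := σ.toRingHom.toAlgebra
  haveI : IsScalarTower k D E := IsScalarTower.of_algebraMap_eq fun x => (σ.commutes x).symm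
  let τ' : E →ₐ[D] D := { (τ : E →+* D) with commutes' := hσ }
  have hnil' : RingHom.ker τ' ≤ nilradical E := by
    intro x hx
    obtain ⟨n, hn⟩ := hnil
    exact ⟨n, by
      have h1 : x ^ n ∈ (RingHom.ker (τ : E →+* D)) ^ n := Ideal.pow_mem_pow hx n
      rw [hn] at h1
      exact h1⟩
  haveI : Module.Finite D E :=
    Module.finite_of_surjective_of_ker_le_nilradical τ' hτ hnil' (IsNoetherian.noetherian _)
  obtain ⟨P, h1, L, h2, h3, h4, h5, h6, h7, rs, h8, h9, h10, h11⟩ :=
    exists_closed (k := k) (τ : E →+* D) hσ (fun x hx => hnil' hx)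
  refine ⟨_, P, h1, L, h2, h3, h4, h5, h6, h7, rs, h8, h9, h10, h11, ?_⟩
  intro q _ hq Q _ _ _
  haveI : ((⊥ : Ideal D).comap (τ : E →+* D)).IsPrime := inferInstance
  haveI : IsLocalization.AtPrime Q ((⊥ : Ideal D).comap (τ : E →+* D)) := by
    convert (inferInstance : IsLocalization.AtPrime Q q) using 1
    exact hq.symm
  exact length_generic (τ : E →+* D) hσ (fun x hx => hnil' hx) Q

end minimal

section point

open RingTheory.Sequence

variable {k : Type u} [Field k] [IsAlgClosed k] {S : Type u} [CommRing S] [Algebra k S]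
  [Algebra.FiniteType k S]

theorem exists_point_aux (q : Ideal S) [q.IsPrime] (g s : S) (hgq : g * s ∉ q)
    (hg : Algebra.Smooth k (Localization.Away (Ideal.Quotient.mk q g)))
    (n : ℕ) (hs' : ∀ x ∈ q ^ n, s * x = 0)
    (E : Type u) [CommRing E] [Algebra S E] [Algebra k E] [IsScalarTower k S E]
    [IsLocalization.Away (g * s) E] :
    ∃ (r : ℕ) (P : Ideal S) (_ : P.IsMaximal) (L : Type u) (_ : CommRing L) (_ : IsLocalRing L)
      (_ : Algebra S L) (_ : IsLocalization.AtPrime L P) (_ : Algebra k L) (_ : IsScalarTower k S L)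
      (rs : List L), (∀ x ∈ rs, x ∈ maximalIdeal L) ∧ IsWeaklyRegular L rs ∧
        Module.Finite k (L ⧸ Ideal.ofList rs) ∧
        Module.finrank k (L ⧸ Ideal.ofList rs) = r ∧
        Module.length (Localization.AtPrime q) (Localization.AtPrime q) = r := by
  haveI : IsNoetherianRing S := Algebra.FiniteType.isNoetherianRing k S
  haveI : Algebra.FiniteType k (S ⧸ q) := Algebra.FiniteType.of_surjective (Ideal.Quotient.mkₐ k q)
    Ideal.Quotient.mk_surjective
  haveI : Algebra.FinitePresentation k (S ⧸ q) := Algebra.FinitePresentation.of_finiteType.mp inferInstance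
  let I : Ideal E := q.map (algebraMap S E)
  have hdisj : Disjoint (Submonoid.powers (g * s) : Set S) (q : Set S) := by
    rw [Set.disjoint_left]
    rintro _ ⟨m, rfl⟩ h
    exact hgq (Ideal.IsPrime.mem_of_pow_mem ‹_› m h)
  haveI hIp : I.IsPrime :=
    IsLocalization.isPrime_of_isPrime_disjoint (Submonoid.powers (g * s)) E q ‹_› hdisj
  have hcomap : I.comap (algebraMap S E) = q :=
    IsLocalization.under_map_of_isPrime_disjoint (Submonoid.powers (g * s)) E ‹q.IsPrime› hdisj
  have hInil : IsNilpotent I := by
    refine ⟨n, ?_⟩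
    change (q.map (algebraMap S E)) ^ n = ⊥
    rw [← Ideal.map_pow, Ideal.map_eq_bot_iff_le_ker]
    intro x hx
    rw [RingHom.mem_ker, IsLocalization.map_eq_zero_iff (Submonoid.powers (g * s))]
    refine ⟨⟨g * s, Submonoid.mem_powers (g * s)⟩, ?_⟩
    change g * s * x = 0
    rw [mul_assoc, hs' x hx, mul_zero]
  -- the quotient
  let D := E ⧸ I
  haveI : IsDomain D := Ideal.Quotient.isDomain I
  letI : Algebra (S ⧸ q) D := (Ideal.quotientMap I (algebraMap S E) (Ideal.map_le_iff_le_comap.1 le_rfl)).toAlgebra
  haveI hloc : IsLocalization.Away (Ideal.Quotient.mk q (g * s)) D := by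
    have h1 := IsLocalization.of_surjective (Submonoid.powers (g * s)) E (S' := D) (Ideal.Quotient.mk q)
      Ideal.Quotient.mk_surjective (Ideal.Quotient.mk I) Ideal.Quotient.mk_surjective (by
        ext x; rfl) (by rw [Ideal.mk_ker, Ideal.mk_ker])
    rw [Submonoid.map_powers] at h1
    exact h1
  haveI : IsScalarTower k (S ⧸ q) D := IsScalarTower.of_algebraMap_eq fun x => by
    change Ideal.Quotient.mk I (algebraMap k E x) = Ideal.Quotient.mk I (algebraMap S E (algebraMap k S x))
    rw [← IsScalarTower.algebraMap_apply]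
  haveI hfs : Algebra.FormallySmooth k D := by
    have h1 : (PrimeSpectrum.basicOpen (Ideal.Quotient.mk q (g * s)) : Set (PrimeSpectrum (S ⧸ q))) ⊆
        Algebra.smoothLocus k (S ⧸ q) := by
      refine Set.Subset.trans ?_ ((Algebra.basicOpen_subset_smoothLocus_iff_smooth (R := k)).2 hg)
      rw [map_mul]
      exact PrimeSpectrum.basicOpen_mul_le_left _ _
    rw [Algebra.basicOpen_subset_smoothLocus_iff] at h1
    let e : Localization.Away (Ideal.Quotient.mk q (g * s)) ≃ₐ[S ⧸ q] D :=
      IsLocalization.algEquiv (Submonoid.powers (Ideal.Quotient.mk q (g * s))) _ _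
    exact Algebra.FormallySmooth.of_equiv (e.restrictScalars k)
  haveI : Algebra.FiniteType k E := by
    haveI : Algebra.FiniteType S E := IsLocalization.finiteType_of_monoid_fg (Submonoid.powers (g * s)) E
    exact Algebra.FiniteType.trans (S := S) inferInstance inferInstance
  obtain ⟨r, P, h1, L, h2, h3, h4, h5, h6, h7, rs, h8, h9, h10, h11, h12⟩ :=
    exists_closed₂ (k := k) (Ideal.Quotient.mkₐ k I) Ideal.Quotient.mk_surjective (by
      change IsNilpotent (RingHom.ker (Ideal.Quotient.mk I))
      rw [Ideal.mk_ker]; exact hInil)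
  letI : Algebra S L := ((algebraMap E L).comp (algebraMap S E)).toAlgebra
  haveI : IsScalarTower S E L := IsScalarTower.of_algebraMap_eq' rfl
  haveI : IsScalarTower k S L := IsScalarTower.of_algebraMap_eq fun x => by
    rw [IsScalarTower.algebraMap_apply k E L, IsScalarTower.algebraMap_apply S E L,
      ← IsScalarTower.algebraMap_apply k S E]
  haveI : IsJacobsonRing S := isJacobsonRing_of_finiteType (A := k)
  have hmax : (P.comap (algebraMap S E)).IsMaximal :=
    ((IsLocalization.isMaximal_iff_isMaximal_disjoint E (g * s) P).1 h1).1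
  refine ⟨r, P.comap (algebraMap S E), hmax, L, h2, h3, inferInstance, ?_, h6, inferInstance, rs, h8, h9,
    h10, h11, ?_⟩
  · exact IsLocalization.isLocalization_isLocalization_atPrime_isLocalization
      (Submonoid.powers (g * s)) L P
  · let Q := Localization.AtPrime I
    have h13 := h12 I (by change I = RingHom.ker (Ideal.Quotient.mk I); rw [Ideal.mk_ker]) Q
    rw [← h13]
    have h14 : IsLocalization.AtPrime Q (I.comap (algebraMap S E)) :=
      IsLocalization.isLocalization_isLocalization_atPrime_isLocalization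
        (Submonoid.powers (g * s)) Q I
    have h15 : IsLocalization.AtPrime Q q := by
      convert h14 using 1
      exact hcomap.symm
    exact length_of_ringEquiv (IsLocalization.algEquiv q.primeCompl (Localization.AtPrime q) Q).toRingEquiv

theorem exists_point (q : Ideal S) [q.IsPrime] (hq : q ∈ minimalPrimes S) :
    ∃ (r : ℕ) (P : Ideal S) (_ : P.IsMaximal) (L : Type u) (_ : CommRing L) (_ : IsLocalRing L)
      (_ : Algebra S L) (_ : IsLocalization.AtPrime L P) (_ : Algebra k L) (_ : IsScalarTower k S L)
      (rs : List L), (∀ x ∈ rs, x ∈ maximalIdeal L) ∧ IsWeaklyRegular L rs ∧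
        Module.Finite k (L ⧸ Ideal.ofList rs) ∧
        Module.finrank k (L ⧸ Ideal.ofList rs) = r ∧
        Module.length (Localization.AtPrime q) (Localization.AtPrime q) = r := by
  haveI : IsNoetherianRing S := Algebra.FiniteType.isNoetherianRing k S
  obtain ⟨n, s, hs, hs'⟩ := exists_kill q hq
  haveI : Algebra.FiniteType k (S ⧸ q) := Algebra.FiniteType.of_surjective (Ideal.Quotient.mkₐ k q)
    Ideal.Quotient.mk_surjective
  obtain ⟨g₀, hg₀, hsm⟩ := FlatB.GenFibRed.exists_nonZeroDivisor_smooth k (S ⧸ q)
  obtain ⟨g₁, rfl⟩ := Ideal.Quotient.mk_surjective g₀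
  have hg₁ : g₁ ∉ q := fun h => by
    rw [← Ideal.Quotient.eq_zero_iff_mem] at h
    rw [h] at hg₀
    exact zero_notMem_nonZeroDivisors hg₀
  have hgq : g₁ * s ∉ q := fun h => (Ideal.IsPrime.mem_or_mem ‹_› h).elim hg₁ hs
  exact exists_point_aux q g₁ s hgq hsm n hs' (Localization.Away (g₁ * s))

end point

section swap

open RingTheory.Sequence

theorem regular_swap {A L : Type u} [CommRing A] [IsLocalRing A] [IsNoetherianRing A] (π : A)
    (hπ : π ∈ maximalIdeal A) (hreg : IsSMulRegular A π) [CommRing L] [Algebra A L]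
    (hsurj : Function.Surjective (algebraMap A L))
    (hker : RingHom.ker (algebraMap A L) = Ideal.span {π}) (rs : List A)
    (hrs : ∀ x ∈ rs, x ∈ maximalIdeal A) (h : IsWeaklyRegular L (rs.map (algebraMap A L))) :
    IsSMulRegular (A ⧸ Ideal.ofList rs) π := by
  have h1 : IsWeaklyRegular L rs := (isWeaklyRegular_map_algebraMap_iff L L rs).1 h
  have h2 : IsWeaklyRegular (QuotSMulTop π A) rs := by
    let e : QuotSMulTop π A ≃ₗ[A] L :=
      (Submodule.quotEquivOfEq _ _ (by
        ext x
        rw [LinearMap.mem_ker, Submodule.mem_smul_pointwise_iff_exists]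
        change _ ↔ algebraMap A L x = 0
        rw [← RingHom.mem_ker, hker, Ideal.mem_span_singleton']
        constructor
        · rintro ⟨y, -, rfl⟩; exact ⟨y, mul_comm _ _⟩
        · rintro ⟨y, rfl⟩; exact ⟨y, trivial, mul_comm _ _⟩)).trans
      ((Algebra.linearMap A L).quotKerEquivOfSurjective hsurj)
    exact (e.isWeaklyRegular_congr rs).2 h1
  have h3 : IsWeaklyRegular A (π :: rs) := (isWeaklyRegular_cons_iff A π rs).2 ⟨hreg, h2⟩
  have h4 : IsWeaklyRegular A (rs ++ [π]) := by
    refine h3.of_perm_of_subset_jacobson_annihilator (List.perm_append_singleton π rs).symm ?_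
    intro x hx
    have hx' : x ∈ maximalIdeal A := by
      rcases List.mem_cons.1 hx with rfl | hx
      · exact hπ
      · exact hrs x hx
    exact IsLocalRing.maximalIdeal_le_jacobson _ hx'
  rw [isWeaklyRegular_append_iff] at h4
  have h5 := h4.2
  rw [isWeaklyRegular_singleton_iff] at h5
  have e2 : (A ⧸ (Ideal.ofList rs • ⊤ : Submodule A A)) ≃ₗ[A] (A ⧸ Ideal.ofList rs) :=
    Submodule.quotEquivOfEq _ _ (by rw [smul_eq_mul, Ideal.mul_top])
  exact (e2.isSMulRegular_congr π).1 h5

end swap

section core

open RingTheory.Sequence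

attribute [local instance] Ideal.Quotient.field in
theorem length_quot {R B : Type u} [CommRing R] [IsLocalRing R] [CommRing B] [Algebra R B]
    [Module.Free R B] [Module.Finite R B] :
    Module.length R (B ⧸ (maximalIdeal R).map (algebraMap R B)) = Module.finrank R B := by
  haveI : Module.Finite (R ⧸ maximalIdeal R) (B ⧸ (maximalIdeal R).map (algebraMap R B)) :=
    Module.Finite.of_restrictScalars_finite R _ _
  rw [← finrank_quotient_map (R := R) (S := B), ← Module.length_eq_finrank]
  exact Module.length_eq_of_surjective Ideal.Quotient.mk_surjective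

theorem core {R A S : Type u} [CommRing R] [IsDomain R] [IsDiscreteValuationRing R]
    [HenselianLocalRing R] [IsAlgClosed (ResidueField R)] [CommRing A] [Algebra R A]
    [Algebra.FiniteType R A] [Module.Flat R A]
    [CommRing S] [Algebra A S] [Algebra R S] [Algebra (ResidueField R) S] [IsScalarTower R A S]
    [IsScalarTower R (ResidueField R) S] (hsurj : Function.Surjective (algebraMap A S))
    (hker : RingHom.ker (algebraMap A S) = (maximalIdeal R).map (algebraMap R A))
    (q : Ideal S) [q.IsPrime] (hq : q ∈ minimalPrimes S) :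
    ∃ (r : ℕ) (B : Type u) (_ : CommRing B) (_ : Algebra A B) (_ : Algebra R B)
      (_ : IsScalarTower R A B), Module.Free R B ∧ Module.Finite R B ∧ Module.finrank R B = r ∧
      (algebraMap A B).SurjectiveOnStalks ∧
      Module.length (Localization.AtPrime q) (Localization.AtPrime q) = r := by
  obtain ⟨ϖ, hϖ⟩ := IsDiscreteValuationRing.exists_irreducible R
  haveI : IsNoetherianRing A := Algebra.FiniteType.isNoetherianRing R A
  haveI : Algebra.FiniteType R S := Algebra.FiniteType.of_surjective (IsScalarTower.toAlgHom R A S) hsurj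
  haveI : Algebra.FiniteType (ResidueField R) S := Algebra.FiniteType.of_restrictScalars_finiteType R _ _
  obtain ⟨r, P, hP, L, _, _, _, hL, _, _, rs, hrs, hreg, hfin, hrank, hlen⟩ :=
    exists_point (k := ResidueField R) q hq
  let n : Ideal A := P.comap (algebraMap A S)
  haveI hn : n.IsMaximal := Ideal.comap_isMaximal_of_surjective _ hsurj
  let An := Localization.AtPrime n
  letI : Algebra A L := ((algebraMap S L).comp (algebraMap A S)).toAlgebra
  haveI : IsScalarTower A S L := IsScalarTower.of_algebraMap_eq' rfl
  letI : Algebra R L := ((algebraMap A L).comp (algebraMap R A)).toAlgebra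
  haveI : IsScalarTower R A L := IsScalarTower.of_algebraMap_eq' rfl
  haveI : IsScalarTower R (ResidueField R) L := IsScalarTower.of_algebraMap_eq fun x => by
    rw [IsScalarTower.algebraMap_apply (ResidueField R) S L,
      ← IsScalarTower.algebraMap_apply R (ResidueField R) S,
      IsScalarTower.algebraMap_apply R A L, IsScalarTower.algebraMap_apply A S L,
      ← IsScalarTower.algebraMap_apply R A S]
  have hu : ∀ y : n.primeCompl, IsUnit (algebraMap A L y) := fun y => by
    rw [IsScalarTower.algebraMap_apply A S L]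
    exact IsLocalization.map_units L (⟨algebraMap A S y, y.2⟩ : P.primeCompl)
  letI : Algebra An L := (IsLocalization.lift hu : An →+* L).toAlgebra
  haveI : IsScalarTower A An L := IsScalarTower.of_algebraMap_eq' (IsLocalization.lift_comp hu).symm
  haveI : IsScalarTower R An L := IsScalarTower.of_algebraMap_eq fun x => by
    rw [IsScalarTower.algebraMap_apply R A An, ← IsScalarTower.algebraMap_apply A An L,
      ← IsScalarTower.algebraMap_apply R A L]
  have hsurj' : Function.Surjective (algebraMap An L) := by
    intro x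
    obtain ⟨s, ⟨t, ht⟩, rfl⟩ := IsLocalization.exists_mk'_eq P.primeCompl x
    obtain ⟨a, rfl⟩ := hsurj s
    obtain ⟨b, rfl⟩ := hsurj t
    refine ⟨IsLocalization.mk' An a (⟨b, ht⟩ : n.primeCompl), ?_⟩
    rw [eq_comm, IsLocalization.mk'_eq_iff_eq_mul]
    change algebraMap S L (algebraMap A S a) = _ * algebraMap S L (algebraMap A S b)
    rw [← IsScalarTower.algebraMap_apply A S L, ← IsScalarTower.algebraMap_apply A S L,
      IsScalarTower.algebraMap_apply A An L, IsScalarTower.algebraMap_apply A An L, ← map_mul]
    congr 1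
    exact (IsLocalization.mk'_spec An a (⟨b, ht⟩ : n.primeCompl)).symm
  have hkerA : ∀ a : A, algebraMap A S a = 0 → ∃ c : A, a = c * algebraMap R A ϖ := by
    intro a ha
    have h1 : a ∈ RingHom.ker (algebraMap A S) := ha
    rw [hker, hϖ.maximalIdeal_eq, Ideal.map_span, Set.image_singleton, Ideal.mem_span_singleton'] at h1
    obtain ⟨c, hc⟩ := h1
    exact ⟨c, hc.symm⟩
  have hϖ0 : algebraMap A S (algebraMap R A ϖ) = 0 := by
    change algebraMap R A ϖ ∈ RingHom.ker (algebraMap A S)
    rw [hker]
    exact Ideal.mem_map_of_mem _ hϖ.not_isUnit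
  set π : An := algebraMap R An ϖ with hπ
  have hπ0 : algebraMap An L π = 0 := by
    rw [hπ, IsScalarTower.algebraMap_apply R A An, ← IsScalarTower.algebraMap_apply A An L,
      IsScalarTower.algebraMap_apply A S L, hϖ0, map_zero]
  have hker' : RingHom.ker (algebraMap An L) = Ideal.span {π} := by
    refine le_antisymm ?_ ?_
    · intro x hx
      obtain ⟨a, ⟨b, hb⟩, rfl⟩ := IsLocalization.exists_mk'_eq n.primeCompl x
      have h1 : algebraMap A L a = 0 := by
        have h2 : algebraMap An L (IsLocalization.mk' An a (⟨b, hb⟩ : n.primeCompl)) = 0 := hx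
        have h3 := congrArg (algebraMap An L) (IsLocalization.mk'_spec An a (⟨b, hb⟩ : n.primeCompl))
        rw [map_mul, h2, zero_mul] at h3
        rw [IsScalarTower.algebraMap_apply A An L]
        exact h3.symm
      rw [IsScalarTower.algebraMap_apply A S L, IsLocalization.map_eq_zero_iff P.primeCompl] at h1
      obtain ⟨⟨t, ht⟩, h1⟩ := h1
      obtain ⟨c, rfl⟩ := hsurj t
      rw [← map_mul] at h1
      obtain ⟨d, hd⟩ := hkerA _ h1
      have hc : IsUnit (algebraMap A An c) :=
        IsLocalization.map_units An (⟨c, ht⟩ : n.primeCompl)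
      have hbu : IsUnit (algebraMap A An b) :=
        IsLocalization.map_units An (⟨b, hb⟩ : n.primeCompl)
      have h5 : algebraMap A An c * algebraMap A An b * IsLocalization.mk' An a (⟨b, hb⟩ : n.primeCompl)
          = algebraMap A An d * π := by
        rw [hπ, IsScalarTower.algebraMap_apply R A An, ← map_mul (algebraMap A An) d, ← hd, map_mul,
          mul_assoc]
        congr 1
        exact IsLocalization.mk'_spec' An a (⟨b, hb⟩ : n.primeCompl)
      rw [← Ideal.unit_mul_mem_iff_mem _ (hc.mul hbu), h5]
      exact Ideal.mul_mem_left _ _ (Ideal.mem_span_singleton_self _)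
    · rw [Ideal.span_singleton_le_iff_mem]
      exact hπ0
  have hloc' : ∀ x : An, algebraMap An L x ∈ maximalIdeal L → x ∈ maximalIdeal An := by
    intro x hx
    by_contra h
    have h1 : IsUnit x := by
      by_contra h2
      exact h h2
    exact hx (h1.map _)
  obtain ⟨rs', hrs'⟩ : ∃ rs' : List An, rs'.map (algebraMap An L) = rs :=
    (List.map_surjective_iff.2 hsurj') rs
  have hrsm : ∀ x ∈ rs', x ∈ maximalIdeal An := by
    intro x hx
    refine hloc' x (hrs _ ?_)
    rw [← hrs']
    exact List.mem_map_of_mem hx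
  have hπm : π ∈ maximalIdeal An := hloc' π (by rw [hπ0]; exact Ideal.zero_mem _)
  haveI : Module.Flat R An := Module.Flat.trans R A An
  have hϖreg : IsSMulRegular R ϖ := fun x y h => mul_left_cancel₀ hϖ.ne_zero h
  have hπreg : IsSMulRegular An π := hϖreg.of_flat
  have hswap := regular_swap π hπm hπreg hsurj' hker' rs' hrsm (by rw [hrs']; exact hreg)
  set J : Ideal An := Ideal.ofList rs' with hJ
  let B := An ⧸ J
  have hB1 : IsSMulRegular B ϖ := by
    intro x y hxy
    refine hswap ?_
    change π • x = π • y
    rw [hπ, algebraMap_smul, algebraMap_smul]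
    exact hxy
  haveI htf : Module.IsTorsionFree R B := by
    refine ⟨fun a ha => ?_⟩
    obtain ⟨m, u, rfl⟩ := IsDiscreteValuationRing.eq_unit_mul_pow_irreducible ha.ne_zero hϖ
    exact (u.isUnit.isSMulRegular B).mul (hB1.pow m)
  -- the closed fibre of B
  have hJmap : J.map (algebraMap An L) = Ideal.ofList rs := by rw [hJ, Ideal.map_ofList, hrs']
  haveI : IsScalarTower R (ResidueField R) (L ⧸ Ideal.ofList rs) := IsScalarTower.of_algebraMap_eq fun x => by
    change Ideal.Quotient.mk _ (algebraMap R L x) = Ideal.Quotient.mk _ (algebraMap (ResidueField R) L _)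
    rw [← IsScalarTower.algebraMap_apply]
  have e : (B ⧸ (maximalIdeal R).map (algebraMap R B)) ≃ₗ[R] (L ⧸ Ideal.ofList rs) := by
    let g : B →ₐ[R] (L ⧸ Ideal.ofList rs) :=
      Ideal.quotientMapₐ (Ideal.ofList rs) (IsScalarTower.toAlgHom R An L)
        (by rw [← Ideal.map_le_iff_le_comap]; exact hJmap.le)
    have hg : ∀ a : An, g (Ideal.Quotient.mk J a) = Ideal.Quotient.mk _ (algebraMap An L a) := fun a => rfl
    have hgs : Function.Surjective g := by
      intro y
      obtain ⟨y, rfl⟩ := Ideal.Quotient.mk_surjective y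
      obtain ⟨a, rfl⟩ := hsurj' y
      exact ⟨Ideal.Quotient.mk J a, hg a⟩
    have hgk : RingHom.ker g = (maximalIdeal R).map (algebraMap R B) := by
      have hBϖ : algebraMap R B ϖ = Ideal.Quotient.mk J π := rfl
      rw [hϖ.maximalIdeal_eq, Ideal.map_span, Set.image_singleton, hBϖ]
      refine le_antisymm ?_ ?_
      · intro b hb
        obtain ⟨a, rfl⟩ := Ideal.Quotient.mk_surjective b
        rw [RingHom.mem_ker, hg, Ideal.Quotient.eq_zero_iff_mem, ← hJmap,
          Ideal.mem_map_iff_of_surjective _ hsurj'] at hb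
        obtain ⟨j, hj, hja⟩ := hb
        have h1 : a - j ∈ RingHom.ker (algebraMap An L) := by
          rw [RingHom.mem_ker, map_sub, hja, sub_self]
        rw [hker', Ideal.mem_span_singleton'] at h1
        obtain ⟨c, hc⟩ := h1
        rw [Ideal.mem_span_singleton']
        refine ⟨Ideal.Quotient.mk J c, ?_⟩
        rw [← map_mul, hc, map_sub, Ideal.Quotient.eq_zero_iff_mem.2 hj, sub_zero]
      · rw [Ideal.span_singleton_le_iff_mem, RingHom.mem_ker, hg, hπ0, map_zero]
    exact ((Ideal.quotientEquivAlgOfEq R hgk.symm).trans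
      (Ideal.quotientKerAlgEquivOfSurjective hgs)).toLinearEquiv
  have hfinB : Module.Finite R (B ⧸ (maximalIdeal R).map (algebraMap R B)) := by
    haveI : Module.Finite R (L ⧸ Ideal.ofList rs) := Module.Finite.trans (ResidueField R) _
    exact Module.Finite.equiv e.symm
  haveI hfinB' : Module.Finite R B := by
    let J₀ : Ideal A := J.comap (algebraMap A An)
    have hJm : J ≤ maximalIdeal An := by
      rw [hJ, Ideal.ofList, Ideal.span_le]
      exact hrsm
    have hJ₀ : J₀ ≤ n := by
      intro a ha
      have h1 : algebraMap A An a ∈ maximalIdeal An := hJm ha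
      exact (IsLocalization.AtPrime.to_map_mem_maximal_iff An n a).1 h1
    let q' : Ideal (A ⧸ J₀) := n.map (Ideal.Quotient.mk J₀)
    haveI hq' : q'.IsPrime := Ideal.isPrime_map_quotientMk_of_isPrime hJ₀
    have hq'n : q'.comap (Ideal.Quotient.mk J₀) = n := by
      rw [Ideal.comap_map_of_surjective' _ Ideal.Quotient.mk_surjective, Ideal.mk_ker]
      exact sup_eq_left.2 hJ₀
    letI : Algebra (A ⧸ J₀) B := (Ideal.quotientMap J (algebraMap A An) le_rfl).toAlgebra
    haveI : IsScalarTower R (A ⧸ J₀) B := IsScalarTower.of_algebraMap_eq fun x => by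
      change Ideal.Quotient.mk J (algebraMap R An x) = Ideal.Quotient.mk J (algebraMap A An (algebraMap R A x))
      rw [← IsScalarTower.algebraMap_apply]
    haveI : IsLocalization.AtPrime B q' := by
      have h1 := IsLocalization.of_surjective n.primeCompl An (S' := B) (Ideal.Quotient.mk J₀)
        Ideal.Quotient.mk_surjective (Ideal.Quotient.mk J) Ideal.Quotient.mk_surjective (by
          ext x; rfl) (by rw [Ideal.mk_ker, Ideal.mk_ker]; exact (IsLocalization.map_under n.primeCompl An J).ge)
      have h2 : n.primeCompl.map (Ideal.Quotient.mk J₀) = q'.primeCompl := by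
        ext x
        constructor
        · rintro ⟨a, ha, rfl⟩ h
          have h3 : a ∈ q'.comap (Ideal.Quotient.mk J₀) := h
          rw [hq'n] at h3
          exact ha h3
        · intro h
          obtain ⟨a, rfl⟩ := Ideal.Quotient.mk_surjective x
          refine ⟨a, fun ha => h ?_, rfl⟩
          exact Ideal.mem_map_of_mem _ ha
      rw [h2] at h1
      exact h1
    have hlies : q'.LiesOver (maximalIdeal R) := by
      refine ⟨?_⟩
      have h1 : (q'.comap (algebraMap R (A ⧸ J₀))).IsPrime := inferInstance
      refine ((IsLocalRing.maximalIdeal.isMaximal R).eq_of_le h1.ne_top ?_)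
      rw [hϖ.maximalIdeal_eq, Ideal.span_singleton_le_iff_mem]
      change Ideal.Quotient.mk J₀ (algebraMap R A ϖ) ∈ q'
      refine Ideal.mem_map_of_mem _ ?_
      change algebraMap A S (algebraMap R A ϖ) ∈ P
      rw [hϖ0]; exact Ideal.zero_mem _
    exact Vancyc.H677.HensFin.finite_of_isLocalization q' hlies B hfinB
  haveI : Module.Free R B := Module.free_of_finite_type_torsion_free'
  refine ⟨r, B, inferInstance, inferInstance, inferInstance, inferInstance, inferInstance,
    inferInstance, ?_, ?_, hlen⟩
  · have h2 := length_quot (R := R) (B := B)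
    have h3 : Module.length R (L ⧸ Ideal.ofList rs) = r := by
      rw [← hrank, ← Module.length_eq_finrank]
      exact Module.length_eq_of_surjective residue_surjective
    rw [e.length_eq, h3] at h2
    exact_mod_cast h2.symm
  · exact (RingHom.surjectiveOnStalks_of_surjective Ideal.Quotient.mk_surjective).comp
      (RingHom.surjectiveOnStalks_of_isLocalization n.primeCompl An)

end core

end K378.IdxAlg
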