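import Groth.Agent.Models.K378.IdxAlg
import Groth.Agent.CycB.FiniteFlat
import Groth.Agent.CycB.FiberStalk
import Groth.Agent.CycB.Push
import Groth.Prelude.Def_Models
import Groth.Prelude.Def_W4c5delpairindexchiIndex

/-!
# The index divides the multiplicities of the special fibre

Geometry for S19920.
-/

set_option autoImplicit false
set_option linter.style.haveILetI false
universe u

open CategoryTheory CategoryTheory.Limits AlgebraicGeometry IsLocalRing
open scoped TensorProduct

namespace K378.IdxGeom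

open Groth.Agent

variable {R : Type u} [CommRing R] [IsDomain R]

/-- The rank of a finite free `R`-algebra whose spectrum maps to `𝒳` bijectively on residue fields
is in the index subgroup of the generic fibre. -/
theorem finrank_mem_index {X 𝒳 : Scheme.{u}} (f : X ⟶ Spec (CommRingCat.of (FractionRing R)))
    [LocallyOfFiniteType f]
    (p : 𝒳 ⟶ Spec (CommRingCat.of R)) (c : X ⟶ 𝒳)
    (hc : IsPullback c f p (Spec.map (CommRingCat.ofHom (algebraMap R (FractionRing R)))))
    (B : Type u) [CommRing B] [Algebra R B] [Module.Finite R B] [Module.Free R B]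
    (b : Spec (CommRingCat.of B) ⟶ 𝒳) [SurjectiveOnStalks b]
    (hb : b ≫ p = Spec.map (CommRingCat.ofHom (algebraMap R B))) :
    (Module.finrank R B : ℤ) ∈ Curv2.indexSubgroup f := by
  let K := FractionRing R
  let F : Spec (CommRingCat.of (K ⊗[R] B)) ⟶ Spec (CommRingCat.of K) :=
    Spec.map (CommRingCat.ofHom (algebraMap K (K ⊗[R] B)))
  let G : Spec (CommRingCat.of (K ⊗[R] B)) ⟶ Spec (CommRingCat.of B) :=
    Spec.map (CommRingCat.ofHom (Algebra.TensorProduct.includeRight : B →ₐ[R] K ⊗[R] B).toRingHom)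
  have hP : IsPullback F G (Spec.map (CommRingCat.ofHom (algebraMap R K)))
      (Spec.map (CommRingCat.ofHom (algebraMap R B))) :=
    isPullback_SpecMap_of_isPushout _ _ _ _ (CommRingCat.isPushout_tensorProduct R K B)
  let h : Spec (CommRingCat.of (K ⊗[R] B)) ⟶ X := hc.lift (G ≫ b) F (by
    rw [Category.assoc, hb]; exact hP.w.symm)
  have hhc : h ≫ c = G ≫ b := hc.lift_fst _ _ _
  have hhf : h ≫ f = F := hc.lift_snd _ _ _
  have hPb : IsPullback h G c b := by
    refine IsPullback.of_right ?_ hhc hc.flip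
    rw [hhf, hb]
    exact hP
  have hs : SurjectiveOnStalks h := MorphismProperty.of_isPullback (P := @SurjectiveOnStalks) hPb.flip inferInstance
  haveI hFfin : IsFinite F := by
    rw [IsFinite.SpecMap_iff]
    exact (RingHom.finite_algebraMap).2 inferInstance
  haveI hFflat : Flat F := by
    rw [Flat.SpecMap_iff]
    exact (RingHom.flat_algebraMap_iff).2 inferInstance
  have hlft : LocallyOfFiniteType h := by
    have : LocallyOfFiniteType (h ≫ f) := by rw [hhf]; infer_instance
    exact locallyOfFiniteType_of_comp h f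
  let y : Spec (CommRingCat.of K) := (⊥ : PrimeSpectrum K)
  have hr : F.finrank y = Module.finrank R B := by
    have h1 : F.finrank y = Module.rankAtStalk (R := K) (K ⊗[R] B) y :=
      Scheme.Hom.finrank_SpecMap_algebraMap K (K ⊗[R] B) y
    rw [h1, Module.rankAtStalk_eq_finrank_of_free]
    exact Module.finrank_baseChange
  rw [← hr, ← CycB.FiniteFlat.finsum_finite_flat F y]
  refine finsum_mem_induction (fun n : ℕ => (n : ℤ) ∈ Curv2.indexSubgroup f) ?_ ?_ ?_
  · rw [Nat.cast_zero]; exact AddSubgroup.zero_mem _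
  · intro a a' ha ha'
    rw [Nat.cast_add]; exact AddSubgroup.add_mem _ ha ha'
  · intro t ht
    rw [Nat.cast_mul, ← nsmul_eq_mul]
    refine AddSubgroup.nsmul_mem _ ?_ _
    have h1 : F.residueDegree t = f.residueDegree (h t) := by
      rw [← hhf, CycB.Push.residueDegree_comp, CycB.FiberStalk.residueDegree_of_surjectiveOnStalks h t, mul_one]
    rw [h1]
    refine AddSubgroup.subset_closure ⟨h t, ?_, rfl⟩
    haveI : JacobsonSpace X := LocallyOfFiniteType.jacobsonSpace f
    haveI : IsArtinianRing (K ⊗[R] B) := IsArtinianRing.of_finite K _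
    have ht' : t ∈ closedPoints (Spec (CommRingCat.of (K ⊗[R] B))) := by
      rw [mem_closedPoints_iff]
      refine (PrimeSpectrum.isClosed_singleton_iff_isMaximal (R := K ⊗[R] B) t).2 ?_
      exact IsArtinianRing.isMaximal_of_isPrime _
    exact h.closePoints_subset_preimage_closedPoints ht'

/-- A chart of the special fibre at a point. -/
theorem exists_chart [IsDiscreteValuationRing R] (𝒳 : Scheme.{u}) (p : 𝒳 ⟶ Spec (CommRingCat.of R))
    (η : ↥(Models.specialFibre R 𝒳 p)) :
    ∃ (A : Type u) (_ : CommRing A) (_ : Algebra R A) (i : Spec (CommRingCat.of A) ⟶ 𝒳)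
      (_ : IsOpenImmersion i) (_ : i ≫ p = Spec.map (CommRingCat.ofHom (algebraMap R A)))
      (j : Spec (CommRingCat.of (A ⊗[R] ResidueField R)) ⟶ Models.specialFibre R 𝒳 p)
      (_ : IsOpenImmersion j) (η' : Spec (CommRingCat.of (A ⊗[R] ResidueField R))), j η' = η := by
  let g := Spec.map (CommRingCat.ofHom (algebraMap R (ResidueField R)))
  let ξ : 𝒳 := (pullback.fst p g) η
  obtain ⟨U, hU, hξ, -⟩ := TopologicalSpace.Opens.isBasis_iff_nbhd.mp 𝒳.isBasis_affineOpens
    (TopologicalSpace.Opens.mem_top ξ)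
  have hU' : IsAffineOpen U := hU
  let φ : CommRingCat.of R ⟶ Γ(𝒳, U) := Spec.preimage (hU'.fromSpec ≫ p)
  have hφ : Spec.map φ = hU'.fromSpec ≫ p := Spec.map_preimage _
  letI : Algebra R Γ(𝒳, U) := φ.hom.toAlgebra
  let i : Spec (CommRingCat.of Γ(𝒳, U)) ⟶ 𝒳 := hU'.fromSpec
  have hi : i ≫ p = Spec.map (CommRingCat.ofHom (algebraMap R Γ(𝒳, U))) := hφ.symm
  let j₀ : pullback (i ≫ p) g ⟶ pullback p g :=
    (pullbackRightPullbackFstIso p g i).inv ≫ pullback.snd i (pullback.fst p g)
  have hj₀ : IsOpenImmersion j₀ := inferInstance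
  let e : Spec (CommRingCat.of (Γ(𝒳, U) ⊗[R] ResidueField R)) ⟶ pullback (i ≫ p) g :=
    (pullbackSpecIso R Γ(𝒳, U) (ResidueField R)).inv ≫ (pullback.congrHom hi rfl).inv
  have hη : η ∈ Set.range j₀ := by
    have h1 : η ∈ Set.range (pullback.snd i (pullback.fst p g)) := by
      rw [IsOpenImmersion.range_pullbackSnd]
      change ξ ∈ Set.range i
      have h2 : Set.range i = (U : Set 𝒳) := hU'.range_fromSpec
      rw [h2]
      exact hξ
    obtain ⟨w, hw⟩ := h1
    refine ⟨(pullbackRightPullbackFstIso p g i).hom w, ?_⟩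
    rw [← hw, ← Scheme.Hom.comp_apply, Iso.hom_inv_id_assoc]
  obtain ⟨z, hz⟩ := hη
  have he : IsIso e := inferInstance
  have hj : IsOpenImmersion (e ≫ j₀) := IsOpenImmersion.comp e j₀
  refine ⟨Γ(𝒳, U), inferInstance, inferInstance, i, inferInstance, hi, e ≫ j₀, hj,
    (inv e) z, ?_⟩
  rw [← hz, ← Scheme.Hom.comp_apply, IsIso.inv_hom_id_assoc]
  rfl

theorem ker_includeLeft (R A : Type u) [CommRing R] [CommRing A] [Algebra R A] [IsLocalRing R] :
    RingHom.ker (algebraMap A (A ⊗[R] ResidueField R)) =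
      (maximalIdeal R).map (algebraMap R A) := by
  have key : ∀ I : Ideal R, RingHom.ker (algebraMap A (A ⊗[R] (R ⧸ I))) = I.map (algebraMap R A) := by
    intro I
    ext a
    rw [RingHom.mem_ker]
    have h1 : algebraMap A (A ⊗[R] (R ⧸ I)) a =
      Algebra.TensorProduct.quotIdealMapEquivTensorQuot A I (Ideal.Quotient.mk _ a) := rfl
    rw [h1, map_eq_zero_iff _ (Algebra.TensorProduct.quotIdealMapEquivTensorQuot A I).injective,
      Ideal.Quotient.eq_zero_iff_mem]
  exact key (maximalIdeal R)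

theorem main [IsDiscreteValuationRing R] [HenselianLocalRing R] (hk : IsAlgClosed (ResidueField R))
    (X : Scheme.{u}) (f : X ⟶ Spec (CommRingCat.of (FractionRing R)))
    (𝒳 : Scheme.{u}) (p : 𝒳 ⟶ Spec (CommRingCat.of R)) (h𝒳 : Models.IsModel R 𝒳 p X f)
    (η : ↥(Models.specialFibre R 𝒳 p)) (hη : ∀ y : ↥(Models.specialFibre R 𝒳 p), y ⤳ η → y = η) :
    ∃ ℓ : ℕ, Module.length ((Models.specialFibre R 𝒳 p).presheaf.stalk η)
      ((Models.specialFibre R 𝒳 p).presheaf.stalk η) = ℓ ∧ (ℓ : ℤ) ∈ Curv2.indexSubgroup f := by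
  obtain ⟨hflat, hft, hqc, c, hc⟩ := h𝒳
  haveI : LocallyOfFiniteType f := MorphismProperty.of_isPullback hc hft
  obtain ⟨A, _, _, i, hi, hip, j, hj, η', rfl⟩ := exists_chart 𝒳 p η
  haveI : Module.Flat R A := by
    have h1 : Flat (i ≫ p) := inferInstance
    rw [hip, Flat.SpecMap_iff] at h1
    exact (RingHom.flat_algebraMap_iff).1 h1
  haveI : Algebra.FiniteType R A := by
    have h1 : LocallyOfFiniteType (i ≫ p) := inferInstance
    rw [hip, HasRingHomProperty.Spec_iff (P := @LocallyOfFiniteType)] at h1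
    exact (RingHom.finiteType_algebraMap).1 h1
  let S := A ⊗[R] ResidueField R
  letI : Algebra (ResidueField R) S := Algebra.TensorProduct.rightAlgebra
  let q : Ideal S := PrimeSpectrum.asIdeal η'
  haveI : q.IsPrime := PrimeSpectrum.isPrime η'
  have hq : q ∈ minimalPrimes S := by
    refine ⟨⟨‹q.IsPrime›, bot_le⟩, ?_⟩
    rintro q' ⟨hq'p, -⟩ hle
    let y' : PrimeSpectrum S := ⟨q', hq'p⟩
    have h1 : y' ⤳ (η' : PrimeSpectrum S) := (PrimeSpectrum.le_iff_specializes _ _).1 hle
    have h2 : j y' ⤳ j η' := h1.map j.continuous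
    have h3 : y' = (η' : PrimeSpectrum S) := j.isOpenEmbedding.injective (hη _ h2)
    exact (congrArg PrimeSpectrum.asIdeal h3).ge
  have hsurj : Function.Surjective (algebraMap A S) :=
    Algebra.TensorProduct.includeLeft_surjective R _ IsLocalRing.residue_surjective
  have hker : RingHom.ker (algebraMap A S) = (maximalIdeal R).map (algebraMap R A) :=
    ker_includeLeft R A
  obtain ⟨r, B, _, _, _, _, hfree, hfin, hr, hsur, hlen⟩ := IdxAlg.core hsurj hker q hq
  refine ⟨r, ?_, ?_⟩
  · rw [← hlen]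
    let e1 : (Models.specialFibre R 𝒳 p).presheaf.stalk (j η') ≃+*
        (Spec (CommRingCat.of S)).presheaf.stalk η' :=
      (asIso (j.stalkMap η')).commRingCatIsoToRingEquiv
    let e2 : (Spec (CommRingCat.of S)).presheaf.stalk η' ≃+* Localization.AtPrime q :=
      (Spec.stalkIso (CommRingCat.of S) η').commRingCatIsoToRingEquiv
    exact IdxAlg.length_of_ringEquiv (e1.trans e2)
  · have h1 : SurjectiveOnStalks (Spec.map (CommRingCat.ofHom (algebraMap A B))) := by
      rw [SurjectiveOnStalks.Spec_iff]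
      exact hsur
    have h2 := finrank_mem_index f p c hc B (Spec.map (CommRingCat.ofHom (algebraMap A B)) ≫ i) (by
      rw [Category.assoc, hip, ← Spec.map_comp, ← CommRingCat.ofHom_comp,
        ← IsScalarTower.algebraMap_eq])
    rw [hr] at h2
    exact h2

end K378.IdxGeom
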