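import Groth.Agent.Models.K378.Types

set_option autoImplicit false

open Finset

/-! The shape of long chains in a Dynkin system and in a numerical type. -/

namespace K378.Dynkin

variable {t : ℕ} {c : Fin t → Fin t → ℝ}

/-- Non-neighbours in a chain are orthogonal. -/
theorem chain_zero (h : Sys c) (hc : ∀ i j : Fin t, j.val = i.val + 1 → c i j ≠ 0)
    (i j : Fin t) (hij : i.val + 1 < j.val) : c i j = 0 := by
  by_contra hne
  have hj := j.isLt
  have hf : ∀ a : Fin (j.val - i.val + 1), i.val + a.val < t := fun a => by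
    have := a.isLt; omega
  refine cycle_fin (t := j.val - i.val + 1) (by omega) _
    (h.comp (fun a => ⟨i.val + a.val, hf a⟩) ?_) ?_ ?_
  · intro a b hab
    have := congrArg Fin.val hab
    simp only at this
    exact Fin.ext (by omega)
  · intro a b hab
    exact hc _ _ (by simp only; omega)
  · intro a b ha hb
    have e1 : (⟨i.val + a.val, hf a⟩ : Fin t) = i := Fin.ext (by simp only; omega)
    have e2 : (⟨i.val + b.val, hf b⟩ : Fin t) = j := Fin.ext (by simp only; omega)
    simp only [e1, e2]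
    exact hne

/-- A chain has at most one double edge. -/
theorem chain_two_double (h : Sys c) (hc : ∀ i j : Fin t, j.val = i.val + 1 → c i j ≠ 0)
    (i i' k k' : Fin t) (hi : i'.val = i.val + 1) (hk : k'.val = k.val + 1) (hik : i.val < k.val)
    (h1 : c i i' = √2) (h2 : c k k' = √2) : False := by
  have hk' := k'.isLt
  have hf : ∀ a : Fin (k.val - i.val + 2), i.val + a.val < t := fun a => by
    have := a.isLt; omega
  refine two_double_fin (t := k.val - i.val + 2) (by omega) _
    (h.comp (fun a => ⟨i.val + a.val, hf a⟩) ?_) ?_ ?_ ?_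
  · intro a b hab
    have := congrArg Fin.val hab
    simp only at this
    exact Fin.ext (by omega)
  · intro a b hab
    exact hc _ _ (by simp only; omega)
  · intro a b ha hb
    have e1 : (⟨i.val + a.val, hf a⟩ : Fin t) = i := Fin.ext (by simp only; omega)
    have e2 : (⟨i.val + b.val, hf b⟩ : Fin t) = i' := Fin.ext (by simp only; omega)
    simp only [e1, e2]
    exact h1
  · intro a b ha hb
    have e1 : (⟨i.val + a.val, hf a⟩ : Fin t) = k := Fin.ext (by simp only; omega)
    have e2 : (⟨i.val + b.val, hf b⟩ : Fin t) = k' := Fin.ext (by simp only; omega)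
    simp only [e1, e2]
    exact h2

/-- The edges of a chain of length at least three are simple or double. -/
theorem chain_one_or (ht : 3 ≤ t) (h : Sys c) (hc : ∀ i j : Fin t, j.val = i.val + 1 → c i j ≠ 0)
    (i j : Fin t) (hij : j.val = i.val + 1) : c i j = 1 ∨ c i j = √2 := by
  have hj := j.isLt
  have n1 : i ≠ j := by intro h; have := congrArg Fin.val h; omega
  by_cases hjt : j.val + 1 < t
  · have n2 : j ≠ ⟨j.val + 1, hjt⟩ := by intro h; have := congrArg Fin.val h; simp only at this; omega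
    have n3 : i ≠ ⟨j.val + 1, hjt⟩ := by intro h; have := congrArg Fin.val h; simp only at this; omega
    exact h.one_or n1 n2 n3 (hc _ _ hij) (hc _ _ rfl)
  · have hi0 : 0 < i.val := by omega
    have n2 : i ≠ ⟨i.val - 1, by omega⟩ := by
      intro h; have := congrArg Fin.val h; simp only at this; omega
    have n3 : j ≠ ⟨i.val - 1, by omega⟩ := by
      intro h; have := congrArg Fin.val h; simp only at this; omega
    rw [h.symm i j]
    refine h.one_or n1.symm n2 n3 (h.ne_symm (hc _ _ hij)) (h.ne_symm (hc _ _ ?_))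
    simp only; omega

/-- A double edge has no two vertices on its left and one on its right. -/
theorem chain_F4 (h : Sys c) (hc : ∀ i j : Fin t, j.val = i.val + 1 → c i j ≠ 0)
    (i j : Fin t) (hij : j.val = i.val + 1) (hi : 2 ≤ i.val) (hj : j.val + 1 < t)
    (h1 : c i j = √2) : False := by
  obtain ⟨a, ha⟩ : ∃ a : Fin t, a.val = i.val - 2 := ⟨⟨i.val - 2, by omega⟩, rfl⟩
  obtain ⟨b, hb⟩ : ∃ b : Fin t, b.val = i.val - 1 := ⟨⟨i.val - 1, by omega⟩, rfl⟩
  obtain ⟨d, hd⟩ : ∃ d : Fin t, d.val = j.val + 1 := ⟨⟨j.val + 1, hj⟩, rfl⟩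
  have ne : ∀ x y : Fin t, x.val ≠ y.val → x ≠ y := fun x y hxy h => hxy (congrArg Fin.val h)
  exact F4t_fin _ (h.comp ![a, b, i, j, d]
    (inj5 (ne _ _ (by omega)) (ne _ _ (by omega)) (ne _ _ (by omega)) (ne _ _ (by omega))
      (ne _ _ (by omega)) (ne _ _ (by omega)) (ne _ _ (by omega)) (ne _ _ (by omega))
      (ne _ _ (by omega)) (ne _ _ (by omega))))
    (hc a b (by omega)) (hc b i (by omega)) h1 (hc j d hd)

/-- A double edge has no two vertices on its right and one on its left. -/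
theorem chain_F4' (h : Sys c) (hc : ∀ i j : Fin t, j.val = i.val + 1 → c i j ≠ 0)
    (i j : Fin t) (hij : j.val = i.val + 1) (hi : 1 ≤ i.val) (hj : j.val + 2 < t)
    (h1 : c i j = √2) : False := by
  obtain ⟨a, ha⟩ : ∃ a : Fin t, a.val = j.val + 2 := ⟨⟨j.val + 2, by omega⟩, rfl⟩
  obtain ⟨b, hb⟩ : ∃ b : Fin t, b.val = j.val + 1 := ⟨⟨j.val + 1, by omega⟩, rfl⟩
  obtain ⟨d, hd⟩ : ∃ d : Fin t, d.val = i.val - 1 := ⟨⟨i.val - 1, by omega⟩, rfl⟩
  have ne : ∀ x y : Fin t, x.val ≠ y.val → x ≠ y := fun x y hxy h => hxy (congrArg Fin.val h)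
  exact F4t_fin _ (h.comp ![a, b, j, i, d]
    (inj5 (ne _ _ (by omega)) (ne _ _ (by omega)) (ne _ _ (by omega)) (ne _ _ (by omega))
      (ne _ _ (by omega)) (ne _ _ (by omega)) (ne _ _ (by omega)) (ne _ _ (by omega))
      (ne _ _ (by omega)) (ne _ _ (by omega))))
    (h.ne_symm (hc b a (by omega))) (h.ne_symm (hc j b (by omega))) ((h.symm _ _).trans h1)
    (h.ne_symm (hc d i (by omega)))

/-- The shape of a chain of at least five vertices. -/
theorem chain_shape (ht : 5 ≤ t) (h : Sys c)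
    (hc : ∀ i j : Fin t, j.val = i.val + 1 → c i j ≠ 0) :
    (∀ i j : Fin t, j.val = i.val + 1 → c i j = 1) ∨
    ((∀ i j : Fin t, j.val = i.val + 1 → j.val + 1 < t → c i j = 1) ∧
      ∀ i j : Fin t, j.val = i.val + 1 → j.val + 1 = t → c i j = √2) ∨
    ((∀ i j : Fin t, j.val = i.val + 1 → 0 < i.val → c i j = 1) ∧
      ∀ i j : Fin t, j.val = i.val + 1 → i.val = 0 → c i j = √2) := by
  by_cases hall : ∀ i j : Fin t, j.val = i.val + 1 → c i j = 1
  · exact Or.inl hall
  right
  push Not at hall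
  obtain ⟨i, i', hi, hne⟩ := hall
  have hd : c i i' = √2 := (chain_one_or (by omega) h hc i i' hi).resolve_left hne
  have others : ∀ k k' : Fin t, k'.val = k.val + 1 → k.val ≠ i.val → c k k' = 1 := by
    intro k k' hk hki
    refine (chain_one_or (by omega) h hc k k' hk).resolve_right fun hk2 => ?_
    rcases lt_or_gt_of_ne hki with hlt | hlt
    · exact chain_two_double h hc k k' i i' hk hi hlt hk2 hd
    · exact chain_two_double h hc i i' k k' hi hk hlt hd hk2
  have hi' := i'.isLt
  by_cases hi0 : i.val = 0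
  · right
    refine ⟨fun k k' hk hk0 => others k k' hk (by omega), fun k k' hk hk0 => ?_⟩
    obtain rfl : k = i := Fin.ext (by omega)
    obtain rfl : k' = i' := Fin.ext (by omega)
    exact hd
  · by_cases hil : i'.val + 1 = t
    · left
      refine ⟨fun k k' hk hk0 => others k k' hk (by omega), fun k k' hk hk0 => ?_⟩
      obtain rfl : k = i := Fin.ext (by omega)
      obtain rfl : k' = i' := Fin.ext (by omega)
      exact hd
    · exfalso
      by_cases hi2 : 2 ≤ i.val
      · exact chain_F4 h hc i i' hi hi2 (by omega) hd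
      · exact chain_F4' h hc i i' hi (by omega) (by omega) hd

end K378.Dynkin

namespace K378.Types

open Groth.Agent.Models.NumBasic K378.Gram K378.Dynkin

variable {n : ℕ} (T : Models.NumericalType n)

/-- The weights are constant along simple edges. -/
theorem w_const (hn : 2 < n) {t : ℕ} (u : Fin t → Fin n) (hu : Function.Injective u)
    (h2 : ∀ j, T.IsMinusTwo (u j)) (s : ℕ)
    (h1 : ∀ i j : Fin t, j.val = i.val + 1 → j.val < s → gram T (u i) (u j) = 1)
    (h0 : 0 < t) (j : ℕ) (hj : j < t) (hs : j < s) :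
    T.w (u ⟨j, hj⟩) = T.w (u ⟨0, h0⟩) := by
  induction j with
  | zero => rfl
  | succ j ih =>
    have := simple_edge T hn (u ⟨j, by omega⟩) (u ⟨j + 1, hj⟩)
      (hu.ne (by simp only [ne_eq, Fin.mk.injEq]; omega)) (h2 _) (h2 _) (h1 _ _ rfl hs)
    rw [this.2.2]
    exact ih (by omega) (by omega)

/-- A chain whose edges are all simple. -/
theorem long_simple (hn : 2 < n) {t : ℕ} (ht : 0 < t) (u : Fin t → Fin n)
    (hu : Function.Injective u) (h2 : ∀ j, T.IsMinusTwo (u j))
    (h1 : ∀ i j : Fin t, j.val = i.val + 1 → gram T (u i) (u j) = 1) :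
    ∃ w : ℤ, (∀ j : Fin t, T.w (u j) = w) ∧
      (∀ j j' : Fin t, j'.val = j.val + 1 → T.a (u j) (u j') = w) := by
  have hw : ∀ j : Fin t, T.w (u j) = T.w (u ⟨0, ht⟩) := fun j =>
    w_const T hn u hu h2 t (fun i j hij _ => h1 i j hij) ht j.val j.isLt j.isLt
  refine ⟨T.w (u ⟨0, ht⟩), hw, fun j j' hj => ?_⟩
  have := simple_edge T hn (u j) (u j') (hu.ne (by intro h; rw [h] at hj; omega)) (h2 _) (h2 _)
    (h1 _ _ hj)
  rw [this.1, hw]

/-- A chain whose last edge is double, the others simple. -/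
theorem long_last (hn : 2 < n) {t : ℕ} (ht : 2 ≤ t) (u : Fin t → Fin n)
    (hu : Function.Injective u) (h2 : ∀ j, T.IsMinusTwo (u j))
    (h1 : ∀ i j : Fin t, j.val = i.val + 1 → j.val + 1 < t → gram T (u i) (u j) = 1)
    (hl : ∀ i j : Fin t, j.val = i.val + 1 → j.val + 1 = t → gram T (u i) (u j) = √2) :
    ∃ w : ℤ, ((∀ j : Fin t, j.val + 1 < t → T.w (u j) = w) ∧
          (∀ j : Fin t, j.val + 1 = t → T.w (u j) = 2 * w) ∧
          (∀ j j' : Fin t, j'.val = j.val + 1 → j'.val + 1 < t → T.a (u j) (u j') = w) ∧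
          (∀ j j' : Fin t, j'.val = j.val + 1 → j'.val + 1 = t → T.a (u j) (u j') = 2 * w)) ∨
        ((∀ j : Fin t, j.val + 1 < t → T.w (u j) = 2 * w) ∧
          (∀ j : Fin t, j.val + 1 = t → T.w (u j) = w) ∧
          (∀ j j' : Fin t, j'.val = j.val + 1 → T.a (u j) (u j') = 2 * w)) := by
  have hw : ∀ j : Fin t, j.val + 1 < t → T.w (u j) = T.w (u ⟨0, by omega⟩) := fun j hj =>
    w_const T hn u hu h2 (t - 1) (fun i j hij hj => h1 i j hij (by omega)) (by omega) j.val
      j.isLt (by omega)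
  have ha : ∀ j j' : Fin t, j'.val = j.val + 1 → j'.val + 1 < t →
      T.a (u j) (u j') = T.w (u ⟨0, by omega⟩) := by
    intro j j' hj hj'
    have := simple_edge T hn (u j) (u j') (hu.ne (by intro h; rw [h] at hj; omega)) (h2 _) (h2 _)
      (h1 _ _ hj hj')
    rw [this.1, hw j (by omega)]
  have hend := double_edge T hn (u ⟨t - 2, by omega⟩) (u ⟨t - 1, by omega⟩)
    (hu.ne (by simp only [ne_eq, Fin.mk.injEq]; omega)) (h2 _) (h2 _)
    (hl _ _ (by simp only; omega) (by simp only; omega))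
  have hw2 := hw ⟨t - 2, by omega⟩ (by simp only; omega)
  have hlast : ∀ j : Fin t, j.val + 1 = t → j = ⟨t - 1, by omega⟩ := fun j hj =>
    Fin.ext (by simp only; omega)
  have hpl : ∀ j : Fin t, j.val + 2 = t → j = ⟨t - 2, by omega⟩ := fun j hj =>
    Fin.ext (by simp only; omega)
  rcases hend with ⟨e1, e2, e3⟩ | ⟨e1, e2, e3⟩
  · refine ⟨T.w (u ⟨t - 1, by omega⟩), Or.inr ⟨fun j hj => ?_, fun j hj => ?_, fun j j' hj => ?_⟩⟩
    · rw [hw j hj, ← hw2, e3]
    · rw [hlast j hj]
    · by_cases hj' : j'.val + 1 = t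
      · rw [hlast j' hj', hpl j (by omega), e1]
      · rw [ha j j' hj (by omega), ← hw2, e3]
  · refine ⟨T.w (u ⟨t - 2, by omega⟩), Or.inl ⟨fun j hj => ?_, fun j hj => ?_, fun j j' hj hj' => ?_,
      fun j j' hj hj' => ?_⟩⟩
    · rw [hw j hj, ← hw2]
    · rw [hlast j hj, e3]
    · rw [ha j j' hj hj', ← hw2]
    · rw [hlast j' hj', hpl j (by omega), e1]

end K378.Types
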