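import Groth.Agent.Models.RMCompl
import Groth.Agent.CurvesB.EtaleCompl
import Groth.Agent.CurvesC.AnUnram
import Groth.Agent.S0566
import Groth.Agent.S0568

/-!
# Normalization of an algebra over a discrete valuation ring with geometrically normal generic fibre

Algebra part of S7331.
-/

set_option autoImplicit false
set_option linter.style.haveILetI false
universe u

open TensorProduct IsLocalRing

namespace K378.NormAlg

open Groth.Agent Groth.Agent.Models.RMAlg Groth.Agent.Models.RMCompl Groth.Agent.Models

section prime

variable {A D : Type*} [CommRing A] [CommRing D] [Algebra A D] (π : A) (H : Approx A D π)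
  (q : Ideal A) (hq : π ∈ q)

include H hq

theorem isPrime_map [q.IsPrime] : (q.map (algebraMap A D)).IsPrime := by
  rw [← Ideal.Quotient.isDomain_iff_prime]
  let e := RingEquiv.ofBijective _ (bijective_quotientMap π H q hq)
  haveI : IsDomain (A ⧸ q) := inferInstance
  exact e.symm.toMulEquiv.isDomain _

theorem comap_map : (q.map (algebraMap A D)).comap (algebraMap A D) = q := by
  refine le_antisymm (fun a ha => ?_) Ideal.le_comap_map
  have h1 := (bijective_quotientMap π H q hq).1
  rw [← Ideal.Quotient.eq_zero_iff_mem]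
  apply h1
  rw [Ideal.quotientMap_mk, map_zero, Ideal.Quotient.eq_zero_iff_mem]
  exact ha

end prime

/-- Completions of the local rings of `A → D`, an isomorphism modulo powers of `π`, at a prime
containing `π`. -/
theorem exists_cpl_equiv {A D L M : Type u} [CommRing A] [CommRing D] [Algebra A D] [Module.Flat A D]
    (π : A) (H : Approx A D π) (q : Ideal A) [q.IsPrime] (hq : π ∈ q)
    [CommRing L] [IsLocalRing L] [Algebra A L] [IsLocalization.AtPrime L q] (Q : Ideal D) [Q.IsPrime]
    (hQ : Q = q.map (algebraMap A D)) [CommRing M] [IsLocalRing M] [Algebra D M]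
    [IsLocalization.AtPrime M Q] :
    Nonempty (AdicCompletion (maximalIdeal L) L ≃+* AdicCompletion (maximalIdeal M) M) := by
  have hcomap : Q.comap (algebraMap A D) = q := by
    rw [hQ]; exact comap_map π H q hq
  letI : Algebra A M := ((algebraMap D M).comp (algebraMap A D)).toAlgebra
  haveI : IsScalarTower A D M := IsScalarTower.of_algebraMap_eq' rfl
  have hunit : ∀ y : q.primeCompl, IsUnit ((algebraMap A M) y) := by
    rintro ⟨y, hy⟩
    rw [IsScalarTower.algebraMap_apply A D M]
    refine IsLocalization.map_units M (⟨algebraMap A D y, fun h => hy ?_⟩ : Q.primeCompl)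
    rw [← hcomap]
    exact h
  letI : Algebra L M := (IsLocalization.lift (M := q.primeCompl) (g := algebraMap A M) hunit).toAlgebra
  haveI : IsScalarTower A L M := IsScalarTower.of_algebraMap_eq (fun x => (IsLocalization.lift_eq _ x).symm)
  haveI : Module.Flat D M := IsLocalization.flat M Q.primeCompl
  haveI : Module.Flat A M := Module.Flat.trans A D M
  haveI : Module.Flat L M := (Module.flat_iff_of_isLocalization (R := A) L q.primeCompl M).mpr inferInstance
  have hmL : (maximalIdeal L).map (algebraMap L M) = maximalIdeal M := by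
    rw [← IsLocalization.AtPrime.map_eq_maximalIdeal q L, Ideal.map_map, ← IsScalarTower.algebraMap_eq,
      IsScalarTower.algebraMap_eq A D M, ← Ideal.map_map, ← hQ]
    exact IsLocalization.AtPrime.map_eq_maximalIdeal Q M
  haveI : IsLocalHom (algebraMap L M) := ((IsLocalRing.local_hom_TFAE _).out 0 2).mpr hmL.le
  -- elements of `D` are congruent to elements of `A`
  have hD : ∀ y : D, ∃ a : A, y - algebraMap A D a ∈ Q := by
    intro y
    obtain ⟨a, z, rfl⟩ := H.surj 1 y
    refine ⟨a, ?_⟩
    rw [add_sub_cancel_left, pow_one, hQ]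
    exact Ideal.mul_mem_right _ _ (Ideal.mem_map_of_mem _ hq)
  have hresL : ∀ b : M, ∃ a : L, b - algebraMap L M a ∈ maximalIdeal M := by
    intro b
    obtain ⟨y, s, rfl⟩ := IsLocalization.exists_mk'_eq Q.primeCompl b
    obtain ⟨a, ha⟩ := hD y
    obtain ⟨t, ht⟩ := hD s
    have htq : t ∈ q.primeCompl := by
      intro h
      apply s.2
      have h1 : algebraMap A D t ∈ Q := by
        rw [hQ]; exact Ideal.mem_map_of_mem _ h
      have := Q.add_mem ht h1
      rwa [sub_add_cancel] at this
    refine ⟨IsLocalization.mk' L a ⟨t, htq⟩, ?_⟩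
    -- multiply by `s`
    have hs : IsUnit (algebraMap D M s) := IsLocalization.map_units M s
    have hmem : ∀ d : D, d ∈ Q → algebraMap D M d ∈ maximalIdeal M := by
      intro d hd
      rw [← IsLocalization.AtPrime.map_eq_maximalIdeal Q M]
      exact Ideal.mem_map_of_mem _ hd
    have h1 : algebraMap D M s * IsLocalization.mk' M y s = algebraMap D M y := by
      rw [mul_comm]; exact IsLocalization.mk'_spec M y s
    have h2 : algebraMap D M (algebraMap A D t) * algebraMap L M (IsLocalization.mk' L a ⟨t, htq⟩) =
        algebraMap D M (algebraMap A D a) := by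
      rw [← IsScalarTower.algebraMap_apply A D M, IsScalarTower.algebraMap_apply A L M, ← map_mul,
        mul_comm, IsLocalization.mk'_spec, ← IsScalarTower.algebraMap_apply A L M,
        ← IsScalarTower.algebraMap_apply A D M]
    have h3 := hmem _ ha
    have h4 := hmem _ ht
    rw [map_sub] at h3 h4
    have h5 : algebraMap D M s * (IsLocalization.mk' M y s -
        algebraMap L M (IsLocalization.mk' L a ⟨t, htq⟩)) ∈ maximalIdeal M := by
      have : algebraMap D M s * (IsLocalization.mk' M y s -
        algebraMap L M (IsLocalization.mk' L a ⟨t, htq⟩)) =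
        (algebraMap D M y - algebraMap D M (algebraMap A D a)) -
          (algebraMap D M s - algebraMap D M (algebraMap A D t)) *
            algebraMap L M (IsLocalization.mk' L a ⟨t, htq⟩) := by
        rw [mul_sub, sub_mul, h1, h2]; ring
      rw [this]
      exact sub_mem h3 (Ideal.mul_mem_right _ _ h4)
    exact (Ideal.unit_mul_mem_iff_mem _ hs).1 h5
  obtain ⟨e, -⟩ := CurvesB.EtaleCompl.exists_completion_ringEquiv_of_flat hmL hresL
  exact ⟨e⟩

section normal

variable {R Rh A : Type u} [CommRing R] [CommRing Rh] [Algebra R Rh] [CommRing A] [Algebra R A]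

/-- Variant of `RMNorm.isNormalRing_tensor`: the normality of the generic fibre is a hypothesis. -/
theorem isNormalRing_tensor [IsNoetherianRing Rh]
    [IsDomain A] [IsIntegrallyClosed A] (ϖ : R)
    (H : Approx A (A ⊗[R] Rh) (algebraMap R A ϖ)) (hϖ : algebraMap R A ϖ ≠ 0)
    (hT : EGA4.IsNormalRing (Localization.Away (algebraMap R A ϖ) ⊗[R] Rh))
    [IsNoetherianRing (Localization.Away (algebraMap R A ϖ) ⊗[R] Rh)] :
    EGA4.IsNormalRing (A ⊗[R] Rh) := by
  let a : A := algebraMap R A ϖ
  let Aa := Localization.Away a
  letI : Algebra (A ⊗[R] Rh) (Aa ⊗[R] Rh) := RMNorm.algAway Rh A a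
  have halg : ∀ z, algebraMap (A ⊗[R] Rh) (Aa ⊗[R] Rh) z =
    Algebra.TensorProduct.map (IsScalarTower.toAlgHom R A Aa) (AlgHom.id R Rh) z := fun z => rfl
  haveI : IsScalarTower A (A ⊗[R] Rh) (Aa ⊗[R] Rh) := IsScalarTower.of_algebraMap_eq (by
    intro x
    rw [halg, Algebra.TensorProduct.algebraMap_apply]
    change _ = Algebra.TensorProduct.map (IsScalarTower.toAlgHom R A Aa) (AlgHom.id R Rh) (x ⊗ₜ 1)
    rw [Algebra.TensorProduct.map_tmul, map_one]
    rfl)
  haveI hloc : IsLocalization (Algebra.algebraMapSubmonoid (A ⊗[R] Rh) (Submonoid.powers a)) (Aa ⊗[R] Rh) :=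
    IsLocalization.tensorProduct_tensorProduct R Rh (Submonoid.powers a) Aa (by
      ext x
      change algebraMap (A ⊗[R] Rh) (Aa ⊗[R] Rh) (1 ⊗ₜ x) = 1 ⊗ₜ x
      rw [halg, Algebra.TensorProduct.map_tmul, map_one, AlgHom.coe_id, id])
  rw [Algebra.algebraMapSubmonoid_powers] at hloc
  haveI : IsLocalization.Away (algebraMap A (A ⊗[R] Rh) a) (Aa ⊗[R] Rh) := hloc
  haveI : IsNoetherianRing (Aa ⊗[R] Rh) := ‹_›
  -- integral closedness
  haveI : IsScalarTower A Aa (Aa ⊗[R] Rh) := inferInstance
  haveI : IsIntegrallyClosedIn (A ⊗[R] Rh) (Aa ⊗[R] Rh) := by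
    refine ⟨injective_algebraMap' H, ?_⟩
    intro y
    constructor
    · intro hy
      refine integrallyClosed' (B := Aa) H ?_ y hy
      intro b hb
      have hle : Submonoid.powers a ≤ nonZeroDivisors A := powers_le_nonZeroDivisors_of_noZeroDivisors hϖ
      letI : Algebra Aa (FractionRing A) := (IsLocalization.lift (M := Submonoid.powers a) (g := algebraMap A (FractionRing A))
        (fun m => IsLocalization.map_units (FractionRing A) ⟨m.1, hle m.2⟩)).toAlgebra
      haveI : IsScalarTower A Aa (FractionRing A) := IsScalarTower.of_algebraMap_eq (fun x =>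
        (IsLocalization.lift_eq _ x).symm)
      have hbK : IsIntegral A (algebraMap Aa (FractionRing A) b) := hb.algebraMap
      obtain ⟨x, hx⟩ := IsIntegrallyClosed.isIntegral_iff.mp hbK
      haveI : IsFractionRing Aa (FractionRing A) :=
        IsFractionRing.isFractionRing_of_isDomain_of_isLocalization (Submonoid.powers a) Aa (FractionRing A)
      refine ⟨x, ?_⟩
      apply IsFractionRing.injective Aa (FractionRing A)
      rw [← IsScalarTower.algebraMap_apply, hx]
    · rintro ⟨x, rfl⟩
      exact isIntegral_algebraMap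
  exact Ega4C.NormIntIn.isNormalRing_of_isIntegrallyClosedIn_noetherian (A ⊗[R] Rh) (Aa ⊗[R] Rh) hT

end normal

section fin

variable {R : Type u} [CommRing R] [IsDomain R] [IsDiscreteValuationRing R]
  {A : Type u} [CommRing A] [IsDomain A] [Algebra R A] [Module.Flat R A] [Algebra.FiniteType R A]

/-- The tensor product with the completion, as an algebra of finite type over the completion. -/
theorem finiteType_cpl {R : Type u} [CommRing R] {Rh : Type u} [CommRing Rh] [Algebra R Rh]
    (A : Type u) [CommRing A] [Algebra R A] [Algebra.FiniteType R A] :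
    letI : Algebra Rh (A ⊗[R] Rh) := Algebra.TensorProduct.rightAlgebra
    Algebra.FiniteType Rh (A ⊗[R] Rh) := by
  letI : Algebra Rh (A ⊗[R] Rh) := Algebra.TensorProduct.rightAlgebra
  have e : Rh ⊗[R] A ≃ₐ[Rh] A ⊗[R] Rh :=
    { (Algebra.TensorProduct.comm R Rh A).toRingEquiv with
      commutes' := fun r => by
        change Algebra.TensorProduct.comm R Rh A (r ⊗ₜ 1) = 1 ⊗ₜ r
        rw [Algebra.TensorProduct.comm_tmul] }
  exact Algebra.FiniteType.equiv inferInstance e

omit [IsDomain A] [Module.Flat R A] in
theorem isNagata_cpl : CAlg.IsNagata (A ⊗[R] AdicCompletion (maximalIdeal R) R) := by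
  haveI : IsNoetherianRing (AdicCompletion (maximalIdeal R) R) := S0543.result R _
  letI : Algebra (AdicCompletion (maximalIdeal R) R) (A ⊗[R] AdicCompletion (maximalIdeal R) R) :=
    Algebra.TensorProduct.rightAlgebra
  haveI := finiteType_cpl (Rh := AdicCompletion (maximalIdeal R) R) (R := R) A
  exact S0566.result (AdicCompletion (maximalIdeal R) R)
    (S0568.result (AdicCompletion (maximalIdeal R) R)) _

omit [IsDomain A] [Module.Flat R A] in
/-- Finiteness of the normalization. -/
theorem finite_integralClosure (B : Type u) [CommRing B] [Algebra R B] [Algebra A B]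
    [IsScalarTower R A B] (hAB : Function.Injective (algebraMap A B))
    (hB : IsReduced (B ⊗[R] AdicCompletion (maximalIdeal R) R))
    (K : Type u) [CommRing K] [Algebra A K] [IsFractionRing A K] :
    Module.Finite A (integralClosure A K) := by
  set Ah := AdicCompletion (IsLocalRing.maximalIdeal R) R with hAh
  haveI : IsNoetherianRing Ah := S0543.result R _
  have hff : Module.FaithfullyFlat R Ah := Module.FaithfullyFlat.of_flat_of_isLocalHom
  let D := A ⊗[R] Ah
  have hNag : CAlg.IsNagata D := isNagata_cpl
  have hred : IsReduced D := by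
    let f : D →+* B ⊗[R] Ah :=
      (Algebra.TensorProduct.map (IsScalarTower.toAlgHom R A B) (AlgHom.id R Ah)).toRingHom
    refine isReduced_of_injective f ?_
    exact Module.Flat.rTensor_preserves_injective_linearMap (M := Ah)
      (IsScalarTower.toAlgHom R A B).toLinearMap hAB
  have hffD : Module.FaithfullyFlat A D := inferInstance
  have hloc : IsLocalization (Algebra.algebraMapSubmonoid D (nonZeroDivisors A)) (D ⊗[A] K) := inferInstance
  have hle : Algebra.algebraMapSubmonoid D (nonZeroDivisors A) ≤ nonZeroDivisors D := by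
    rintro _ ⟨b, hb, rfl⟩
    have h1 : IsSMulRegular A b := (isRegular_iff_mem_nonZeroDivisors.mpr hb).1
    have h2 : IsSMulRegular D (algebraMap A D b) := IsSMulRegular.of_flat h1
    rw [← isRegular_iff_mem_nonZeroDivisors, ← isLeftRegular_iff_isRegular]
    exact h2
  have hfin : Module.Finite D (integralClosure D (D ⊗[A] K)) :=
    CurvesC.AnUnram.finite_integralClosure_of_isNagata D hNag _ hle _
  have hN : IsNoetherianRing D := hNag.1
  have hfin2 : Module.Finite D (D ⊗[A] integralClosure A K) :=
    Module.Finite.of_injective (TensorProduct.toIntegralClosure A D K).toLinearMap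
      TensorProduct.toIntegralClosure_injective_of_flat
  exact Module.Finite.of_finite_tensorProduct_of_faithfullyFlat D

end fin

section main

variable {R : Type u} [CommRing R] [IsDomain R] [IsDiscreteValuationRing R]

/-- A domain containing a discrete valuation ring is flat over it. -/
theorem flat_of_injective {A : Type u} [CommRing A] [IsDomain A] [Algebra R A]
    (h : Function.Injective (algebraMap R A)) : Module.Flat R A := by
  rw [IsDedekindDomain.flat_iff_torsion_eq_bot, eq_bot_iff]
  intro x hx
  obtain ⟨⟨r, hr⟩, hrx⟩ := hx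
  have hrx' : r • x = 0 := hrx
  rw [Algebra.smul_def, mul_eq_zero] at hrx'
  rcases hrx' with h1 | h1
  · exact absurd ((injective_iff_map_eq_zero _).1 h r h1) (nonZeroDivisors.ne_zero hr)
  · rw [h1]; exact Submodule.zero_mem _

theorem isUnit_of_isUnit_uniformizer {ϖ : R} (hϖ : Irreducible ϖ) {S : Type*} [CommRing S]
    (g : R →+* S) (h : IsUnit (g ϖ)) (y : nonZeroDivisors R) : IsUnit (g y) := by
  obtain ⟨k, hk⟩ := IsDiscreteValuationRing.associated_pow_irreducible (nonZeroDivisors.ne_zero y.2) hϖ
  obtain ⟨u, hu⟩ := hk.symm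
  rw [← hu, map_mul, map_pow]
  exact (h.pow k).mul (u.isUnit.map g)

/-- A normal local ring of an algebra of finite type over `R` in which the uniformizer is
invertible has a normal completion. -/
theorem cpl_generic {ϖ : R} (hϖ : Irreducible ϖ) {B' : Type u} [CommRing B'] [Algebra R B']
    [Algebra.FiniteType R B'] (hu : IsUnit (algebraMap R B' ϖ)) (Q : Ideal B') [Q.IsPrime]
    [IsDomain (Localization.AtPrime Q)] [IsIntegrallyClosed (Localization.AtPrime Q)] :
    IsDomain (AdicCompletion (maximalIdeal (Localization.AtPrime Q)) (Localization.AtPrime Q)) ∧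
      IsIntegrallyClosed
        (AdicCompletion (maximalIdeal (Localization.AtPrime Q)) (Localization.AtPrime Q)) := by
  letI : Algebra (FractionRing R) B' :=
    (IsLocalization.lift (M := nonZeroDivisors R) (g := algebraMap R B')
      (isUnit_of_isUnit_uniformizer hϖ _ hu)).toAlgebra
  haveI : IsScalarTower R (FractionRing R) B' := IsScalarTower.of_algebraMap_eq
    (fun x => (IsLocalization.lift_eq _ x).symm)
  haveI : Algebra.FiniteType (FractionRing R) B' :=
    Algebra.FiniteType.of_restrictScalars_finiteType R (FractionRing R) B'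
  haveI : IsAdicComplete (maximalIdeal (FractionRing R)) (FractionRing R) := by
    have : maximalIdeal (FractionRing R) = ⊥ := IsLocalRing.maximalIdeal_eq_bot
    rw [this]
    infer_instance
  exact RMGRing.cpl_of_finiteType (FractionRing R) (D := B') Q

theorem transfer {L M : Type u} [CommRing L] [IsLocalRing L] [CommRing M] [IsLocalRing M]
    (e : AdicCompletion (maximalIdeal L) L ≃+* AdicCompletion (maximalIdeal M) M)
    (h : IsDomain (AdicCompletion (maximalIdeal M) M) ∧
      IsIntegrallyClosed (AdicCompletion (maximalIdeal M) M)) :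
    IsDomain (AdicCompletion (maximalIdeal L) L) ∧
      IsIntegrallyClosed (AdicCompletion (maximalIdeal L) L) := by
  obtain ⟨h1, h2⟩ := h
  exact ⟨e.toMulEquiv.isDomain _, IsIntegrallyClosed.of_equiv e.symm⟩

/-- `A'` integral over `A` with the same fraction field, `A[1/π]` integrally closed:
`A' ⊆ A[1/π]`. -/
theorem exists_pow_mul {A B A' : Type u} [CommRing A] [IsDomain A] [CommRing B] [Algebra A B] (π : A)
    (hπ : π ≠ 0) [IsLocalization.Away π B] [IsIntegrallyClosed B] [CommRing A'] [IsDomain A']
    [Algebra A A'] [Algebra.IsIntegral A A'] (hinj : Function.Injective (algebraMap A A'))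
    (hfrac : ∀ x : A', ∃ s : A, s ≠ 0 ∧ ∃ a : A, algebraMap A A' s * x = algebraMap A A' a)
    (x : A') : ∃ (m : ℕ) (a : A), algebraMap A A' π ^ m * x = algebraMap A A' a := by
  let F := FractionRing A'
  haveI : IsScalarTower A A' F := inferInstance
  have hinjF : Function.Injective (algebraMap A F) := by
    rw [IsScalarTower.algebraMap_eq A A' F]
    exact (IsFractionRing.injective A' F).comp hinj
  have hle : Submonoid.powers π ≤ nonZeroDivisors A := powers_le_nonZeroDivisors_of_noZeroDivisors hπ
  haveI : FaithfulSMul A F := (faithfulSMul_iff_algebraMap_injective A F).2 hinjF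
  haveI hfr : IsFractionRing A F := by
    refine IsFractionRing.of_field A F fun z => ?_
    obtain ⟨y, t, ht, rfl⟩ := IsFractionRing.div_surjective (A := A') z
    obtain ⟨s, hs, a, hsa⟩ := hfrac y
    obtain ⟨s', hs', a', hsa'⟩ := hfrac t
    have ht0 : t ≠ 0 := nonZeroDivisors.ne_zero ht
    have ha' : a' ≠ 0 := by
      rintro rfl
      rw [map_zero, mul_eq_zero] at hsa'
      rcases hsa' with h | h
      · exact hs' ((injective_iff_map_eq_zero _).1 hinj _ h)
      · exact ht0 h
    refine ⟨a * s', s * a', ?_⟩
    have e1 : algebraMap A' F (algebraMap A A' s) * algebraMap A' F y = algebraMap A F a := by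
      rw [← map_mul, hsa, ← IsScalarTower.algebraMap_apply]
    have e2 : algebraMap A' F (algebraMap A A' s') * algebraMap A' F t = algebraMap A F a' := by
      rw [← map_mul, hsa', ← IsScalarTower.algebraMap_apply]
    rw [← IsScalarTower.algebraMap_apply] at e1 e2
    have n1 : algebraMap A F s ≠ 0 := fun h => hs ((injective_iff_map_eq_zero _).1 hinjF _ h)
    have n2 : algebraMap A F s' ≠ 0 := fun h => hs' ((injective_iff_map_eq_zero _).1 hinjF _ h)
    have n3 : algebraMap A F a' ≠ 0 := fun h => ha' ((injective_iff_map_eq_zero _).1 hinjF _ h)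
    have n4 : algebraMap A' F t ≠ 0 := fun h =>
      ht0 ((injective_iff_map_eq_zero _).1 (IsFractionRing.injective A' F) _ h)
    rw [map_mul, map_mul, ← e1, ← e2]
    rw [div_eq_div_iff n4 (mul_ne_zero n1 (mul_ne_zero n2 n4))]
    ring
  letI : Algebra B F := (IsLocalization.lift (M := Submonoid.powers π) (g := algebraMap A F)
    (fun m => IsLocalization.map_units F ⟨m.1, hle m.2⟩)).toAlgebra
  haveI : IsScalarTower A B F := IsScalarTower.of_algebraMap_eq (fun x =>
    (IsLocalization.lift_eq _ x).symm)
  haveI : IsFractionRing B F :=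
    IsFractionRing.isFractionRing_of_isDomain_of_isLocalization (Submonoid.powers π) B F
  have h1 : IsIntegral A (algebraMap A' F x) := (Algebra.IsIntegral.isIntegral (R := A) x).algebraMap
  have h2 : IsIntegral B (algebraMap A' F x) := h1.tower_top
  haveI : IsDomain B := IsLocalization.isDomain_of_le_nonZeroDivisors B hle
  obtain ⟨b, hb⟩ := IsIntegrallyClosed.isIntegral_iff.mp h2
  obtain ⟨m, a, hma⟩ := IsLocalization.Away.surj π b
  refine ⟨m, a, ?_⟩
  apply IsFractionRing.injective A' F
  have h3 := congrArg (algebraMap B F) hma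
  rw [map_mul, map_pow, hb, ← IsScalarTower.algebraMap_apply, ← IsScalarTower.algebraMap_apply] at h3
  rw [map_mul, map_pow, ← IsScalarTower.algebraMap_apply, ← IsScalarTower.algebraMap_apply, ← h3,
    mul_comm]

/-- Main algebraic statement: the completions of the local rings of the normalization of an
`R`-algebra of finite type with normal completed generic fibre are normal domains. -/
theorem cpl_main {ϖ : R} (hϖ : Irreducible ϖ) {A : Type u} [CommRing A] [IsDomain A] [Algebra R A]
    [Module.Flat R A] [Algebra.FiniteType R A]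
    (B : Type u) [CommRing B] [Algebra R B] [Algebra A B] [IsScalarTower R A B]
    [IsLocalization.Away (algebraMap R A ϖ) B] [IsIntegrallyClosed B]
    (hB : EGA4.IsNormalRing (B ⊗[R] AdicCompletion (maximalIdeal R) R))
    {A' : Type u} [CommRing A'] [IsDomain A'] [IsIntegrallyClosed A'] [Algebra A A']
    [Module.Finite A A'] (hinj : Function.Injective (algebraMap A A'))
    (hfrac : ∀ x : A', ∃ s : A, s ≠ 0 ∧ ∃ a : A, algebraMap A A' s * x = algebraMap A A' a)
    (q : Ideal A') [q.IsPrime] (L : Type u) [CommRing L] [IsLocalRing L] [Algebra A' L]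
    [IsLocalization.AtPrime L q] :
    IsDomain (AdicCompletion (maximalIdeal L) L) ∧
      IsIntegrallyClosed (AdicCompletion (maximalIdeal L) L) := by
  set Rh := AdicCompletion (maximalIdeal R) R with hRh
  haveI hRN : IsNoetherianRing Rh := S0543.result R _
  -- `A'` as an `R`-algebra
  letI : Algebra R A' := ((algebraMap A A').comp (algebraMap R A)).toAlgebra
  haveI : IsScalarTower R A A' := IsScalarTower.of_algebraMap_eq' rfl
  have hRA : Function.Injective (algebraMap R A) := FaithfulSMul.algebraMap_injective R A
  have hRA' : Function.Injective (algebraMap R A') := by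
    rw [IsScalarTower.algebraMap_eq R A A']
    exact hinj.comp hRA
  haveI : Module.Flat R A' := flat_of_injective hRA'
  haveI : Algebra.FiniteType R A' := Algebra.FiniteType.trans (S := A) inferInstance inferInstance
  have hϖA : algebraMap R A ϖ ≠ 0 := fun h =>
    hϖ.ne_zero ((injective_iff_map_eq_zero _).1 hRA _ h)
  have hϖA' : algebraMap R A' ϖ ≠ 0 := fun h =>
    hϖ.ne_zero ((injective_iff_map_eq_zero _).1 hRA' _ h)
  have hgen := exists_pow_mul (B := B) (algebraMap R A ϖ) hϖA hinj hfrac
  -- the localization
  let B' := Localization.Away (algebraMap R A' ϖ)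
  haveI : Algebra.FiniteType A' B' := IsLocalization.finiteType_of_monoid_fg (Submonoid.powers (algebraMap R A' ϖ)) B'
  haveI : Algebra.FiniteType R B' := Algebra.FiniteType.trans (S := A') inferInstance inferInstance
  have huA : algebraMap A A' (algebraMap R A ϖ) = algebraMap R A' ϖ :=
    (IsScalarTower.algebraMap_apply R A A' ϖ).symm
  have hle' : Submonoid.powers (algebraMap R A' ϖ) ≤ nonZeroDivisors A' :=
    powers_le_nonZeroDivisors_of_noZeroDivisors hϖA'
  have hu : IsUnit (algebraMap A' B' (algebraMap R A' ϖ)) := IsLocalization.Away.algebraMap_isUnit _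
  haveI : IsScalarTower A A' B' := inferInstance
  have hA'B' : Function.Injective (algebraMap A' B') := IsLocalization.injective B' hle'
  haveI hBl : IsLocalization.Away (algebraMap R A ϖ) B' := by
    refine ⟨?_, ?_, ?_⟩
    · rintro ⟨_, k, rfl⟩
      simp only [map_pow]
      rw [IsScalarTower.algebraMap_apply A A' B', huA]
      exact hu.pow k
    · intro z
      obtain ⟨k, x, hx⟩ := IsLocalization.Away.surj (algebraMap R A' ϖ) z
      obtain ⟨m, a, ha⟩ := hgen x
      refine ⟨(a, ⟨(algebraMap R A ϖ) ^ (k + m), k + m, rfl⟩), ?_⟩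
      simp only
      rw [IsScalarTower.algebraMap_apply A A' B', IsScalarTower.algebraMap_apply A A' B', ← ha,
        map_mul, ← hx, map_pow, map_pow, map_pow, huA, pow_add]
      ring
    · intro x y hxy
      refine ⟨1, ?_⟩
      rw [IsScalarTower.algebraMap_apply A A' B', IsScalarTower.algebraMap_apply A A' B'] at hxy
      rw [hinj (hA'B' hxy)]
  haveI : IsScalarTower R A B' := IsScalarTower.of_algebraMap_eq (fun x => by
    have e1 : algebraMap R A' x = algebraMap A A' (algebraMap R A x) := rfl
    have e2 := IsScalarTower.algebraMap_apply R A' B' x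
    have e3 := IsScalarTower.algebraMap_apply A A' B' (algebraMap R A x)
    exact e2.trans ((congrArg (algebraMap A' B') e1).trans e3.symm))
  let e : B ≃ₐ[R] B' :=
    (IsLocalization.algEquiv (Submonoid.powers (algebraMap R A ϖ)) B B').restrictScalars R
  have hB' : EGA4.IsNormalRing (B' ⊗[R] Rh) :=
    Ega4C.NormUnion.isNormalRing_of_ringEquiv
      (Algebra.TensorProduct.congr e.symm (AlgEquiv.refl (R := R) (A₁ := Rh))).toRingEquiv hB
  haveI : IsNoetherianRing (B' ⊗[R] Rh) := (isNagata_cpl (A := B')).1
  haveI : IsNoetherianRing A' := Algebra.FiniteType.isNoetherianRing R A'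
  by_cases hq : algebraMap R A' ϖ ∈ q
  · -- special fibre
    let D := A' ⊗[R] Rh
    have H0 := approx_self ϖ hϖ
    haveI : Module.Flat R Rh := AdicCompletion.flat_of_isNoetherian _
    have H : Approx A' D (algebraMap R A' ϖ) := H0.tensor (mem_nonZeroDivisors_of_ne_zero hϖ.ne_zero) A'
    have hnorm : EGA4.IsNormalRing D := isNormalRing_tensor ϖ H hϖA' hB'
    haveI : Module.Flat A' D := inferInstance
    let Q : Ideal D := q.map (algebraMap A' D)
    haveI : Q.IsPrime := isPrime_map _ H q hq
    haveI : IsDomain (Localization.AtPrime Q) := (hnorm Q).1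
    haveI : IsIntegrallyClosed (Localization.AtPrime Q) := (hnorm Q).2
    letI : Algebra Rh D := Algebra.TensorProduct.rightAlgebra
    haveI : Algebra.FiniteType Rh D := finiteType_cpl A'
    obtain ⟨ec⟩ := exists_cpl_equiv (L := L) (M := Localization.AtPrime Q) (algebraMap R A' ϖ) H q hq
      Q rfl
    exact transfer ec (RMGRing.cpl_of_finiteType Rh (D := D) Q)
  · -- generic fibre
    have hdisj : Disjoint (Submonoid.powers (algebraMap R A' ϖ) : Set A') (q : Set A') := by
      rw [Set.disjoint_left]
      rintro _ ⟨k, rfl⟩ h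
      exact hq (Ideal.IsPrime.mem_of_pow_mem inferInstance k h)
    let Q : Ideal B' := q.map (algebraMap A' B')
    haveI hQ : Q.IsPrime := IsLocalization.isPrime_of_isPrime_disjoint
      (Submonoid.powers (algebraMap R A' ϖ)) B' q inferInstance hdisj
    have hcomap : Q.comap (algebraMap A' B') = q :=
      IsLocalization.under_map_of_isPrime_disjoint (Submonoid.powers (algebraMap R A' ϖ)) B'
        inferInstance hdisj
    have h1 : IsLocalization.AtPrime (Localization.AtPrime Q) (Q.comap (algebraMap A' B')) :=
      IsLocalization.isLocalization_isLocalization_atPrime_isLocalization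
        (Submonoid.powers (algebraMap R A' ϖ)) _ Q
    haveI h2 : IsLocalization.AtPrime (Localization.AtPrime Q) q := by
      simp only [hcomap] at h1
      exact h1
    let eL : L ≃+* Localization.AtPrime Q :=
      (IsLocalization.algEquiv q.primeCompl L (Localization.AtPrime Q)).toRingEquiv
    haveI : IsDomain (Localization.AtPrime Q) :=
      IsLocalization.isDomain_of_le_nonZeroDivisors (Localization.AtPrime Q)
        (Ideal.primeCompl_le_nonZeroDivisors q)
    haveI : IsIntegrallyClosed (Localization.AtPrime Q) :=
      isIntegrallyClosed_of_isLocalization (Localization.AtPrime Q) q.primeCompl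
        (Ideal.primeCompl_le_nonZeroDivisors q)
    have huR : IsUnit (algebraMap R B' ϖ) := by
      rw [IsScalarTower.algebraMap_apply R A' B']; exact hu
    exact transfer (CurvesB.CplMap.congrLocal eL) (cpl_generic hϖ huR Q)

end main

end K378.NormAlg
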