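import Groth.Agent.Models.K378.Exc

set_option autoImplicit false

open Finset

/-! Shape of branched configurations in a Dynkin system. -/

namespace K378.Dynkin

theorem inj4 {ι : Type*} {i j k l : ι} (hij : i ≠ j) (hik : i ≠ k) (hil : i ≠ l) (hjk : j ≠ k) (hjl : j ≠ l)
    (hkl : k ≠ l) : Function.Injective ![i, j, k, l] := by
  intro a b hab
  fin_cases a <;> fin_cases b <;> simp_all

theorem inj5 {ι : Type*} {i j k l m : ι} (hij : i ≠ j) (hik : i ≠ k) (hil : i ≠ l) (him : i ≠ m) (hjk : j ≠ k)
    (hjl : j ≠ l) (hjm : j ≠ m) (hkl : k ≠ l) (hkm : k ≠ m) (hlm : l ≠ m) :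
    Function.Injective ![i, j, k, l, m] := by
  intro a b hab
  fin_cases a <;> fin_cases b <;> simp_all

variable {ι : Type*} [Fintype ι] {c : ι → ι → ℝ}

/-- An edge is simple or double as soon as it has a neighbouring edge. -/
theorem Sys.one_or (h : Sys c) {i j k : ι} (hij : i ≠ j) (hjk : j ≠ k) (hik : i ≠ k)
    (h1 : c i j ≠ 0) (h2 : c j k ≠ 0) : c i j = 1 ∨ c i j = √2 := by
  rcases h.chain3 hij hjk hik h1 h2 with h | h | h
  · exact Or.inl h.1
  · exact Or.inl h.1
  · exact Or.inr h.1

theorem Sys.ne_symm (h : Sys c) {i j : ι} (h1 : c i j ≠ 0) : c j i ≠ 0 := by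
  rwa [h.symm]

/-- At a vertex of valency three all three edges are simple. -/
theorem Sys.fork_simple (h : Sys c) {i j k l : ι} (hij : i ≠ j) (hik : i ≠ k) (hil : i ≠ l)
    (hjk : j ≠ k) (hjl : j ≠ l) (hkl : k ≠ l) (h1 : c i j ≠ 0) (h2 : c i k ≠ 0) (h3 : c i l ≠ 0) :
    c i j = 1 := by
  rcases h.one_or hij.symm hik hjk (h.ne_symm h1) h2 with h4 | h4
  · rw [h.symm]; exact h4
  · exfalso
    refine fork_double_fin (t := 3) le_rfl _ (h.comp ![k, l, i, j]
      (inj4 hkl hik.symm hjk.symm hil.symm hjl.symm hij)) ?_ ?_ ?_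
    · intro a b ha hb
      have ha' := a.isLt
      have hb' := b.isLt
      obtain ⟨a, _⟩ := a
      obtain ⟨b, _⟩ := b
      simp only at ha hb
      have : a = 1 ∨ a = 2 := by omega
      rcases this with rfl | rfl
      · obtain rfl : b = 2 := by omega
        exact h.ne_symm h3
      · obtain rfl : b = 3 := by omega
        exact h1
    · intro a b ha hb
      obtain ⟨a, _⟩ := a
      obtain ⟨b, _⟩ := b
      simp only at ha hb
      subst ha; subst hb
      exact h.ne_symm h2
    · intro a b ha hb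
      obtain ⟨a, _⟩ := a
      obtain ⟨b, _⟩ := b
      simp only at ha hb
      obtain rfl : a = 2 := by omega
      subst hb
      change c i j = √2
      rw [h.symm]; exact h4

/-- `D̃`-`B` type: a fork `k, l` at `j` and a chain `j - i - m`: the edge `i - m` is simple. -/
theorem Sys.fork_next (h : Sys c) {i j k l m : ι} (hij : i ≠ j) (hik : i ≠ k) (hil : i ≠ l)
    (him : i ≠ m) (hjk : j ≠ k) (hjl : j ≠ l) (hjm : j ≠ m) (hkl : k ≠ l) (hkm : k ≠ m)
    (hlm : l ≠ m) (h1 : c j k ≠ 0) (h2 : c j l ≠ 0) (h3 : c j i ≠ 0) (h4 : c i m ≠ 0) :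
    c i m = 1 := by
  rcases h.one_or him.symm hij hjm.symm (h.ne_symm h4) (h.ne_symm h3) with h5 | h5
  · rw [h.symm]; exact h5
  · exfalso
    refine fork_double_fin (t := 4) (by norm_num) _ (h.comp ![k, l, j, i, m]
      (inj5 hkl hjk.symm hik.symm hkm hjl.symm hil.symm hlm hij.symm hjm him)) ?_ ?_ ?_
    · intro a b ha hb
      have ha' := a.isLt
      have hb' := b.isLt
      obtain ⟨a, _⟩ := a
      obtain ⟨b, _⟩ := b
      simp only at ha hb
      have : a = 1 ∨ a = 2 ∨ a = 3 := by omega
      rcases this with rfl | rfl | rfl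
      · obtain rfl : b = 2 := by omega
        exact h.ne_symm h2
      · obtain rfl : b = 3 := by omega
        exact h3
      · obtain rfl : b = 4 := by omega
        exact h4
    · intro a b ha hb
      obtain ⟨a, _⟩ := a
      obtain ⟨b, _⟩ := b
      simp only at ha hb
      subst ha; subst hb
      exact h.ne_symm h1
    · intro a b ha hb
      obtain ⟨a, _⟩ := a
      obtain ⟨b, _⟩ := b
      simp only at ha hb
      obtain rfl : a = 3 := by omega
      subst hb
      change c i m = √2
      rw [h.symm]; exact h5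

end K378.Dynkin
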