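import Groth.Agent.Models.K378.Small
import Groth.Agent.Models.K378.Gram

set_option autoImplicit false

open Finset

/-! From numerical types to Dynkin systems, and the inequalities on multiplicities. -/

namespace K378.Types

open Groth.Agent.Models.NumBasic K378.Gram K378.Dynkin

variable {n : ℕ} (T : Models.NumericalType n)

/-- A proper family of `(-2)`-indices gives a Dynkin system. -/
theorem sys (hn : 2 < n) {ι : Type*} [Fintype ι] (v : ι → Fin n) (hv : Function.Injective v)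
    (ht : Fintype.card ι < n) (h2 : ∀ j, T.IsMinusTwo (v j)) :
    Sys (fun i j => gram T (v i) (v j)) :=
  ⟨fun i j => gram_symm T _ _, fun i => gram_diag T _ (h2 i),
    fun i j hij => gram_cases T hn _ _ (hv.ne hij) (h2 i) (h2 j),
    fun x hx => gram_neg T v hv ht x hx⟩

theorem sys' {t : ℕ} (h2t : 2 ≤ t) (v : Fin t → Fin n) (hv : Function.Injective v)
    (ht : t < n) (h2 : ∀ j, T.IsMinusTwo (v j)) :
    Sys (fun i j => gram T (v i) (v j)) :=
  sys T (by omega) v hv (by simpa using ht) h2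

theorem gram_ne (i j : Fin n) (h : T.a i j ≠ 0) : gram T i j ≠ 0 :=
  fun h0 => h ((gram_eq_zero_iff T i j).1 h0)

/-- Row inequality: the contributions of a set of other indices are bounded by the diagonal. -/
theorem row_ineq (i : Fin n) (hi : T.IsMinusTwo i) (s : Finset (Fin n)) (his : i ∉ s) :
    ∑ j ∈ s, T.a i j * T.m j ≤ 2 * (T.w i * T.m i) := by
  have h1 := diag_mul_eq T i
  rw [hi.2] at h1
  have h2 : ∑ j ∈ s, T.a i j * T.m j ≤ ∑ j ∈ univ.erase i, T.a i j * T.m j := by
    refine Finset.sum_le_sum_of_subset_of_nonneg (fun j hj => ?_) fun j hj _ => ?_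
    · rw [Finset.mem_erase]
      exact ⟨fun h => his (h ▸ hj), Finset.mem_univ j⟩
    · exact mul_nonneg (T.offDiag_nonneg i j (Finset.ne_of_mem_erase hj).symm) (T.m_pos j).le
  linarith

theorem m_ineq1 (i j : Fin n) (hi : T.IsMinusTwo i) (hij : i ≠ j) (p : ℤ)
    (hp : T.a i j = T.w i * p) : p * T.m j ≤ 2 * T.m i := by
  have h := row_ineq T i hi {j} (by simpa using hij)
  rw [Finset.sum_singleton, hp] at h
  have hw := T.w_pos i
  have : T.w i * (p * T.m j) ≤ T.w i * (2 * T.m i) := by linarith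
  exact le_of_mul_le_mul_left this hw

theorem m_ineq2 (i j k : Fin n) (hi : T.IsMinusTwo i) (hij : i ≠ j) (hik : i ≠ k) (hjk : j ≠ k)
    (p q : ℤ) (hp : T.a i j = T.w i * p) (hq : T.a i k = T.w i * q) :
    p * T.m j + q * T.m k ≤ 2 * T.m i := by
  have h := row_ineq T i hi {j, k} (by simp [hij, hik])
  rw [Finset.sum_pair hjk, hp, hq] at h
  have hw := T.w_pos i
  have : T.w i * (p * T.m j + q * T.m k) ≤ T.w i * (2 * T.m i) := by linarith
  exact le_of_mul_le_mul_left this hw

theorem m_ineq3 (i j k l : Fin n) (hi : T.IsMinusTwo i) (hij : i ≠ j) (hik : i ≠ k) (hil : i ≠ l)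
    (hjk : j ≠ k) (hjl : j ≠ l) (hkl : k ≠ l)
    (p q r : ℤ) (hp : T.a i j = T.w i * p) (hq : T.a i k = T.w i * q) (hr : T.a i l = T.w i * r) :
    p * T.m j + q * T.m k + r * T.m l ≤ 2 * T.m i := by
  have h := row_ineq T i hi {j, k, l} (by simp [hij, hik, hil])
  rw [Finset.sum_insert (by simp [hjk, hjl]), Finset.sum_pair hkl, hp, hq, hr] at h
  have hw := T.w_pos i
  have : T.w i * (p * T.m j + q * T.m k + r * T.m l) ≤ T.w i * (2 * T.m i) := by linarith
  exact le_of_mul_le_mul_left this hw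

/-- A simple edge between `(-2)`-indices. -/
theorem simple_edge (hn : 2 < n) (i j : Fin n) (hij : i ≠ j) (hi : T.IsMinusTwo i)
    (hj : T.IsMinusTwo j) (h : gram T i j = 1) :
    T.a i j = T.w i ∧ T.a j i = T.w i ∧ T.w j = T.w i := by
  obtain ⟨h1, h2⟩ := of_gram_eq_one T hn i j hij hi hj h
  exact ⟨h1, (a_symm T j i).trans h1, h2.symm⟩

/-- A double edge between `(-2)`-indices. -/
theorem double_edge (hn : 2 < n) (i j : Fin n) (hij : i ≠ j) (hi : T.IsMinusTwo i)
    (hj : T.IsMinusTwo j) (h : gram T i j = √2) :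
    (T.a i j = 2 * T.w j ∧ T.a j i = 2 * T.w j ∧ T.w i = 2 * T.w j) ∨
      (T.a i j = 2 * T.w i ∧ T.a j i = 2 * T.w i ∧ T.w j = 2 * T.w i) := by
  rcases of_gram_eq_sqrt_two T hn i j hij hi hj h with ⟨h1, h2⟩ | ⟨h1, h2⟩
  · exact Or.inl ⟨h1.trans h2, ((a_symm T j i).trans h1).trans h2, h2⟩
  · exact Or.inr ⟨h1.trans h2, ((a_symm T j i).trans h1).trans h2, h2⟩

end K378.Types
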